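import Cfsg.Agent.Lib.PLocal.SLTwo.Faithful
import Cfsg.Agent.Lib.Core.Coprime
import Cfsg.Prelude.Def_Local

/-!
# Groups without a section `SL(2, p)` are `p`-stable
-/

set_option autoImplicit false

namespace CfsgLib.PLocal.SLTwo

open Subgroup
open scoped commutatorElement

variable {G : Type*} [Group G] [Finite G] {p : ℕ} [Fact p.Prime]

theorem frattini_section_elementary (P : Subgroup G) (hP : IsPGroup p P)
    [((frattini P).map P.subtype).Normal] :
    Cfsg.IsElementaryAbelian p (P.map (QuotientGroup.mk' ((frattini P).map P.subtype))) := by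
  obtain ⟨hc, hpow⟩ := CfsgLib.PGroups.frattini_quotient hP
  refine ⟨le_centralizer_iff_isMulCommutative.1 ?_, ?_⟩
  · rintro _ ⟨x, hx, rfl⟩
    rw [mem_centralizer_iff]
    rintro _ ⟨y, hy, rfl⟩
    rw [← map_mul, ← map_mul]
    refine QuotientGroup.eq.2 ⟨(⟨y, hy⟩ * ⟨x, hx⟩)⁻¹ * (⟨x, hx⟩ * ⟨y, hy⟩), ?_, by simp⟩
    exact QuotientGroup.eq.1 (hc.is_comm.comm (QuotientGroup.mk ⟨y, hy⟩) (QuotientGroup.mk ⟨x, hx⟩))
  · rintro _ ⟨x, hx, rfl⟩
    rw [← map_pow]
    refine (QuotientGroup.eq_one_iff _).2 ⟨(⟨x, hx⟩ : P) ^ p, ?_, by simp⟩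
    have := hpow (QuotientGroup.mk ⟨x, hx⟩)
    rwa [← QuotientGroup.mk_pow, QuotientGroup.eq_one_iff] at this

/-- a quadratic element on a normal `p`-subgroup lies in `O_p` modulo its centraliser -/
theorem mem_pCore_of_noSL (hp : p ≠ 2) (h : NoSL p G) (P : Subgroup G) [P.Normal]
    (hP : IsPGroup p P) {a : G} (hq : ⁅⁅P, zpowers a⁆, zpowers a⁆ = ⊥) :
    (QuotientGroup.mk a : G ⧸ centralizer (P : Set G))
      ∈ Cfsg.pCore p (G ⧸ centralizer (P : Set G)) := by
  classical
  set N := (frattini P).map P.subtype with hN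
  haveI : N.Normal := inferInstance
  obtain ⟨D, hDn, hle, ⟨k, hk⟩, haD⟩ :=
    isPStableOnSection_of_noSL hp h P N (frattini_section_elementary P hP) a (hq.le.trans bot_le)
  haveI := hDn
  have hpow : ∀ d ∈ D, ∃ j, d ^ p ^ j ∈ centralizer (P : Set G) := by
    intro d hd
    haveI : (Cfsg.sectionKernel P N).Normal := by
      rw [Cfsg.sectionKernel]
      haveI : (P.map (QuotientGroup.mk' N)).Normal :=
        Subgroup.Normal.map ‹P.Normal› _ (QuotientGroup.mk'_surjective _)
      infer_instance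
    set z := d ^ p ^ k with hz
    have hzK : z ∈ Cfsg.sectionKernel P N := by
      have h1 := pow_index_mem ((Cfsg.sectionKernel P N).subgroupOf D) (⟨d, hd⟩ : D)
      rw [← relIndex, hk] at h1
      simpa [mem_subgroupOf, hz] using h1
    obtain ⟨e, m, hm, hem⟩ := Nat.exists_eq_pow_mul_and_not_dvd (orderOf_pos z).ne' p
      (Fact.out : p.Prime).ne_one
    refine ⟨k + e, ?_⟩
    rw [pow_add, pow_mul, ← hz]
    set y := z ^ p ^ e with hy
    have hyo : orderOf y = m := by
      rw [hy, orderOf_pow_of_dvd (pow_ne_zero _ (Fact.out : p.Prime).ne_zero) ⟨m, hem⟩, hem,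
        Nat.mul_div_cancel_left _ (pow_pos (Fact.out : p.Prime).pos _)]
    have hyK : y ∈ Cfsg.sectionKernel P N := pow_mem hzK _
    have hcop : (Nat.card (zpowers y)).Coprime (Nat.card (frattini P)) := by
      obtain ⟨j, hj⟩ := IsPGroup.iff_card.1 (hP.to_subgroup (frattini P))
      rw [Nat.card_zpowers, hyo, hj]
      exact (((Fact.out : p.Prime).coprime_iff_not_dvd.2 hm).symm).pow_right j
    have hA : zpowers y ≤ normalizer (P : Set G) := by
      rw [normalizer_eq_top]; exact le_top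
    have := CfsgLib.Core.centralizes_of_centralizes_frattini_quotient hA hcop (by
      intro b hb x hx
      have hbK : b ∈ Cfsg.sectionKernel P N := (zpowers_le.2 hyK) hb
      have hc := mem_centralizer_iff.1 (mem_comap.1 hbK) _ (mem_map_of_mem (QuotientGroup.mk' N) hx)
      rw [← QuotientGroup.eq_one_iff]
      show (QuotientGroup.mk' N) (b * x * b⁻¹ * x⁻¹) = 1
      rw [map_mul, map_mul, map_mul, map_inv, map_inv, ← hc, mul_inv_cancel_right, mul_inv_cancel])
    rw [mem_centralizer_iff]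
    intro x hx
    exact mem_centralizer_iff.1 (this (mem_zpowers y)) x hx
  have hDq : IsPGroup p (D.map (QuotientGroup.mk' (centralizer (P : Set G)))) := by
    rintro ⟨_, d, hd, rfl⟩
    obtain ⟨j, hj⟩ := hpow d hd
    exact ⟨j, Subtype.ext ((QuotientGroup.eq_one_iff _).2 hj)⟩
  haveI : (D.map (QuotientGroup.mk' (centralizer (P : Set G)))).Normal :=
    Subgroup.Normal.map hDn _ (QuotientGroup.mk'_surjective _)
  exact CfsgLib.Core.le_pCore hDq (mem_map_of_mem _ haD)

/-- no `SL(2, p)` section gives `p`-stability -/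
theorem isPStable_of_noSL (hp : p ≠ 2) (h : NoSL p G) (hne : Cfsg.pCore p G ≠ ⊥) :
    Cfsg.IsPStable p G := by
  refine ⟨(Fact.out : p.Prime).odd_of_ne_two hp, hne, ?_⟩
  intro A P _ hP hAP _ _ hq
  set N := normalizer (P : Set G) with hN
  haveI : (P.subgroupOf N).Normal := normal_in_normalizer
  have hAN : A ≤ N := fun a ha => by
    refine mem_normalizer_iff.2 fun x => ⟨fun hx => hAP a ha x hx, fun hx => ?_⟩
    have := hAP a⁻¹ (inv_mem ha) _ hx
    simpa [mul_assoc] using this
  have hC : centralizer ((P.subgroupOf N : Subgroup N) : Set N)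
      = (centralizer (P : Set G)).subgroupOf N := by
    ext x
    rw [mem_centralizer_iff, mem_subgroupOf, mem_centralizer_iff]
    constructor
    · intro h y hy
      exact congrArg Subtype.val (h ⟨y, le_normalizer hy⟩ hy)
    · intro h y hy
      exact Subtype.ext (h y hy)
  rintro _ ⟨⟨a, haN⟩, ha, rfl⟩
  have hqa : ⁅⁅P.subgroupOf N, zpowers (⟨a, haN⟩ : N)⁆, zpowers (⟨a, haN⟩ : N)⁆ = ⊥ := by
    refine map_injective N.subtype_injective ?_
    rw [map_commutator, map_commutator, subgroupOf_map_subtype, inf_eq_left.2 le_normalizer,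
      MonoidHom.map_zpowers, Subgroup.map_bot, eq_bot_iff, ← hq]
    exact commutator_mono (commutator_mono le_rfl (zpowers_le.2 ha)) (zpowers_le.2 ha)
  have hmem := mem_pCore_of_noSL hp (noSL_subgroup h N) (P.subgroupOf N)
    (hP.of_equiv (subgroupOfEquivOfLe le_normalizer).symm) (a := ⟨a, haN⟩) hqa
  have hm := CfsgLib.Core.map_equiv_pCore (p := p) (QuotientGroup.quotientMulEquivOfEq hC)
  rw [← hm]
  exact ⟨_, hmem, rfl⟩

end CfsgLib.PLocal.SLTwo
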