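import Cfsg.Agent.Lib.PLocal.SLTwo.Dickson
import Mathlib.Algebra.Group.Subgroup.Pointwise

/-!
# `SL(2, p)` inside a finite subgroup with two non-commuting elements of order `p`
-/

set_option autoImplicit false

namespace CfsgLib.PLocal.SLTwo

open Subgroup

variable {K : Type*} [Field K] {p : ℕ} [Fact p.Prime] [CharP K p]

/-- an element of trace two, not one, is a conjugate of some `U t` -/
theorem exists_conj_U {u : S2 K} (ht : tr u = 2) :
    ∃ (g : S2 K) (t : K), g * u * g⁻¹ = U t := by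
  have hd := det2 u
  unfold tr at ht
  have h11 : u.1 1 1 = 2 - u.1 0 0 := by linear_combination ht
  by_cases hc : u.1 1 0 = 0
  · refine ⟨1, u.1 0 1, ?_⟩
    rw [hc, mul_zero, sub_zero, h11] at hd
    have h1 : (u.1 0 0 - 1) ^ 2 = 0 := by linear_combination (-1 : K) * hd
    have ha : u.1 0 0 = 1 := sub_eq_zero.1 (pow_eq_zero_iff two_ne_zero |>.1 h1)
    rw [one_mul, inv_one, mul_one]
    refine ext2 (by simpa using ha) rfl (by simpa using hc) ?_
    simp only [U11, h11, ha]; ring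
  · let w : S2 K := ⟨!![0, 1; -1, 0], by simp [Matrix.det_fin_two_of]⟩
    have w00 : w.1 0 0 = 0 := rfl
    have w01 : w.1 0 1 = 1 := rfl
    have w10 : w.1 1 0 = -1 := rfl
    have w11 : w.1 1 1 = 0 := rfl
    refine ⟨w * U (-((u.1 0 0 - 1) / u.1 1 0)), -(u.1 1 0), ?_⟩
    have e : U (-((u.1 0 0 - 1) / u.1 1 0)) * u * (U (-((u.1 0 0 - 1) / u.1 1 0)))⁻¹
        = Lo (u.1 1 0) := by
      rw [U_inv]
      refine ext2 ?_ ?_ ?_ ?_ <;> simp [m00, m01, m10, m11, h11] <;> field_simp
      all_goals first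
        | ring1
        | linear_combination hd
        | linear_combination (-1 : K) * hd
        | (rw [h11] at hd; first
            | linear_combination hd
            | linear_combination (-1 : K) * hd
            | linear_combination (u.1 1 0) * hd
            | linear_combination (-u.1 1 0) * hd)
    rw [mul_inv_rev, show ∀ a b c : S2 K, a * b * c * (b⁻¹ * a⁻¹) = a * (b * c * b⁻¹) * a⁻¹ from
      fun a b c => by group, e]
    refine ext2 ?_ ?_ ?_ ?_ <;>
      simp [m00, m01, m10, m11, i00, i01, i10, i11, w00, w01, w10, w11]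

/-- an element killed by `p` has trace two -/
theorem tr_eq_two_of_pow_p {x : S2 K} (h : x ^ p = 1) : tr x = 2 := by
  have hx : ((x : Matrix (Fin 2) (Fin 2) K)) ^ p = 1 := by
    have := congrArg Subtype.val h
    simpa using this
  have hn : IsNilpotent ((x : Matrix (Fin 2) (Fin 2) K) - 1) := by
    refine ⟨p, ?_⟩
    rw [sub_pow_char_of_commute p (Commute.one_right _), one_pow, hx, sub_self]
  have := (Matrix.isNilpotent_trace_of_isNilpotent hn).eq_zero
  rw [Matrix.trace_sub, Matrix.trace_one, Matrix.trace_fin_two, sub_eq_zero] at this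
  simpa [tr] using this

theorem neg_one_sq : ((-1 : S2 K)) ^ 2 = 1 := by simp

/-- two non-commuting unipotent elements of a finite subgroup give `SL(2, p)` -/
theorem exists_std_SLTwo (hp : p ≠ 2) (L : Subgroup (S2 K)) [Finite L] {u v : S2 K}
    (hu : u ∈ L) (hv : v ∈ L) (htu : tr u = 2) (htv : tr v = 2) (hne : u * v ≠ v * u) :
    HasStd p L := by
  classical
  have hpp : p.Prime := Fact.out
  have h2 : (2 : K) ≠ 0 := fun h => hp (((Nat.prime_dvd_prime_iff_eq hpp Nat.prime_two).1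
    ((CharP.cast_eq_zero_iff K p 2).1 (by simpa using h))))
  obtain ⟨g, t, ht⟩ := exists_conj_U htu
  have ht0 : t ≠ 0 := fun h0 => hne (by
    rw [h0, U_zero, mul_inv_eq_one, mul_eq_left] at ht
    rw [ht, one_mul, mul_one])
  let α : S2 K ≃* S2 K := (MulAut.conj g).trans (scale t⁻¹ (inv_ne_zero ht0))
  have hαu : α u = U 1 := by
    show scale t⁻¹ (inv_ne_zero ht0) (g * u * g⁻¹) = U 1
    rw [ht, scale_U, mul_inv_cancel₀ ht0]
  have hαv : tr (α v) = 2 := by
    have h := tr_conj v g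
    show tr (scale t⁻¹ (inv_ne_zero ht0) (g * v * g⁻¹)) = 2
    show tr (scaleFun t⁻¹ (inv_ne_zero ht0) (g * v * g⁻¹)) = 2
    unfold tr at h htv ⊢
    simp only [scaleFun00, scaleFun11]
    linear_combination h + htv
  have hv10 : (α v).1 1 0 ≠ 0 := fun h0 => by
    refine hne (α.injective ?_)
    have hd := det2 (α v)
    unfold tr at hαv
    have h11 : (α v).1 1 1 = 2 - (α v).1 0 0 := by linear_combination hαv
    rw [h0, mul_zero, sub_zero, h11] at hd
    have h1 : ((α v).1 0 0 - 1) ^ 2 = 0 := by linear_combination (-1 : K) * hd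
    have ha : (α v).1 0 0 = 1 := sub_eq_zero.1 (pow_eq_zero_iff two_ne_zero |>.1 h1)
    have e : α v = U ((α v).1 0 1) := by
      refine ext2 (by simpa using ha) rfl (by simpa using h0) ?_
      simp only [U11, h11, ha]; ring
    rw [map_mul, map_mul, hαu, e, U_mul, U_mul, add_comm]
  let L0 : Subgroup (S2 K) := L.map α.toMonoidHom
  haveI : Finite L0 := Finite.of_surjective (fun x : L => (⟨α x, mem_map_of_mem _ x.2⟩ : L0)) (by
    rintro ⟨_, x, hx, rfl⟩; exact ⟨⟨x, hx⟩, rfl⟩)
  -- adjoin `-1`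
  let L1 : Subgroup (S2 K) :=
    { carrier := {x | x ∈ L0 ∨ -x ∈ L0}
      one_mem' := Or.inl L0.one_mem
      mul_mem' := by
        rintro x y (hx | hx) (hy | hy)
        · exact Or.inl (L0.mul_mem hx hy)
        · exact Or.inr (by simpa using L0.mul_mem hx hy)
        · exact Or.inr (by simpa using L0.mul_mem hx hy)
        · exact Or.inl (by simpa using L0.mul_mem hx hy)
      inv_mem' := by
        rintro x (hx | hx)
        · exact Or.inl (L0.inv_mem hx)
        · refine Or.inr ?_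
          have e : (-x)⁻¹ = -x⁻¹ := inv_eq_of_mul_eq_one_right (by simp)
          exact e ▸ L0.inv_mem hx }
  haveI : Finite L1 :=
    Finite.of_injective (fun x : L1 => if h : x.1 ∈ L0 then ((⟨x.1, h⟩ : L0), true)
      else ((⟨-x.1, x.2.resolve_left h⟩ : L0), false)) (by
      intro x y h
      dsimp only at h
      by_cases hx : x.1 ∈ L0 <;> by_cases hy : y.1 ∈ L0 <;>
        simp only [hx, hy, dite_true, dite_false, Prod.mk.injEq, Subtype.mk.injEq,
          Bool.true_eq_false, Bool.false_eq_true, and_true, and_false] at h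
      · exact Subtype.ext h
      · exact Subtype.ext (neg_injective h))
  obtain ⟨P, hPL⟩ := exists_std_core (p := p) h2 L1 (Or.inr (by simp [L0.one_mem]))
    (Or.inl (hαu ▸ mem_map_of_mem α.toMonoidHom hu))
    ⟨α v, Or.inl (mem_map_of_mem α.toMonoidHom hv), hv10⟩
  have hsq : ∀ z ∈ L1, z ^ 2 ∈ L0 := by
    rintro z (hz | hz)
    · exact L0.pow_mem hz 2
    · simpa using L0.pow_mem hz 2
  obtain ⟨k, hk⟩ := hpp.odd_of_ne_two hp
  obtain ⟨A, hA⟩ := exists_cj_conj g⁻¹
  obtain ⟨B, hB⟩ := exists_cj_scale t (ht0)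
  have hαsymm : ∀ z, α.symm z = cj (A * B) z := by
    intro z
    refine α.injective ?_
    rw [α.apply_symm_apply, cj_mul_apply, ← hA, inv_inv]
    show z = scale t⁻¹ (inv_ne_zero ht0) (g * (g⁻¹ * cj B z * g) * g⁻¹)
    rw [← hB]
    simp only [mul_assoc, mul_inv_cancel_left, mul_inv_cancel, mul_one]
    refine ext2 ?_ ?_ ?_ ?_ <;> simp [scale, ht0]
  have key : ∀ x : S2 (ZMod p), x ^ p = 1 → cj (A * B * P) (ofZMod p x) ∈ L := by
    intro x hx
    rw [cj_mul_apply, ← hαsymm]
    have hz : cj P (ofZMod p x) ∈ L0 := by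
      have h1 : (cj P (ofZMod p x) ^ 2) ^ (k + 1) = cj P (ofZMod p x) := by
        rw [← pow_mul, show 2 * (k + 1) = p + 1 by omega, pow_succ, ← map_pow, ← map_pow, hx,
          map_one, map_one, one_mul]
      exact h1 ▸ L0.pow_mem (hsq _ (hPL x)) _
    obtain ⟨y, hy, hyx⟩ := hz
    rw [← hyx]
    simpa using hy
  have hU := key (U 1) (by rw [U_pow, mul_one, ZMod.natCast_self, U_zero])
  have hLo := key (Lo 1) (by rw [Lo_pow, mul_one, ZMod.natCast_self, Lo_zero])
  rw [ofZMod_U, map_one] at hU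
  rw [ofZMod_Lo, map_one] at hLo
  exact hasStd_of_generators hU hLo

/-- two non-commuting unipotent elements of a finite subgroup give `SL(2, p)` -/
theorem exists_hom_SLTwo (hp : p ≠ 2) (L : Subgroup (S2 K)) [Finite L] {u v : S2 K}
    (hu : u ∈ L) (hv : v ∈ L) (htu : tr u = 2) (htv : tr v = 2) (hne : u * v ≠ v * u) :
    ∃ ψ : S2 (ZMod p) →* S2 K, Function.Injective ψ ∧ ψ.range ≤ L :=
  (exists_std_SLTwo hp L hu hv htu htv hne).exists_hom

/-- two anticommuting elements of `SL(2, p)` -/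
theorem exists_quaternion (hp : p ≠ 2) :
    ∃ i j : S2 (ZMod p), i ^ 2 = -1 ∧ j ^ 2 = -1 ∧ i * j = -(j * i) ∧ i * j ≠ j * i := by
  obtain ⟨a, b, hab⟩ := ZMod.sq_add_sq p (-1)
  let i : S2 (ZMod p) := ⟨!![0, 1; -1, 0], by simp [Matrix.det_fin_two_of]⟩
  let j : S2 (ZMod p) := ⟨!![a, b; b, -a], by
    rw [Matrix.det_fin_two_of]; linear_combination (-1 : ZMod p) * hab⟩
  have i_00 : i.1 0 0 = 0 := rfl
  have i_01 : i.1 0 1 = 1 := rfl
  have i_10 : i.1 1 0 = -1 := rfl
  have i_11 : i.1 1 1 = 0 := rfl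
  have j_00 : j.1 0 0 = a := rfl
  have j_01 : j.1 0 1 = b := rfl
  have j_10 : j.1 1 0 = b := rfl
  have j_11 : j.1 1 1 = -a := rfl
  refine ⟨i, j, ?_, ?_, ?_, ?_⟩
  · rw [pow_two]
    refine ext2 ?_ ?_ ?_ ?_ <;> simp [m00, m01, m10, m11, i_00, i_01, i_10, i_11]
  · rw [pow_two]
    refine ext2 ?_ ?_ ?_ ?_ <;> simp [m00, m01, m10, m11, j_00, j_01, j_10, j_11] <;>
      first | linear_combination hab | ring1
  · refine ext2 ?_ ?_ ?_ ?_ <;>
      simp [m00, m01, m10, m11, i_00, i_01, i_10, i_11, j_00, j_01, j_10, j_11]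
  · intro h
    have hpp : p.Prime := Fact.out
    have h2 : (2 : ZMod p) ≠ 0 := fun h0 => hp ((Nat.prime_dvd_prime_iff_eq hpp Nat.prime_two).1
      ((ZMod.natCast_eq_zero_iff 2 p).1 (by simpa using h0)))
    have h00 := congrArg (fun z : S2 (ZMod p) => z.1 0 0) h
    have h01 := congrArg (fun z : S2 (ZMod p) => z.1 0 1) h
    simp [m00, m01, i_00, i_01, i_10, i_11, j_00, j_01, j_10, j_11] at h00 h01
    have hb : b = 0 := (mul_eq_zero.1 (show 2 * b = 0 by linear_combination h00)).resolve_left h2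
    have ha : a = 0 := (mul_eq_zero.1 (show 2 * a = 0 by linear_combination (-1 : ZMod p) * h01)).resolve_left h2
    rw [ha, hb] at hab
    simp at hab

end CfsgLib.PLocal.SLTwo
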