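import Cfsg.Agent.Lib.PLocal.SLTwo.QdSection
import Cfsg.Agent.Lib.PLocal.SLTwo.PStableCrit
import Cfsg.Agent.Lib.Fusion.Sections
import Cfsg.Agent.Lib.PLocal.ZJ

/-!
# Groups not involving `Qd(p)` are stable
-/

set_option autoImplicit false

namespace CfsgLib.PLocal.SLTwo

open Subgroup
open scoped commutatorElement

universe u

/-- no section is `Qd(p)` -/
def NoQd (p : ℕ) (G : Type*) [Group G] : Prop := ¬ Cfsg.Involves ↥(Cfsg.qd p) G

theorem noQd_of_surjective {G H : Type*} [Group G] [Group H] {p : ℕ} (f : G →* H)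
    (hf : Function.Surjective f) (h : NoQd p G) : NoQd p H := by
  rintro ⟨K, R, hR, ⟨e⟩⟩
  let g : K.comap f →* K := f.subgroupComap K
  have hg : Function.Surjective g := fun ⟨k, hk⟩ => by
    obtain ⟨x, rfl⟩ := hf k
    exact ⟨⟨x, hk⟩, rfl⟩
  let π : K.comap f →* Cfsg.qd p :=
    (e.toMonoidHom.comp (QuotientGroup.mk' (R.subgroupOf K))).comp g
  have hπ : Function.Surjective π :=
    (e.surjective.comp (QuotientGroup.mk'_surjective _)).comp hg
  have he : (π.ker.map (K.comap f).subtype).subgroupOf (K.comap f) = π.ker :=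
    comap_map_eq_self_of_injective (Subgroup.subtype_injective _) _
  haveI hn : ((π.ker.map (K.comap f).subtype).subgroupOf (K.comap f)).Normal := by
    rw [he]; infer_instance
  exact h ⟨K.comap f, π.ker.map (K.comap f).subtype, hn,
    ⟨(QuotientGroup.quotientMulEquivOfEq he).trans
      (QuotientGroup.quotientKerEquivOfSurjective π hπ)⟩⟩

theorem noQd_subgroup {G : Type*} [Group G] {p : ℕ} (h : NoQd p G) (X : Subgroup G) :
    NoQd p X := by
  rintro ⟨K, R, hR, ⟨e⟩⟩
  let e0 : K ≃* ↥(K.map X.subtype) := equivMapOfInjective _ _ X.subtype_injective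
  let π : ↥(K.map X.subtype) →* Cfsg.qd p :=
    (e.toMonoidHom.comp (QuotientGroup.mk' (R.subgroupOf K))).comp e0.symm.toMonoidHom
  have hπ : Function.Surjective π :=
    (e.surjective.comp (QuotientGroup.mk'_surjective _)).comp e0.symm.surjective
  have he : (π.ker.map (K.map X.subtype).subtype).subgroupOf (K.map X.subtype) = π.ker :=
    comap_map_eq_self_of_injective (Subgroup.subtype_injective _) _
  haveI hn : ((π.ker.map (K.map X.subtype).subtype).subgroupOf (K.map X.subtype)).Normal := by
    rw [he]; infer_instance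
  exact h ⟨K.map X.subtype, π.ker.map (K.map X.subtype).subtype, hn,
    ⟨(QuotientGroup.quotientMulEquivOfEq he).trans
      (QuotientGroup.quotientKerEquivOfSurjective π hπ)⟩⟩

theorem isPStableOn_of_noQd {G : Type*} [Group G] [Finite G] {p : ℕ} [Fact p.Prime] (hp : p ≠ 2)
    (h : NoQd p G) (V : Subgroup G) [V.Normal] (hV : Cfsg.IsElementaryAbelian p V) :
    Cfsg.IsPStableOn p V := fun a hq => by
  by_contra hna
  exact h (involves_qd_of_quad hp V hV hq hna)

/-- no `Qd(p)` section gives stability of the action on elementary abelian normal sections -/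
theorem isPStableOnSection_of_noQd {G : Type*} [Group G] [Finite G] {p : ℕ} [Fact p.Prime]
    (hp : p ≠ 2) (h : NoQd p G) (K N : Subgroup G) [K.Normal] [N.Normal]
    (hV : Cfsg.IsElementaryAbelian p (K.map (QuotientGroup.mk' N))) :
    Cfsg.IsPStableOnSection p K N := by
  classical
  intro a hq
  set π := QuotientGroup.mk' N with hπ
  set V := K.map π with hVdef
  haveI : V.Normal := Subgroup.Normal.map ‹K.Normal› π (QuotientGroup.mk'_surjective _)
  have hst := isPStableOn_of_noQd hp (noQd_of_surjective π (QuotientGroup.mk'_surjective _) h) V hV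
    (π a) (by
      rw [hVdef, ← MonoidHom.map_zpowers, ← map_commutator, ← map_commutator, Subgroup.map_eq_bot_iff,
        QuotientGroup.ker_mk']
      exact hq)
  let ψ : G →* (G ⧸ N) ⧸ centralizer (V : Set (G ⧸ N)) :=
    (QuotientGroup.mk' _).comp π
  have hψ : Function.Surjective ψ :=
    (QuotientGroup.mk'_surjective _).comp (QuotientGroup.mk'_surjective _)
  have hker : ψ.ker = Cfsg.sectionKernel K N := by
    rw [Cfsg.sectionKernel, ← MonoidHom.comap_ker, QuotientGroup.ker_mk']
  refine ⟨(Cfsg.pCore p _).comap ψ, ?_, ?_, ?_, hst⟩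
  · infer_instance
  · rw [← hker]; exact ker_le_comap _ _
  · obtain ⟨k, hk⟩ := IsPGroup.iff_card.1
      (CfsgLib.Core.isPGroup_pCore p ((G ⧸ N) ⧸ centralizer (V : Set (G ⧸ N))))
    refine ⟨k, ?_⟩
    rw [← hker, ← MonoidHom.comap_bot, relIndex_comap, map_comap_eq_self_of_surjective hψ,
      relIndex_bot_left, hk]

/-- a quadratic element on a normal `p`-subgroup lies in `O_p` modulo its centraliser -/
theorem mem_pCore_of_noQd {G : Type*} [Group G] [Finite G] {p : ℕ} [Fact p.Prime] (hp : p ≠ 2) (h : NoQd p G) (P : Subgroup G) [P.Normal]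
    (hP : IsPGroup p P) {a : G} (hq : ⁅⁅P, zpowers a⁆, zpowers a⁆ = ⊥) :
    (QuotientGroup.mk a : G ⧸ centralizer (P : Set G))
      ∈ Cfsg.pCore p (G ⧸ centralizer (P : Set G)) := by
  classical
  set N := (frattini P).map P.subtype with hN
  haveI : N.Normal := inferInstance
  obtain ⟨D, hDn, hle, ⟨k, hk⟩, haD⟩ :=
    isPStableOnSection_of_noQd hp h P N (frattini_section_elementary P hP) a (hq.le.trans bot_le)
  haveI := hDn
  have hpow : ∀ d ∈ D, ∃ j, d ^ p ^ j ∈ centralizer (P : Set G) := by
    intro d hd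
    haveI : (Cfsg.sectionKernel P N).Normal := by
      rw [Cfsg.sectionKernel]
      haveI : (P.map (QuotientGroup.mk' N)).Normal :=
        Subgroup.Normal.map ‹P.Normal› _ (QuotientGroup.mk'_surjective _)
      infer_instance
    set z := d ^ p ^ k with hz
    have hzK : z ∈ Cfsg.sectionKernel P N := by
      have h1 := pow_index_mem ((Cfsg.sectionKernel P N).subgroupOf D) (⟨d, hd⟩ : D)
      rw [← relIndex, hk] at h1
      simpa [mem_subgroupOf, hz] using h1
    obtain ⟨e, m, hm, hem⟩ := Nat.exists_eq_pow_mul_and_not_dvd (orderOf_pos z).ne' p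
      (Fact.out : p.Prime).ne_one
    refine ⟨k + e, ?_⟩
    rw [pow_add, pow_mul, ← hz]
    set y := z ^ p ^ e with hy
    have hyo : orderOf y = m := by
      rw [hy, orderOf_pow_of_dvd (pow_ne_zero _ (Fact.out : p.Prime).ne_zero) ⟨m, hem⟩, hem,
        Nat.mul_div_cancel_left _ (pow_pos (Fact.out : p.Prime).pos _)]
    have hyK : y ∈ Cfsg.sectionKernel P N := pow_mem hzK _
    have hcop : (Nat.card (zpowers y)).Coprime (Nat.card (frattini P)) := by
      obtain ⟨j, hj⟩ := IsPGroup.iff_card.1 (hP.to_subgroup (frattini P))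
      rw [Nat.card_zpowers, hyo, hj]
      exact (((Fact.out : p.Prime).coprime_iff_not_dvd.2 hm).symm).pow_right j
    have hA : zpowers y ≤ normalizer (P : Set G) := by
      rw [normalizer_eq_top]; exact le_top
    have := CfsgLib.Core.centralizes_of_centralizes_frattini_quotient hA hcop (by
      intro b hb x hx
      have hbK : b ∈ Cfsg.sectionKernel P N := (zpowers_le.2 hyK) hb
      have hc := mem_centralizer_iff.1 (mem_comap.1 hbK) _ (mem_map_of_mem (QuotientGroup.mk' N) hx)
      rw [← QuotientGroup.eq_one_iff]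
      show (QuotientGroup.mk' N) (b * x * b⁻¹ * x⁻¹) = 1
      rw [map_mul, map_mul, map_mul, map_inv, map_inv, ← hc, mul_inv_cancel_right, mul_inv_cancel])
    rw [mem_centralizer_iff]
    intro x hx
    exact mem_centralizer_iff.1 (this (mem_zpowers y)) x hx
  have hDq : IsPGroup p (D.map (QuotientGroup.mk' (centralizer (P : Set G)))) := by
    rintro ⟨_, d, hd, rfl⟩
    obtain ⟨j, hj⟩ := hpow d hd
    exact ⟨j, Subtype.ext ((QuotientGroup.eq_one_iff _).2 hj)⟩
  haveI : (D.map (QuotientGroup.mk' (centralizer (P : Set G)))).Normal :=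
    Subgroup.Normal.map hDn _ (QuotientGroup.mk'_surjective _)
  exact CfsgLib.Core.le_pCore hDq (mem_map_of_mem _ haD)

theorem isNormalizerPStable_of_noQd {G : Type*} [Group G] [Finite G] {p : ℕ} [Fact p.Prime]
    (hp : p ≠ 2) (h : NoQd p G) : Cfsg.IsNormalizerPStable p G := by
  intro P hP g hg hq
  set N := normalizer (P : Set G) with hN
  haveI : (P.subgroupOf N).Normal := normal_in_normalizer
  have hC : centralizer ((P.subgroupOf N : Subgroup N) : Set N)
      = (centralizer (P : Set G)).subgroupOf N := by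
    ext x
    rw [mem_centralizer_iff, mem_subgroupOf, mem_centralizer_iff]
    constructor
    · intro h y hy
      exact congrArg Subtype.val (h ⟨y, le_normalizer hy⟩ hy)
    · intro h y hy
      exact Subtype.ext (h y hy)
  have hqa : ⁅⁅P.subgroupOf N, zpowers (⟨g, hg⟩ : N)⁆, zpowers (⟨g, hg⟩ : N)⁆ = ⊥ := by
    refine map_injective N.subtype_injective ?_
    rw [map_commutator, map_commutator, subgroupOf_map_subtype, inf_eq_left.2 le_normalizer,
      MonoidHom.map_zpowers, Subgroup.map_bot, eq_bot_iff, ← hq]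
    exact le_rfl
  have hmem := mem_pCore_of_noQd hp (noQd_subgroup h N) (P.subgroupOf N)
    (hP.of_equiv (subgroupOfEquivOfLe le_normalizer).symm) (a := ⟨g, hg⟩) hqa
  rw [← CfsgLib.Core.map_equiv_pCore (p := p) (QuotientGroup.quotientMulEquivOfEq hC)]
  exact ⟨_, hmem, rfl⟩

theorem stableAt_of_noQd {G : Type*} [Group G] [Finite G] {p : ℕ} [Fact p.Prime] (hp : p ≠ 2)
    (h : NoQd p G) (S : Subgroup G) : CfsgLib.PLocal.StableAt p S := fun P _ hP a _ hq => by
  exact mem_pCore_of_noQd hp h P hP hq

end CfsgLib.PLocal.SLTwo
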