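import Cfsg.Agent.Lib.PLocal.SLTwo.Basic
import Mathlib.GroupTheory.PGroup
import Mathlib.GroupTheory.Coset.Card
import Mathlib.Data.Fintype.Pigeonhole
import Mathlib.Algebra.Field.ZMod
import Mathlib.RingTheory.Nilpotent.Lemmas
import Mathlib.LinearAlgebra.Matrix.Charpoly.LinearMap
import Mathlib.LinearAlgebra.Trace

/-!
# Two non-commuting unipotent elements of a finite subgroup of `SL(2, K)` give `SL(2, p)`
-/

set_option autoImplicit false

namespace CfsgLib.PLocal.SLTwo

open Subgroup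

variable {K : Type*} [Field K]

/-- `SL(2, p)` is generated by `U 1` and `Lo 1` -/
theorem closure_U_Lo (p : ℕ) [Fact p.Prime] :
    closure ({U 1, Lo 1} : Set (S2 (ZMod p))) = ⊤ := by
  set G := closure ({U 1, Lo 1} : Set (S2 (ZMod p))) with hG
  have hU : ∀ t : ZMod p, U t ∈ G := fun t => by
    have h := G.pow_mem (subset_closure (Set.mem_insert (U 1) _) : U 1 ∈ G) t.val
    rwa [U_pow, mul_one, ZMod.natCast_zmod_val] at h
  have hL : ∀ t : ZMod p, Lo t ∈ G := fun t => by
    have h := G.pow_mem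
      (subset_closure (Set.mem_insert_of_mem _ (Set.mem_singleton _)) : Lo 1 ∈ G) t.val
    rwa [Lo_pow, mul_one, ZMod.natCast_zmod_val] at h
  have hc : ∀ x : S2 (ZMod p), x.1 1 0 ≠ 0 → x ∈ G := fun x hx => by
    have e : x = U ((x.1 0 0 - 1) / x.1 1 0) * Lo (x.1 1 0) * U ((x.1 1 1 - 1) / x.1 1 0) := by
      have hd := det2 x
      refine ext2 ?_ ?_ ?_ ?_ <;> simp [m00, m01, m10, m11] <;> field_simp
      all_goals first | ring1 | linear_combination hd | linear_combination (-1 : ZMod p) * hd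
    rw [e]
    exact G.mul_mem (G.mul_mem (hU _) (hL _)) (hU _)
  refine eq_top_iff.2 fun x _ => ?_
  by_cases hx : x.1 1 0 = 0
  · have hd := det2 x
    rw [hx, mul_zero, sub_zero] at hd
    have h1 : Lo 1 * x ∈ G := hc _ (by
      simp [m10, hx]
      intro h
      rw [h, zero_mul] at hd
      exact zero_ne_one hd)
    simpa using G.mul_mem (G.inv_mem (hL 1)) h1
  · exact hc x hx

/-- conjugation by `diag (1, t)` as a map -/
def scaleFun (t : K) (ht : t ≠ 0) (x : S2 K) : S2 K :=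
  ⟨!![x.1 0 0, x.1 0 1 * t; x.1 1 0 / t, x.1 1 1], by
    rw [Matrix.det_fin_two_of]; have := det2 x; field_simp; linear_combination this⟩

@[simp] theorem scaleFun00 {t : K} (ht : t ≠ 0) (x : S2 K) :
    (scaleFun t ht x).1 0 0 = x.1 0 0 := rfl
@[simp] theorem scaleFun01 {t : K} (ht : t ≠ 0) (x : S2 K) :
    (scaleFun t ht x).1 0 1 = x.1 0 1 * t := rfl
@[simp] theorem scaleFun10 {t : K} (ht : t ≠ 0) (x : S2 K) :
    (scaleFun t ht x).1 1 0 = x.1 1 0 / t := rfl
@[simp] theorem scaleFun11 {t : K} (ht : t ≠ 0) (x : S2 K) :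
    (scaleFun t ht x).1 1 1 = x.1 1 1 := rfl

/-- the automorphism conjugating by `diag (1, t)` -/
noncomputable def scale (t : K) (ht : t ≠ 0) : S2 K ≃* S2 K where
  toFun := scaleFun t ht
  invFun := scaleFun t⁻¹ (inv_ne_zero ht)
  left_inv x := by refine ext2 ?_ ?_ ?_ ?_ <;> simp [ht]
  right_inv x := by refine ext2 ?_ ?_ ?_ ?_ <;> simp [ht]
  map_mul' x y := by
    refine ext2 ?_ ?_ ?_ ?_ <;> simp [m00, m01, m10, m11] <;> field_simp

theorem scale_U {t : K} (ht : t ≠ 0) (s : K) : scale t ht (U s) = U (s * t) := by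
  show scaleFun t ht (U s) = U (s * t)
  refine ext2 ?_ ?_ ?_ ?_ <;> simp

theorem scale_Lo {t : K} (ht : t ≠ 0) (s : K) : scale t ht (Lo s) = Lo (s / t) := by
  show scaleFun t ht (Lo s) = Lo (s / t)
  refine ext2 ?_ ?_ ?_ ?_ <;> simp

/-- conjugation of `SL(2, K)` by an invertible matrix -/
noncomputable def cj (P : (Matrix (Fin 2) (Fin 2) K)ˣ) : S2 K ≃* S2 K where
  toFun x := ⟨(P : Matrix (Fin 2) (Fin 2) K) * x.1 * (↑P⁻¹ : Matrix (Fin 2) (Fin 2) K), by
    rw [Matrix.det_units_conj, x.2]⟩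
  invFun x := ⟨(↑P⁻¹ : Matrix (Fin 2) (Fin 2) K) * x.1 * (P : Matrix (Fin 2) (Fin 2) K), by
    rw [Matrix.det_units_conj', x.2]⟩
  left_inv x := Subtype.ext (by simp [mul_assoc])
  right_inv x := Subtype.ext (by simp [mul_assoc])
  map_mul' x y := Subtype.ext (by
    show (P : Matrix (Fin 2) (Fin 2) K) * (x * y : S2 K).1 * (↑P⁻¹ : Matrix (Fin 2) (Fin 2) K) =
      (P : Matrix (Fin 2) (Fin 2) K) * x.1 * (↑P⁻¹ : Matrix (Fin 2) (Fin 2) K)
        * ((P : Matrix (Fin 2) (Fin 2) K) * y.1 * (↑P⁻¹ : Matrix (Fin 2) (Fin 2) K))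
    simp [mul_assoc])

theorem cj_coe (P : (Matrix (Fin 2) (Fin 2) K)ˣ) (x : S2 K) :
    (cj P x).1 = (P : Matrix (Fin 2) (Fin 2) K) * x.1 * (↑P⁻¹ : Matrix (Fin 2) (Fin 2) K) := rfl

theorem cj_mul_apply (P Q : (Matrix (Fin 2) (Fin 2) K)ˣ) (x : S2 K) :
    cj (P * Q) x = cj P (cj Q x) :=
  Subtype.ext (by simp [cj_coe, mul_assoc, mul_inv_rev])

theorem exists_cj_conj (g : S2 K) :
    ∃ P : (Matrix (Fin 2) (Fin 2) K)ˣ, ∀ x, g * x * g⁻¹ = cj P x :=
  ⟨⟨g.1, g⁻¹.1, congrArg Subtype.val (mul_inv_cancel g), congrArg Subtype.val (inv_mul_cancel g)⟩,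
    fun _ => Subtype.ext rfl⟩

theorem exists_cj_scale (t : K) (ht : t ≠ 0) :
    ∃ P : (Matrix (Fin 2) (Fin 2) K)ˣ, ∀ x, scale t ht x = cj P x := by
  refine ⟨⟨!![t, 0; 0, 1], !![t⁻¹, 0; 0, 1], ?_, ?_⟩, fun x => ?_⟩
  · rw [Matrix.one_fin_two]; simp [ht]
  · rw [Matrix.one_fin_two]; simp [ht]
  · refine ext2 ?_ ?_ ?_ ?_ <;>
      simp [cj_coe, scale, Matrix.mul_apply, Matrix.vecMul, dotProduct, Fin.sum_univ_two, div_eq_mul_inv, ht] <;> field_simp

variable {p : ℕ} [Fact p.Prime] [CharP K p]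

/-- inclusion of `SL(2, p)` -/
noncomputable def ofZMod (p : ℕ) [Fact p.Prime] [CharP K p] : S2 (ZMod p) →* S2 K :=
  Matrix.SpecialLinearGroup.map (ZMod.castHom dvd_rfl K)

theorem ofZMod_entry (p : ℕ) [Fact p.Prime] [CharP K p] (x : S2 (ZMod p)) (i j : Fin 2) :
    (ofZMod (K := K) p x).1 i j = ZMod.castHom dvd_rfl K (x.1 i j) := rfl

theorem ofZMod_injective : Function.Injective (ofZMod (K := K) p) := fun x y h => by
  have hinj := (ZMod.castHom (dvd_refl p) K).injective
  refine ext2 (hinj ?_) (hinj ?_) (hinj ?_) (hinj ?_) <;> rw [← ofZMod_entry, ← ofZMod_entry, h]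

theorem ofZMod_U (t : ZMod p) : ofZMod (K := K) p (U t) = U (ZMod.castHom dvd_rfl K t) := by
  refine ext2 ?_ ?_ ?_ ?_ <;> simp [ofZMod_entry]

theorem ofZMod_Lo (t : ZMod p) : ofZMod (K := K) p (Lo t) = Lo (ZMod.castHom dvd_rfl K t) := by
  refine ext2 ?_ ?_ ?_ ?_ <;> simp [ofZMod_entry]

/-- a `GL(2, K)`-conjugate of the standard `SL(2, p)` lies in `L` -/
def HasStd (p : ℕ) [Fact p.Prime] [CharP K p] (L : Subgroup (S2 K)) : Prop :=
  ∃ P : (Matrix (Fin 2) (Fin 2) K)ˣ, ∀ x : S2 (ZMod p), cj P (ofZMod p x) ∈ L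

theorem HasStd.exists_hom {L : Subgroup (S2 K)} (h : HasStd p L) :
    ∃ ψ : S2 (ZMod p) →* S2 K, Function.Injective ψ ∧ ψ.range ≤ L := by
  obtain ⟨P, hP⟩ := h
  exact ⟨(cj P).toMonoidHom.comp (ofZMod p), (cj P).injective.comp ofZMod_injective,
    by rintro _ ⟨x, rfl⟩; exact hP x⟩

theorem hasStd_of_generators {L : Subgroup (S2 K)} {P : (Matrix (Fin 2) (Fin 2) K)ˣ}
    (hU : cj P (U 1) ∈ L) (hLo : cj P (Lo 1) ∈ L) : HasStd p L := by
  refine ⟨P, fun x => ?_⟩
  have hle : closure ({U 1, Lo 1} : Set (S2 (ZMod p)))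
      ≤ L.comap ((cj P).toMonoidHom.comp (ofZMod p)) := by
    rw [closure_le]
    rintro y (hy | hy)
    · subst hy
      show cj P (ofZMod p (U 1)) ∈ L
      rwa [ofZMod_U, map_one]
    · rw [Set.mem_singleton_iff] at hy
      subst hy
      show cj P (ofZMod p (Lo 1)) ∈ L
      rwa [ofZMod_Lo, map_one]
  exact hle (closure_U_Lo p ▸ mem_top x)

/-- `U s` and the conjugate of `Lo γ` by `U θ`, with `s * γ` a nonzero natural number mod `p` -/
theorem exists_std_of_pair {L : Subgroup (S2 K)} {θ s γ : K} {m : ℕ} (hs : s ≠ 0)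
    (hm : (m : K) * (s * γ) = 1) (h1 : U s ∈ L) (h2 : U θ * Lo γ * (U θ)⁻¹ ∈ L) :
    HasStd p L := by
  obtain ⟨P, hP⟩ := exists_cj_conj (U θ)
  obtain ⟨Q, hQ⟩ := exists_cj_scale s hs
  have hU : cj (P * Q) (U 1) = U s := by
    rw [cj_mul_apply, ← hQ, ← hP, scale_U, one_mul, U_mul, U_inv, U_mul]; congr 1; ring
  have hLo : cj (P * Q) (Lo 1) = (U θ * Lo γ * (U θ)⁻¹) ^ m := by
    rw [cj_mul_apply, ← hQ, ← hP, scale_Lo, conj_pow, Lo_pow]
    congr 3
    field_simp
    linear_combination (-1 : K) * hm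
  exact hasStd_of_generators (hU.symm ▸ h1) (hLo.symm ▸ L.pow_mem h2 m)

theorem exists_inv_natCast (p : ℕ) [Fact p.Prime] [CharP K p] {n : ℕ} (h : (n : K) ≠ 0) : ∃ m : ℕ, (m : K) * (n : K) = 1 := by
  have hn : ¬ p ∣ n := fun hd => h ((CharP.cast_eq_zero_iff K p n).2 hd)
  refine ⟨((n : ZMod p)⁻¹).val, ?_⟩
  have hz : ((n : ZMod p)) ≠ 0 := fun h0 => hn ((ZMod.natCast_eq_zero_iff _ _).1 h0)
  have := congrArg (ZMod.castHom (dvd_refl p) K) (inv_mul_cancel₀ hz)
  rw [map_mul, map_one, map_natCast] at this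
  rwa [← ZMod.natCast_zmod_val ((n : ZMod p)⁻¹), map_natCast] at this

/-- the core case: `U 1 ∈ L`, `-1 ∈ L` and `L` is not upper triangular -/
theorem exists_std_core (h2 : (2 : K) ≠ 0) (L : Subgroup (S2 K)) [Finite L]
    (hneg : (-1 : S2 K) ∈ L) (hU : U 1 ∈ L) (hw : ∃ x ∈ L, x.1 1 0 ≠ 0) :
    HasStd p L := by
  classical
  by_contra hcon
  have hnegL : ∀ {x : S2 K}, x ∈ L → -x ∈ L := fun {x} hx => by simpa using L.mul_mem hneg hx
  -- the translation set, the diagonal entries of the triangular part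
  let Λ : Set K := {t | t ≠ 0 ∧ U t ∈ L}
  let μ : Set K := {a | ∃ x ∈ L, x.1 1 0 = 0 ∧ x.1 0 0 = a}
  have hLfin : (L : Set (S2 K)).Finite := Set.toFinite _
  have hΛ : Λ.Finite := (hLfin.preimage U_injective.injOn).subset fun t ht => ht.2
  have hμ : μ.Finite := (hLfin.image fun x => x.1 0 0).subset
    fun a ⟨x, hx, _, e⟩ => ⟨x, hx, e⟩
  have h4 : (4 : K) ≠ 0 := fun h => h2 (mul_self_eq_zero.1 (by linear_combination h))
  have h1Λ : (1 : K) ∈ Λ := ⟨one_ne_zero, hU⟩
  have hsq : ∀ a ∈ μ, a ^ 2 ∈ Λ ∧ a ≠ 0 ∧ ∀ t ∈ Λ, a ^ 2 * t ∈ Λ := by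
    rintro _ ⟨x, hx, hc, rfl⟩
    have hd := det2 x
    rw [hc, mul_zero, sub_zero] at hd
    have ha : x.1 0 0 ≠ 0 := fun h => by rw [h, zero_mul] at hd; exact zero_ne_one hd
    have h : ∀ t ∈ Λ, x.1 0 0 ^ 2 * t ∈ Λ := by
      rintro t ⟨ht0, ht⟩
      refine ⟨mul_ne_zero (pow_ne_zero 2 ha) ht0, ?_⟩
      have e : x * U t * x⁻¹ = U (x.1 0 0 ^ 2 * t) := by
        refine ext2 ?_ ?_ ?_ ?_ <;>
          simp only [m00, m01, m10, m11, i00, i01, i10, i11, U00, U01, U10, U11, hc] <;>
          [linear_combination hd; ring; ring; linear_combination hd]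
      exact e ▸ L.mul_mem (L.mul_mem hx ht) (L.inv_mem hx)
    exact ⟨by simpa using h 1 h1Λ, ha, h⟩
  -- two elements of trace `± 2` in one coset of the unipotent group give the result
  have keyA : ∀ x ∈ L, ∀ s ∈ Λ, x.1 1 0 ≠ 0 → (tr x = 2 ∨ tr x = -2) →
      (tr (U s * x) = 2 ∨ tr (U s * x) = -2) → False := by
    intro x hx s hs hc h h'
    have ht : tr (U s * x) = tr x + s * x.1 1 0 := by simp [tr, m00, m11]; ring
    rw [ht] at h'
    have hne : s * x.1 1 0 ≠ 0 := mul_ne_zero hs.1 hc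
    -- reduce to trace 2
    obtain ⟨v, hv, hvt, hvs⟩ : ∃ v ∈ L, tr v = 2 ∧ s * v.1 1 0 = -4 := by
      rcases h with h | h
      · refine ⟨x, hx, h, ?_⟩
        rcases h' with h' | h'
        · exact absurd (by linear_combination h' - h) hne
        · linear_combination h' - h
      · refine ⟨-x, hnegL hx, by simp only [tr, neg_entry] at h ⊢; linear_combination (-1 : K) * h, ?_⟩
        rcases h' with h' | h'
        · rw [neg_entry]; linear_combination (-1 : K) * h' + h
        · exact absurd (by linear_combination h' - h) hne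
    have hvc : v.1 1 0 ≠ 0 := fun e => by rw [e, mul_zero] at hvs; exact h4 (by linear_combination hvs)
    have e : v = U ((v.1 0 0 - 1) / v.1 1 0) * Lo (v.1 1 0) * (U ((v.1 0 0 - 1) / v.1 1 0))⁻¹ := by
      have hd := det2 v
      unfold tr at hvt
      rw [U_inv]
      refine ext2 ?_ ?_ ?_ ?_ <;> simp [m00, m01, m10, m11] <;> field_simp
      all_goals first
        | ring1
        | linear_combination hvt
        | linear_combination (-1 : K) * hvt
        | linear_combination (v.1 0 0) * hvt - hd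
        | linear_combination (-v.1 0 0) * hvt + hd
    have h4' : (((p - 1) * 4 : ℕ) : K) = -4 := by
      rw [Nat.cast_mul, Nat.cast_sub (Fact.out : p.Prime).one_lt.le, CharP.cast_eq_zero K p]; simp
    obtain ⟨m, hm⟩ := exists_inv_natCast p (h4'.symm ▸ neg_ne_zero.2 h4 :
      (((p - 1) * 4 : ℕ) : K) ≠ 0)
    rw [h4', ← hvs] at hm
    exact hcon (exists_std_of_pair hs.1 hm hs.2 (e ▸ hv))
  -- conjugates of translations outside the triangular part
  have hout : ∀ x : S2 K, ∀ t : K, (x * U t * x⁻¹).1 1 0 = -(x.1 1 0 ^ 2 * t) ∧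
      tr (x * U t * x⁻¹) = 2 := by
    intro x t
    refine ⟨?_, (tr_conj _ _).trans (by simp [tr]; norm_num)⟩
    simp only [m10, m11, i00, i10, U00, U01, U10, U11]; ring
  -- right cosets of the unipotent group outside the triangular part
  let Pu : Subgroup L :=
    { carrier := {x | ∃ t, (x : S2 K) = U t}
      one_mem' := ⟨0, by simp [U_zero]⟩
      mul_mem' := by rintro _ _ ⟨s, e⟩ ⟨t, f⟩; exact ⟨s + t, by simp [e, f, U_mul]⟩
      inv_mem' := by rintro _ ⟨s, e⟩; exact ⟨-s, by simp [e, U_inv]⟩ }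
  let B : Subgroup L :=
    { carrier := {x | (x : S2 K).1 1 0 = 0}
      one_mem' := by simp
      mul_mem' := by
        intro x y hx hy
        show ((x : S2 K) * (y : S2 K)).1 1 0 = 0
        rw [m10, show (x : S2 K).1 1 0 = 0 from hx, show (y : S2 K).1 1 0 = 0 from hy]; ring
      inv_mem' := by
        intro x hx
        show ((x : S2 K))⁻¹.1 1 0 = 0
        rw [i10, show (x : S2 K).1 1 0 = 0 from hx]; ring }
  have hPB : Pu ≤ B := by rintro x ⟨t, e⟩; show (x : S2 K).1 1 0 = 0; rw [e]; simp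
  -- index of `Pu` in `B` is `|μ|`
  have hrel : Pu.relIndex B = μ.ncard := by
    rw [← Nat.card_coe_set_eq, relIndex, index]
    refine Nat.card_congr (Equiv.ofBijective
      (Quotient.lift (fun x : B => (⟨((x : L) : S2 K).1 0 0, _, x.1.2, x.2, rfl⟩ : μ)) ?_) ⟨?_, ?_⟩)
    · intro x y h
      obtain ⟨t, e⟩ := (QuotientGroup.leftRel_apply.1 h : x⁻¹ * y ∈ Pu.subgroupOf B)
      refine Subtype.ext ?_
      have hy : ((y : L) : S2 K) = (x : L) * U t := by
        rw [← e]; simp
      show ((x : L) : S2 K).1 0 0 = ((y : L) : S2 K).1 0 0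
      rw [hy, m00]; simp
    · intro q q'
      induction q using Quotient.inductionOn with | h x => ?_
      induction q' using Quotient.inductionOn with | h y => ?_
      intro h
      have h' : ((x : L) : S2 K).1 0 0 = ((y : L) : S2 K).1 0 0 := congrArg Subtype.val h
      refine Quotient.sound (QuotientGroup.leftRel_apply.2 ?_)
      refine mem_subgroupOf.2 ⟨(((x : L) : S2 K)⁻¹ * (y : L)).1 0 1, ?_⟩
      have hxc : ((x : L) : S2 K).1 1 0 = 0 := x.2
      have hyc : ((y : L) : S2 K).1 1 0 = 0 := y.2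
      have hdx := det2 ((x : L) : S2 K)
      have hdy := det2 ((y : L) : S2 K)
      rw [hxc, mul_zero, sub_zero] at hdx
      rw [hyc, mul_zero, sub_zero, ← h'] at hdy
      show ((x : L) : S2 K)⁻¹ * (y : L) = _
      refine ext2 ?_ rfl ?_ ?_ <;> simp [m00, m10, m11, i00, i01, i10, i11, hxc, hyc, ← h']
      · linear_combination hdx
      · exact hdy
    · rintro ⟨_, x, hx, hc, rfl⟩
      exact ⟨Quotient.mk _ ⟨⟨x, hx⟩, hc⟩, rfl⟩
  -- counting
  let T := Quotient (QuotientGroup.rightRel Pu)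
  let Tout : Set T := {c | (c.out : L) ∉ B}
  have hclass : ∀ x : L, ∃ t : K, (((Quotient.mk (QuotientGroup.rightRel Pu) x).out : L) : S2 K) = U t * (x : S2 K) := by
    intro x
    have h := QuotientGroup.rightRel_apply.1 (Quotient.mk_out (s := QuotientGroup.rightRel Pu) x)
    obtain ⟨t, e⟩ := h
    refine ⟨-t, ?_⟩
    have e' : (x : S2 K) = U t * (((Quotient.mk (QuotientGroup.rightRel Pu) x).out : L) : S2 K) := by
      rw [← e]; simp
    rw [← U_inv, eq_inv_mul_iff_mul_eq]
    exact e'.symm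
  have hmkB : ∀ x : L, x ∉ B → Quotient.mk (QuotientGroup.rightRel Pu) x ∈ Tout := by
    intro x hx hmem
    obtain ⟨t, e⟩ := hclass x
    refine hx ?_
    show (x : S2 K).1 1 0 = 0
    have h0 : (((Quotient.mk (QuotientGroup.rightRel Pu) x).out : L) : S2 K).1 1 0 = 0 := hmem
    simpa [e, m10] using h0
  -- the number of cosets outside
  have hTout : Tout.ncard = (B.index - 1) * μ.ncard := by
    have hT : Nat.card T = μ.ncard * B.index := by
      rw [← hrel, relIndex_mul_index hPB]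
      exact Nat.card_congr (QuotientGroup.quotientRightRelEquivQuotientLeftRel Pu)
    have hin : Toutᶜ.ncard = μ.ncard := by
      rw [← hrel, relIndex, index, ← Nat.card_coe_set_eq]
      refine Nat.card_congr (Equiv.trans ?_
        (QuotientGroup.quotientRightRelEquivQuotientLeftRel (Pu.subgroupOf B)))
      refine (Equiv.ofBijective (Quotient.lift (fun x : B =>
        (⟨Quotient.mk (QuotientGroup.rightRel Pu) x.1, fun hc => hc ?_⟩ : (Toutᶜ : Set T))) ?_)
          ⟨?_, ?_⟩).symm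
      · obtain ⟨t, e⟩ := hclass x.1
        show (((Quotient.mk (QuotientGroup.rightRel Pu) x.1).out : L) : S2 K).1 1 0 = 0
        rw [e, m10, show ((x : L) : S2 K).1 1 0 = 0 from x.2]; simp
      · intro x y h
        have h' : y * x⁻¹ ∈ Pu.subgroupOf B := QuotientGroup.rightRel_apply.1 h
        refine Subtype.ext (Quotient.sound (QuotientGroup.rightRel_apply.2 ?_))
        exact h'
      · intro q q'
        induction q using Quotient.inductionOn with | h x => ?_
        induction q' using Quotient.inductionOn with | h y => ?_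
        intro h
        have h' : Quotient.mk (QuotientGroup.rightRel Pu) (x : L) = Quotient.mk _ (y : L) :=
          congrArg Subtype.val h
        have h'' : (y : L) * (x : L)⁻¹ ∈ Pu := QuotientGroup.rightRel_apply.1 (Quotient.exact h')
        exact Quotient.sound (QuotientGroup.rightRel_apply.2 h'')
      · rintro ⟨c, hc⟩
        exact ⟨Quotient.mk _ ⟨c.out, not_not.1 hc⟩, Subtype.ext c.out_eq⟩
    have := Tout.ncard_add_ncard_compl
    rw [hin, hT] at this
    rw [Nat.sub_mul, one_mul, Nat.mul_comm B.index]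
    omega
  -- the elements of trace `± 2` outside
  let C := {c : L ⧸ B // c ≠ QuotientGroup.mk 1}
  let gen : C × Λ × Bool → L := fun z =>
    if z.2.2 then z.1.1.out * ⟨U z.2.1.1, z.2.1.2.2⟩ * z.1.1.out⁻¹
    else ⟨-1, hneg⟩ * (z.1.1.out * ⟨U z.2.1.1, z.2.1.2.2⟩ * z.1.1.out⁻¹)
  have houtC : ∀ c : C, ((c.1.out : L) : S2 K).1 1 0 ≠ 0 := by
    rintro ⟨c, hc⟩ h
    refine hc ?_
    rw [← c.out_eq']
    refine QuotientGroup.eq.2 ?_
    rw [mul_one]
    exact B.inv_mem h
  have hgen : ∀ z, ((gen z : L) : S2 K).1 1 0 ≠ 0 ∧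
      (tr ((gen z : L) : S2 K) = 2 ∨ tr ((gen z : L) : S2 K) = -2) := by
    rintro ⟨c, ⟨t, ht⟩, b⟩
    obtain ⟨e1, e2⟩ := hout ((c.1.out : L) : S2 K) t
    have hne : -(((c.1.out : L) : S2 K).1 1 0 ^ 2 * t) ≠ 0 :=
      neg_ne_zero.2 (mul_ne_zero (pow_ne_zero 2 (houtC c)) ht.1)
    cases b
    · refine ⟨?_, Or.inr ?_⟩
      · show ((-1 : S2 K) * ((c.1.out : L) * U t * ((c.1.out : L) : S2 K)⁻¹)).1 1 0 ≠ 0
        rw [neg_one_mul, neg_entry, e1, neg_ne_zero]; exact hne
      · simp only [tr] at e2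
        simp [gen, tr]; linear_combination (-1 : K) * e2
    · refine ⟨?_, Or.inl ?_⟩
      · show (((c.1.out : L) : S2 K) * U t * ((c.1.out : L) : S2 K)⁻¹).1 1 0 ≠ 0
        rw [e1]; exact hne
      · simpa [gen] using e2
  have hgeninj : Function.Injective gen := by
    rintro ⟨c, ⟨s, hs⟩, b⟩ ⟨c', ⟨t, ht⟩, b'⟩ h
    have hv := congrArg (fun x : L => (x : S2 K)) h
    have hb : b = b' := by
      have htr := congrArg tr hv
      obtain ⟨-, e2⟩ := hout ((c.1.out : L) : S2 K) s
      obtain ⟨-, f2⟩ := hout ((c'.1.out : L) : S2 K) t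
      simp only [tr] at e2 f2
      cases b <;> cases b' <;> simp [gen, tr] at htr ⊢
      · exact h4 (by linear_combination -htr - e2 - f2)
      · exact h4 (by linear_combination htr - e2 - f2)
    subst hb
    have h' : (c.1.out * ⟨U s, hs.2⟩ * c.1.out⁻¹ : L) = c'.1.out * ⟨U t, ht.2⟩ * c'.1.out⁻¹ := by
      cases b <;> simpa [gen] using h
    have hz : ((c.1.out⁻¹ * c'.1.out : L) : S2 K) * U t
        = U s * ((c.1.out⁻¹ * c'.1.out : L) : S2 K) := by
      have h'' := congrArg (fun x : L => c.1.out⁻¹ * x * c'.1.out) h'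
      simp only [mul_assoc, inv_mul_cancel, mul_one, inv_mul_cancel_left] at h''
      have := congrArg Subtype.val h''
      simpa [mul_assoc] using this.symm
    generalize hzdef : (c.1.out⁻¹ * c'.1.out : L) = z at hz
    have hz10 : (z : S2 K).1 1 0 = 0 := by
      have := congrArg (fun w : S2 K => w.1 1 1) hz
      simp only [m11, U01, U10, U11] at this
      exact (mul_eq_zero.1 (show (z : S2 K).1 1 0 * t = 0 by linear_combination this)).resolve_right ht.1
    have hcc : c = c' := by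
      refine Subtype.ext ?_
      rw [← c.1.out_eq', ← c'.1.out_eq']
      exact QuotientGroup.eq.2 (hzdef ▸ hz10)
    subst hcc
    rw [inv_mul_cancel] at hzdef
    subst hzdef
    simp only [OneMemClass.coe_one, one_mul, mul_one] at hz
    obtain rfl : t = s := U_injective hz
    rfl
  haveI : Finite Λ := hΛ.to_subtype
  have hC : Nat.card C = B.index - 1 := by
    have h := Set.ncard_compl ({QuotientGroup.mk 1} : Set (L ⧸ B))
    rw [Set.ncard_singleton] at h
    rw [index, ← h, ← Nat.card_coe_set_eq]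
    rfl
  have hcard : Nat.card (C × Λ × Bool) = (B.index - 1) * (2 * Λ.ncard) := by
    rw [Nat.card_prod, Nat.card_prod, hC, Nat.card_coe_set_eq]
    simp [mul_comm]
  -- at most one element of trace `± 2` in a coset
  let F : C × Λ × Bool → T := fun z => Quotient.mk (QuotientGroup.rightRel Pu) (gen z)
  have hsame : ∀ {x y : L}, Quotient.mk (QuotientGroup.rightRel Pu) x = Quotient.mk _ y → x ≠ y →
      ∃ s ∈ Λ, (y : S2 K) = U s * (x : S2 K) := by
    intro x y h hne
    obtain ⟨t, e⟩ := QuotientGroup.rightRel_apply.1 (Quotient.exact h)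
    have e' : (y : S2 K) = U t * (x : S2 K) := by rw [← e]; simp
    refine ⟨t, ⟨fun h0 => hne (Subtype.ext ?_), ?_⟩, e'⟩
    · rw [e', h0, U_zero, one_mul]
    · have := L.mul_mem y.2 (L.inv_mem x.2)
      rwa [e', mul_inv_cancel_right] at this
  have hFinj : Function.Injective F := by
    intro z z' h
    by_contra hne
    obtain ⟨s, hs, e⟩ := hsame h fun e => hne (hgeninj e)
    exact keyA _ (gen z).2 s hs (hgen z).1 (hgen z).2 (e ▸ (hgen z').2)
  have hle : (B.index - 1) * (2 * Λ.ncard) ≤ (B.index - 1) * μ.ncard := by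
    rw [← hcard, ← hTout, ← Nat.card_coe_set_eq]
    exact Nat.card_le_card_of_injective (fun z => (⟨F z, hmkB _ (hgen z).1⟩ : Tout))
      fun z z' h => hFinj (congrArg Subtype.val h)
  obtain ⟨w, hwL, hwc⟩ := hw
  have hn : 1 < B.index := by
    rcases Nat.lt_or_ge 1 B.index with h | h
    · exact h
    · have hne : B.index ≠ 0 := index_ne_zero_of_finite
      have h1 : B.index = 1 := by omega
      have hm : (⟨w, hwL⟩ : L) ∈ B := by rw [index_eq_one.1 h1]; exact mem_top _
      exact absurd hm hwc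
  have hμ2 : 2 * Λ.ncard ≤ μ.ncard := Nat.le_of_mul_le_mul_left hle (show 0 < B.index - 1 by omega)
  -- every element of `Λ` is the square of an element of `μ`
  have hsurj : ∀ t ∈ Λ, ∃ a ∈ μ, a ^ 2 = t := by
    intro t ht
    by_contra hno
    push_neg at hno
    have hsub : ((hμ.toFinset).image (fun a => a ^ 2)) ⊆ (hΛ.toFinset).erase t := by
      intro b hb
      simp only [Finset.mem_image, Set.Finite.mem_toFinset] at hb
      obtain ⟨a, ha, rfl⟩ := hb
      exact Finset.mem_erase.2 ⟨hno a ha, hΛ.mem_toFinset.2 (hsq a ha).1⟩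
    have h1 := Finset.card_le_mul_card_image (hμ.toFinset) (f := fun a => a ^ 2) 2 (by
      intro b hb
      simp only [Finset.mem_image, Set.Finite.mem_toFinset] at hb
      obtain ⟨a, ha, rfl⟩ := hb
      refine (Finset.card_le_card (t := {a, -a}) ?_).trans Finset.card_le_two
      intro c hc
      simp only [Finset.mem_filter] at hc
      simpa using eq_or_eq_neg_of_sq_eq_sq _ _ hc.2)
    have h2' := Finset.card_le_card hsub
    rw [Finset.card_erase_of_mem (hΛ.mem_toFinset.2 ht)] at h2'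
    rw [← Set.ncard_eq_toFinset_card _ hμ] at h1
    rw [← Set.ncard_eq_toFinset_card _ hΛ] at h2'
    have : 0 < Λ.ncard := (Set.ncard_pos hΛ).2 ⟨1, h1Λ⟩
    omega
  have hmul : ∀ s ∈ Λ, ∀ t ∈ Λ, s * t ∈ Λ := by
    intro s hs t ht
    obtain ⟨a, ha, rfl⟩ := hsurj s hs
    exact (hsq a ha).2.2 t ht
  have hinv : ∀ s ∈ Λ, s⁻¹ ∈ Λ := by
    intro s hs
    haveI : Fintype Λ := hΛ.fintype
    let f : Λ → Λ := fun t => ⟨s * t, hmul s hs t t.2⟩
    have hf : Function.Injective f := fun x y h =>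
      Subtype.ext (mul_left_cancel₀ hs.1 (congrArg Subtype.val h))
    obtain ⟨t, ht⟩ := Finite.surjective_of_injective hf ⟨1, h1Λ⟩
    have e : s * (t : K) = 1 := congrArg Subtype.val ht
    rw [inv_eq_of_mul_eq_one_right e]
    exact t.2
  have hneg1 : (-1 : K) ∈ Λ := ⟨neg_ne_zero.2 one_ne_zero, U_inv (1 : K) ▸ L.inv_mem hU⟩
  have hnegΛ : ∀ t ∈ Λ, -t ∈ Λ := fun t ht => by simpa using hmul _ hneg1 t ht
  -- a trace zero element in the triangular part and a conjugate outside
  obtain ⟨a, ⟨y, hy, hyc, rfl⟩, hya⟩ := hsurj _ hneg1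
  have hyd : y.1 1 1 = -y.1 0 0 := by
    have hd := det2 y
    rw [hyc, mul_zero, sub_zero] at hd
    linear_combination (-(y.1 0 0)) * hd + y.1 1 1 * hya
  have hya0 : y.1 0 0 ≠ 0 := fun h => by rw [h] at hya; simp at hya
  obtain ⟨g, hg, hgc⟩ : ∃ g ∈ L, (g⁻¹ * y * g).1 1 0 ≠ 0 := by
    by_contra hall
    push_neg at hall
    have key : ∀ g ∈ L, g.1 1 0 * (g.1 1 0 * y.1 0 1 + 2 * (g.1 0 0 * y.1 0 0)) = 0 := by
      intro g hg
      have := hall g hg
      simp only [m10, m00, m11, i10, i11, i00, hyc, hyd] at this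
      linear_combination (-1 : K) * this
    have h1 := key w hwL
    have h2' := key (U 1 * w) (L.mul_mem hU hwL)
    simp only [m10, m00, U00, U01, U10, U11] at h2'
    have : (2 : K) * (w.1 1 0 * (w.1 1 0 * y.1 0 0)) = 0 := by linear_combination h2' - h1
    exact mul_ne_zero h2 (mul_ne_zero hwc (mul_ne_zero hwc hya0)) this
  set y' : S2 K := g⁻¹ * y * g with hy'
  have hy'L : y' ∈ L := L.mul_mem (L.mul_mem (L.inv_mem hg) hy) hg
  have hy'tr : tr y' = 0 := by
    have h := tr_conj y g⁻¹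
    rw [inv_inv] at h
    rw [hy', h, tr, hyd, add_neg_cancel]
  -- its coset contains an element of trace `± 2`
  have hex : ∃ s ∈ Λ, s * y'.1 1 0 = 2 ∨ s * y'.1 1 0 = -2 := by
    by_contra hno
    push_neg at hno
    let G : Option (C × Λ × Bool) → Tout := fun o => match o with
      | none => ⟨Quotient.mk _ ⟨y', hy'L⟩, hmkB _ hgc⟩
      | some z => ⟨F z, hmkB _ (hgen z).1⟩
    have hz : ∀ z, F z ≠ Quotient.mk _ ⟨y', hy'L⟩ := by
      intro z h
      have hne : gen z ≠ ⟨y', hy'L⟩ := fun e => by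
        have := (hgen z).2
        rw [e, hy'tr] at this
        rcases this with h' | h'
        · exact h2 h'.symm
        · exact h2 (by linear_combination h')
      obtain ⟨s, hs, e⟩ := hsame h hne
      have e' : y' = U s * (gen z : S2 K) := e
      have h10 : y'.1 1 0 = (gen z : S2 K).1 1 0 := by rw [e']; simp [m10]
      have htr : tr y' = tr (gen z : S2 K) + s * (gen z : S2 K).1 1 0 := by
        rw [e']; simp [tr, m00, m11]; ring
      rw [hy'tr, ← h10] at htr
      rcases (hgen z).2 with h' | h'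
      · exact (hno s hs).2 (by linear_combination (-1 : K) * htr - h')
      · exact (hno s hs).1 (by linear_combination (-1 : K) * htr - h')
    have hG : Function.Injective G := by
      rintro (_ | z) (_ | z') h
      · rfl
      · exact absurd (congrArg Subtype.val h).symm (hz z')
      · exact absurd (congrArg Subtype.val h) (hz z)
      · exact congrArg some (hFinj (congrArg Subtype.val h))
    have := Nat.card_le_card_of_injective G hG
    rw [Finite.card_option, Nat.card_coe_set_eq, hTout, hcard] at this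
    have hge : μ.ncard ≤ 2 * Λ.ncard := by
      have h1 := Finset.card_le_mul_card_image (hμ.toFinset) (f := fun a => a ^ 2) 2 (by
        intro b hb
        simp only [Finset.mem_image, Set.Finite.mem_toFinset] at hb
        obtain ⟨a, ha, rfl⟩ := hb
        refine (Finset.card_le_card (t := {a, -a}) ?_).trans Finset.card_le_two
        intro c hc
        simp only [Finset.mem_filter] at hc
        simpa using eq_or_eq_neg_of_sq_eq_sq _ _ hc.2)
      have hsub : ((hμ.toFinset).image (fun a => a ^ 2)) ⊆ hΛ.toFinset := by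
        intro b hb
        simp only [Finset.mem_image, Set.Finite.mem_toFinset] at hb
        obtain ⟨a, ha, rfl⟩ := hb
        exact hΛ.mem_toFinset.2 (hsq a ha).1
      have h2' := Finset.card_le_card hsub
      rw [← Set.ncard_eq_toFinset_card _ hμ] at h1
      rw [← Set.ncard_eq_toFinset_card _ hΛ] at h2'
      omega
    rw [le_antisymm hge hμ2] at this
    omega
  -- so the lower left entry lies in `Λ`
  obtain ⟨s, hs, hs2⟩ := hex
  have h2Λ : (2 : K) ∈ Λ := ⟨h2, by
    have := L.mul_mem hU hU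
    rwa [U_mul, one_add_one_eq_two] at this⟩
  have hγ : y'.1 1 0 ∈ Λ := by
    rcases hs2 with e | e
    · rw [show y'.1 1 0 = 2 * s⁻¹ by rw [← e]; field_simp [hs.1]]
      exact hmul _ h2Λ _ (hinv s hs)
    · rw [show y'.1 1 0 = -(2 * s⁻¹) by rw [← neg_eq_iff_eq_neg.2 e]; field_simp [hs.1]]
      exact hnegΛ _ (hmul _ h2Λ _ (hinv s hs))
  set c := y'.1 1 0 with hcdef
  have hs' : (c * c)⁻¹ ∈ Λ := hinv _ (hmul _ hγ _ hγ)
  obtain ⟨m, hm⟩ := exists_inv_natCast (n := p - 1) (K := K) p (by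
    rw [Nat.cast_sub (Fact.out : p.Prime).one_lt.le, CharP.cast_eq_zero K p]; simp)
  rw [Nat.cast_sub (Fact.out : p.Prime).one_lt.le, CharP.cast_eq_zero K p, Nat.cast_one, zero_sub] at hm
  have e : y' * U (c * c)⁻¹ * y'⁻¹
      = U (y'.1 0 0 / c) * Lo (-1) * (U (y'.1 0 0 / c))⁻¹ := by
    have hd := det2 y'
    have htr := hy'tr
    unfold tr at htr
    have h11 : y'.1 1 1 = -y'.1 0 0 := by linear_combination htr
    rw [h11, ← hcdef] at hd
    rw [U_inv]
    refine ext2 ?_ ?_ ?_ ?_ <;>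
      simp [m00, m01, m10, m11, i00, i01, i10, i11, h11, ← hcdef] <;> field_simp
    all_goals first
      | ring1
      | linear_combination hd
      | linear_combination (-1 : K) * hd
      | linear_combination c * hd
      | linear_combination (-c) * hd
      | linear_combination (c ^ 2) * hd
      | linear_combination (-(c ^ 2)) * hd
  exact hcon (exists_std_of_pair (L := L) (θ := y'.1 0 0 / c) (s := (1 : K))
    (γ := (-1 : K)) (m := m) one_ne_zero (by linear_combination hm) hU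
    (e ▸ L.mul_mem (L.mul_mem hy'L hs'.2) (L.inv_mem hy'L)))

end CfsgLib.PLocal.SLTwo
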