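import Cfsg.Agent.Lib.PLocal.SLTwo.NStable
import Cfsg.Agent.Lib.PLocal.SLTwo.Dickson
import Cfsg.Agent.Lib.PLocal.Comm

/-!
# In a stable group no lifted natural `SL(2, p)`-section on a `p`-subgroup
-/

set_option autoImplicit false

namespace CfsgLib.PLocal.SLTwo

open Subgroup
open scoped commutatorElement

variable {G : Type*} [Group G] {p : ℕ} [Fact p.Prime]

def G1 : S2 (ZMod p) := ⟨!![0, 1; -1, 0], by simp [Matrix.det_fin_two_of]⟩

def G2 : S2 (ZMod p) := ⟨!![1, 1; -2, -1], by norm_num [Matrix.det_fin_two_of]⟩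

def G3 : S2 (ZMod p) := ⟨!![-1, 1; -2, 1], by norm_num [Matrix.det_fin_two_of]⟩

theorem G1_sq : (G1 : S2 (ZMod p)) ^ 2 = -1 := by
  have h00 : (G1 : S2 (ZMod p)).1 0 0 = 0 := rfl
  have h01 : (G1 : S2 (ZMod p)).1 0 1 = 1 := rfl
  have h10 : (G1 : S2 (ZMod p)).1 1 0 = -1 := rfl
  have h11 : (G1 : S2 (ZMod p)).1 1 1 = 0 := rfl
  rw [pow_two]
  refine ext2 ?_ ?_ ?_ ?_ <;>
    simp only [m00, m01, m10, m11, h00, h01, h10, h11, neg_entry, one00, one01, one10, one11] <;>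
    ring

theorem G2_sq : (G2 : S2 (ZMod p)) ^ 2 = -1 := by
  have h00 : (G2 : S2 (ZMod p)).1 0 0 = 1 := rfl
  have h01 : (G2 : S2 (ZMod p)).1 0 1 = 1 := rfl
  have h10 : (G2 : S2 (ZMod p)).1 1 0 = -2 := rfl
  have h11 : (G2 : S2 (ZMod p)).1 1 1 = -1 := rfl
  rw [pow_two]
  refine ext2 ?_ ?_ ?_ ?_ <;>
    simp only [m00, m01, m10, m11, h00, h01, h10, h11, neg_entry, one00, one01, one10, one11] <;>
    ring

theorem G3_sq : (G3 : S2 (ZMod p)) ^ 2 = -1 := by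
  have h00 : (G3 : S2 (ZMod p)).1 0 0 = -1 := rfl
  have h01 : (G3 : S2 (ZMod p)).1 0 1 = 1 := rfl
  have h10 : (G3 : S2 (ZMod p)).1 1 0 = -2 := rfl
  have h11 : (G3 : S2 (ZMod p)).1 1 1 = 1 := rfl
  rw [pow_two]
  refine ext2 ?_ ?_ ?_ ?_ <;>
    simp only [m00, m01, m10, m11, h00, h01, h10, h11, neg_entry, one00, one01, one10, one11] <;>
    ring

theorem neg_one_sq' : (-1 : S2 (ZMod p)) ^ 2 = 1 := by simp

theorem neg_one_central (x : S2 (ZMod p)) : x * (-1) = (-1) * x := by simp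

theorem eq_top_of_U_mem {N : Subgroup (S2 (ZMod p))} [N.Normal] (h : (U 1 : S2 (ZMod p)) ∈ N) :
    N = ⊤ := by
  have hLo : (Lo 1 : S2 (ZMod p)) ∈ N := by
    have := ‹N.Normal›.conj_mem _ (N.inv_mem h) G1
    convert this using 1
    have w00 : (G1 : S2 (ZMod p)).1 0 0 = 0 := rfl
    have w01 : (G1 : S2 (ZMod p)).1 0 1 = 1 := rfl
    have w10 : (G1 : S2 (ZMod p)).1 1 0 = -1 := rfl
    have w11 : (G1 : S2 (ZMod p)).1 1 1 = 0 := rfl
    refine ext2 ?_ ?_ ?_ ?_ <;>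
      simp [m00, m01, m10, m11, i00, i01, i10, i11, U_inv, w00, w01, w10, w11]
  refine eq_top_iff.2 (closure_U_Lo p ▸ (closure_le _).2 ?_)
  rintro y (rfl | rfl)
  exacts [h, hLo]

/-- a `2`-power order preimage of an element of order dividing `4` -/
theorem exists_two_part {A B : Type*} [Group A] [Finite A] [Group B] (f : A →* B) (a : A)
    (h4 : f a ^ 4 = 1) : ∃ a' : A, f a' = f a ∧ ∃ k, orderOf a' = 2 ^ k := by
  obtain ⟨e, m, hm, hem⟩ := Nat.exists_eq_pow_mul_and_not_dvd (orderOf_pos a).ne' 2 (by norm_num)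
  refine ⟨a ^ (m * m), ?_, ?_⟩
  · rw [map_pow]
    have hmm : m * m % 4 = 1 := by
      rw [Nat.mul_mod]
      rcases (show m % 4 = 1 ∨ m % 4 = 3 by omega) with h | h <;> rw [h]
    rw [← Nat.div_add_mod (m * m) 4, pow_add, pow_mul, h4, one_pow, hmm, one_mul, pow_one]
  · have h : (a ^ (m * m)) ^ 2 ^ e = 1 := by
      rw [← pow_mul, show m * m * 2 ^ e = 2 ^ e * m * m by ring, ← hem, pow_mul, pow_orderOf_eq_one,
        one_pow]
    obtain ⟨k, -, hk⟩ := (Nat.dvd_prime_pow Nat.prime_two).1 (orderOf_dvd_of_pow_eq_one h)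
    exact ⟨k, hk⟩

theorem coprime_two_pow (hp : p ≠ 2) (k : ℕ) : (2 ^ k).Coprime p :=
  ((Nat.coprime_primes Nat.prime_two Fact.out).2 (Ne.symm hp)).pow_left k

/-- an element of coprime order centralising `q` cannot move `x` by `q` -/
theorem eq_one_of_conj_eq {k x q : G} (hk : (orderOf k).Coprime p)
    {P : Subgroup G} (hP : IsPGroup p P) (hq : q ∈ P) (hc : k * q * k⁻¹ = q)
    (h : k * x * k⁻¹ = q * x) : q = 1 := by
  have hpow : ∀ n : ℕ, k ^ n * x * (k ^ n)⁻¹ = q ^ n * x := by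
    intro n
    induction n with
    | zero => simp
    | succ n ih =>
      have hqn : k * q ^ n * k⁻¹ = q ^ n := by rw [← conj_pow, hc]
      calc k ^ (n + 1) * x * (k ^ (n + 1))⁻¹ = k * (k ^ n * x * (k ^ n)⁻¹) * k⁻¹ := by
            rw [pow_succ']; group
        _ = (k * q ^ n * k⁻¹) * (k * x * k⁻¹) := by rw [ih]; group
        _ = q ^ (n + 1) * x := by rw [hqn, h, pow_succ, mul_assoc]
  have h1 : q ^ orderOf k = 1 := by simpa [pow_orderOf_eq_one] using (hpow (orderOf k)).symm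
  obtain ⟨j, hj⟩ := hP ⟨q, hq⟩
  have hj' : q ^ p ^ j = 1 := congrArg Subtype.val hj
  exact orderOf_eq_one_iff.1 (Nat.eq_one_of_dvd_coprimes (hk.pow_right j)
    (orderOf_dvd_of_pow_eq_one h1) (orderOf_dvd_of_pow_eq_one hj'))

theorem exists_sqrt [Finite G] (hp : p ≠ 2) {P : Subgroup G} (hP : IsPGroup p P) {x : G}
    (hx : x ∈ P) : ∃ y ∈ zpowers x, y ^ 2 = x := by
  obtain ⟨j, hj⟩ := hP ⟨x, hx⟩
  have hj' : x ^ p ^ j = 1 := congrArg Subtype.val hj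
  obtain ⟨r, hr⟩ : Odd (p ^ j) := ((Fact.out : p.Prime).odd_of_ne_two hp).pow
  refine ⟨x ^ (r + 1), pow_mem (mem_zpowers x) _, ?_⟩
  rw [← pow_mul, show (r + 1) * 2 = p ^ j + 1 by omega, pow_succ, hj', one_mul]

theorem eq_one_of_sq [Finite G] (hp : p ≠ 2) {P : Subgroup G} (hP : IsPGroup p P) {x : G}
    (hx : x ∈ P) (h2 : x ^ 2 = 1) : x = 1 := by
  obtain ⟨j, hj⟩ := hP ⟨x, hx⟩
  have hj' : x ^ p ^ j = 1 := congrArg Subtype.val hj
  exact orderOf_eq_one_iff.1 (Nat.eq_one_of_dvd_coprimes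
    (((Nat.coprime_primes Nat.prime_two Fact.out).2 (Ne.symm hp)).pow_right j)
    (orderOf_dvd_of_pow_eq_one h2) (orderOf_dvd_of_pow_eq_one hj'))

/-- with a `2`-part normal in `K` -/
theorem false_of_lift_aux [Finite G] (hp : p ≠ 2) (hst : Cfsg.IsNormalizerPStable p G)
    {K : Subgroup G} (φ : K →* S2 (ZMod p)) (hφ : Function.Surjective φ)
    {R : Subgroup K} [R.Normal] (hR : IsPGroup 2 R) {t : K} (htR : t ∈ R) (ht : φ t = -1)
    {P2 Φ : Subgroup G} (hP2 : IsPGroup p P2) (hΦ : Φ ≤ P2) (hne : ¬ P2 ≤ Φ)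
    (hKP : ∀ k : K, ∀ x ∈ P2, (k : G) * x * (k : G)⁻¹ ∈ P2)
    (hKΦ : ∀ k : K, ∀ f ∈ Φ, (k : G) * f * (k : G)⁻¹ ∈ Φ)
    (hPΦ : ∀ x ∈ P2, ∀ f ∈ Φ, x * f * x⁻¹ ∈ Φ)
    (hab : ∀ x ∈ P2, ∀ y ∈ P2, ⁅x, y⁆ ∈ Φ)
    (hcent : ∀ k : K, (orderOf (k : G)).Coprime p → ∀ f ∈ Φ, (k : G) * f * (k : G)⁻¹ = f)
    (hone : ∀ k : K, φ k = 1 → ∀ x ∈ P2, ⁅(k : G), x⁆ ∈ Φ)
    (hneg : ∀ k : K, φ k = -1 → ∀ x ∈ P2, (k : G) * x * (k : G)⁻¹ * x ∈ Φ)
    (hquad : ∀ u : K, φ u = U 1 → ∀ x ∈ P2, ⁅(u : G), ⁅(u : G), x⁆⁆ ∈ Φ)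
    (hlin : ∀ u g1 g2 g3 : K, φ u = U 1 → φ g1 = G1 → φ g2 = G2 → φ g3 = G3 → ∀ x ∈ P2,
      ((g1 : G) * x * (g1 : G)⁻¹) ^ 4 * ((g2 : G) * x * (g2 : G)⁻¹)⁻¹ *
        ((g3 : G) * x * (g3 : G)⁻¹)⁻¹ * (⁅(u : G), x⁆ ^ 2)⁻¹ ∈ Φ) : False := by
  classical
  set T : G := (t : G) with hT
  have hord : ∀ r ∈ R, (orderOf (r : G)).Coprime p := fun r hr => by
    obtain ⟨j, hj⟩ := hR ⟨r, hr⟩
    have hj' : (r : G) ^ 2 ^ j = 1 := congrArg (fun z : R => ((z : K) : G)) hj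
    exact (coprime_two_pow hp j).coprime_dvd_left (orderOf_dvd_of_pow_eq_one hj')
  have htriv : ∀ k : K, φ k = 1 → k ∈ R → ∀ x ∈ P2, (k : G) * x * (k : G)⁻¹ = x := by
    intro k hk hkR x hx
    set q := ⁅(k : G), x⁆ with hq
    have hqΦ : q ∈ Φ := hone k hk x hx
    have h : (k : G) * x * (k : G)⁻¹ = q * x := by rw [hq, commutatorElement_def]; group
    have h1 := eq_one_of_conj_eq (hord k hkR) hP2 (hΦ hqΦ) (hcent k (hord k hkR) q hqΦ) h
    rwa [h1, one_mul] at h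
  have htt : ∀ x ∈ P2, T * (T * x * T⁻¹) * T⁻¹ = x := fun x hx => by
    have h := htriv (t * t) (by rw [map_mul, ht]; simp) (mul_mem htR htR) x hx
    simpa [hT, mul_assoc] using h
  have hcomm : ∀ k : K, ∀ x ∈ P2,
      T * ((k : G) * x * (k : G)⁻¹) * T⁻¹ = (k : G) * (T * x * T⁻¹) * (k : G)⁻¹ := by
    intro k x hx
    have hz := htriv (t⁻¹ * (k⁻¹ * t * k)) (by
        rw [map_mul, map_mul, map_mul, map_inv, map_inv, ht, mul_assoc (φ k)⁻¹, ← neg_one_central,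
          inv_mul_cancel_left, inv_mul_cancel])
      (mul_mem (inv_mem htR) (by
        simpa using ‹R.Normal›.conj_mem t htR k⁻¹)) x hx
    have h2 := congrArg (fun z => (k : G) * (T * z * T⁻¹) * (k : G)⁻¹) hz
    simpa [hT, mul_assoc] using h2
  have hfix : ∀ f ∈ Φ, T * f * T⁻¹ = f := hcent t (hord t htR)
  -- the inverted elements
  let I : Set G := {x | x ∈ P2 ∧ T * x * T⁻¹ = x⁻¹}
  set Pt := closure I with hPt
  have hPtle : Pt ≤ P2 := (closure_le _).2 fun x hx => hx.1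
  have hcover : ∀ x ∈ P2, ∃ y ∈ I, x⁻¹ * y ∈ Φ := by
    intro x hx
    obtain ⟨z, hz, hzx⟩ := exists_sqrt hp hP2 hx
    have hzP : z ∈ P2 := (zpowers_le.2 hx) hz
    set w := T * z * T⁻¹ with hw
    have hwP : w ∈ P2 := hKP t z hzP
    refine ⟨z * w⁻¹, ⟨mul_mem hzP (inv_mem hwP), ?_⟩, ?_⟩
    · have h := htt z hzP
      rw [← hw] at h
      calc T * (z * w⁻¹) * T⁻¹ = (T * z * T⁻¹) * (T * w * T⁻¹)⁻¹ := by group
        _ = w * z⁻¹ := by rw [h]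
        _ = (z * w⁻¹)⁻¹ := by group
    · have h : w * z ∈ Φ := hneg t ht z hzP
      have h2 := inv_mem h
      rw [← hzx]
      convert h2 using 1
      group
  have hIcomm : ∀ x ∈ I, ∀ f ∈ Φ, Commute x f := by
    rintro x ⟨hxP, hxT⟩ f hf
    have hf' : x⁻¹ * f * x ∈ Φ := by simpa using hPΦ _ (inv_mem hxP) f hf
    have h1 : x * f * x⁻¹ = x⁻¹ * f * x := by
      calc x * f * x⁻¹ = (T * x * T⁻¹)⁻¹ * (T * f * T⁻¹) * (T * x * T⁻¹) := by
            rw [hfix f hf, hxT]; group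
        _ = T * (x⁻¹ * f * x) * T⁻¹ := by group
        _ = x⁻¹ * f * x := hfix _ hf'
    have h2 : Commute (x ^ 2) f := by
      show x ^ 2 * f = f * x ^ 2
      calc x ^ 2 * f = x * (x * f * x⁻¹) * x := by rw [pow_two]; group
        _ = f * x ^ 2 := by rw [h1, pow_two]; group
    obtain ⟨y, hy, hyx⟩ := exists_sqrt hp hP2 hxP
    obtain ⟨n, rfl⟩ := mem_zpowers_iff.1 hy
    rw [← hyx, ← zpow_natCast, ← zpow_mul, mul_comm, zpow_mul, zpow_natCast]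
    exact h2.zpow_left n
  have hPtΦ : ∀ x ∈ Pt, ∀ f ∈ Φ, Commute x f := by
    intro x hx f hf
    induction hx using closure_induction with
    | mem x hx => exact hIcomm x hx f hf
    | one => exact Commute.one_left f
    | mul a b _ _ iha ihb => exact iha.mul_left ihb
    | inv a _ iha => exact iha.inv_left
  have hKI : ∀ k : K, ∀ x ∈ I, (k : G) * x * (k : G)⁻¹ ∈ I := by
    rintro k x ⟨hxP, hxT⟩
    refine ⟨hKP k x hxP, ?_⟩
    rw [hcomm k x hxP, hxT]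
    group
  have hKPt : ∀ k : K, ∀ x ∈ Pt, (k : G) * x * (k : G)⁻¹ ∈ Pt := by
    intro k x hx
    induction hx using closure_induction with
    | mem x hx => exact subset_closure (hKI k x hx)
    | one => simp
    | mul a b _ _ iha ihb =>
      have h : (k : G) * (a * b) * (k : G)⁻¹
          = (k : G) * a * (k : G)⁻¹ * ((k : G) * b * (k : G)⁻¹) := by group
      rw [h]; exact mul_mem iha ihb
    | inv a _ iha => simpa [mul_assoc] using inv_mem iha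
  -- the commutator pairing on `Pt`
  have hc : ∀ x ∈ Pt, ∀ y ∈ Pt, ⁅x, y⁆ ∈ Φ := fun x hx y hy => hab x (hPtle hx) y (hPtle hy)
  have bilR : ∀ x ∈ Pt, ∀ y ∈ Pt, ∀ z ∈ Pt, ⁅x, y * z⁆ = ⁅x, y⁆ * ⁅x, z⁆ := by
    intro x hx y hy z hz
    have h := hPtΦ y hy _ (hc x hx z hz)
    calc ⁅x, y * z⁆ = ⁅x, y⁆ * (y * ⁅x, z⁆ * y⁻¹) := by simp only [commutatorElement_def]; group
      _ = ⁅x, y⁆ * ⁅x, z⁆ := by rw [h.eq, mul_inv_cancel_right]
  have bilL : ∀ x ∈ Pt, ∀ y ∈ Pt, ∀ z ∈ Pt, ⁅x * y, z⁆ = ⁅y, z⁆ * ⁅x, z⁆ := by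
    intro x hx y hy z hz
    have h := hPtΦ x hx _ (hc y hy z hz)
    calc ⁅x * y, z⁆ = (x * ⁅y, z⁆ * x⁻¹) * ⁅x, z⁆ := by simp only [commutatorElement_def]; group
      _ = ⁅y, z⁆ * ⁅x, z⁆ := by rw [h.eq, mul_inv_cancel_right]
  have hswap : ∀ x ∈ Pt, ∀ y ∈ Pt, ∀ a ∈ Pt, ∀ b ∈ Pt, Commute ⁅x, y⁆ ⁅a, b⁆ :=
    fun x hx y hy a ha b hb => by
      refine hPtΦ _ ?_ _ (hc a ha b hb)
      rw [commutatorElement_def]
      exact mul_mem (mul_mem (mul_mem hx hy) (inv_mem hx)) (inv_mem hy)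
  have invL : ∀ x ∈ Pt, ∀ z ∈ Pt, ⁅x⁻¹, z⁆ = ⁅x, z⁆⁻¹ := by
    intro x hx z hz
    have h := bilL x⁻¹ (inv_mem hx) x hx z hz
    rw [inv_mul_cancel, commutatorElement_one_left] at h
    exact eq_inv_of_mul_eq_one_right h.symm
  have invR : ∀ x ∈ Pt, ∀ z ∈ Pt, ⁅x, z⁻¹⁆ = ⁅x, z⁆⁻¹ := by
    intro x hx z hz
    have h := bilR x hx z hz z⁻¹ (inv_mem hz)
    rw [mul_inv_cancel, commutatorElement_one_right] at h
    exact eq_inv_of_mul_eq_one_right h.symm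
  have powL : ∀ x ∈ Pt, ∀ z ∈ Pt, ∀ n : ℕ, ⁅x ^ n, z⁆ = ⁅x, z⁆ ^ n := by
    intro x hx z hz n
    induction n with
    | zero => simp
    | succ n ih => rw [pow_succ, bilL _ (pow_mem hx n) _ hx z hz, ih, pow_succ']
  have powR : ∀ x ∈ Pt, ∀ z ∈ Pt, ∀ n : ℕ, ⁅x, z ^ n⁆ = ⁅x, z⁆ ^ n := by
    intro x hx z hz n
    induction n with
    | zero => simp
    | succ n ih => rw [pow_succ, bilR x hx _ (pow_mem hz n) _ hz, ih, pow_succ]
  have modL : ∀ a b z, a ∈ Pt → b ∈ Pt → z ∈ Pt → a * b⁻¹ ∈ Φ → ⁅a, z⁆ = ⁅b, z⁆ := by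
    intro a b z ha hb hz hf
    have h1 : ⁅a * b⁻¹, z⁆ = 1 :=
      commutatorElement_eq_one_iff_commute.2 (hPtΦ z hz _ hf).symm
    have h2 := bilL (a * b⁻¹) (mul_mem ha (inv_mem hb)) b hb z hz
    rwa [inv_mul_cancel_right, h1, mul_one] at h2
  have modR : ∀ a b z, a ∈ Pt → b ∈ Pt → z ∈ Pt → a * b⁻¹ ∈ Φ → ⁅z, a⁆ = ⁅z, b⁆ := by
    intro a b z ha hb hz hf
    have h1 : ⁅z, a * b⁻¹⁆ = 1 := commutatorElement_eq_one_iff_commute.2 (hPtΦ z hz _ hf)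
    have h2 := bilR z hz (a * b⁻¹) (mul_mem ha (inv_mem hb)) b hb
    rwa [inv_mul_cancel_right, h1, one_mul] at h2
  have equiv : ∀ k : K, ∀ x y : G,
      (k : G) * ⁅x, y⁆ * (k : G)⁻¹ = ⁅(k : G) * x * (k : G)⁻¹, (k : G) * y * (k : G)⁻¹⁆ :=
    fun k x y => by simp only [commutatorElement_def]; group
  have hanti : ∀ g : K, (orderOf (g : G)).Coprime p → φ g ^ 2 = -1 → ∀ x ∈ Pt, ∀ y ∈ Pt,
      ⁅(g : G) * x * (g : G)⁻¹, y⁆ = ⁅x, (g : G) * y * (g : G)⁻¹⁆⁻¹ := by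
    intro g hg hg2 x hx y hy
    have hgx := hKPt g x hx
    have hgy := hKPt g y hy
    have hggx := hKPt g _ hgx
    have hf : (g : G) * ((g : G) * x * (g : G)⁻¹) * (g : G)⁻¹ * x⁻¹⁻¹ ∈ Φ := by
      have h := hneg (g * g) (by rw [map_mul, ← pow_two, hg2]) x (hPtle hx)
      simpa [mul_assoc] using h
    rw [← hcent g hg _ (hc _ hgx y hy), equiv, modL _ x⁻¹ _ hggx (inv_mem hx) hgy hf,
      invL x hx _ hgy]
  -- lifts
  obtain ⟨u, hu⟩ := hφ (U 1)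
  have lift : ∀ s : S2 (ZMod p), s ^ 2 = -1 → ∃ g : K, φ g = s ∧ (orderOf (g : G)).Coprime p := by
    intro s hs
    obtain ⟨g0, hg0⟩ := hφ s
    obtain ⟨g, hg, k, hk⟩ := exists_two_part φ g0 (by
      rw [hg0, show 4 = 2 * 2 from rfl, pow_mul, hs]; simp)
    exact ⟨g, hg.trans hg0, by rw [Subgroup.orderOf_coe, hk]; exact coprime_two_pow hp k⟩
  obtain ⟨g1, hg1, ho1⟩ := lift G1 G1_sq
  obtain ⟨g2, hg2, ho2⟩ := lift G2 G2_sq
  obtain ⟨g3, hg3, ho3⟩ := lift G3 G3_sq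
  let D : G → G := fun x => ⁅(u : G), x⁆
  have hDPt : ∀ x ∈ Pt, D x ∈ Pt := fun x hx => by
    show ⁅(u : G), x⁆ ∈ Pt
    rw [commutatorElement_def]
    exact mul_mem (hKPt u x hx) (inv_mem hx)
  have hDD : ∀ x ∈ Pt, D (D x) ∈ Φ := fun x hx => hquad u hu x (hPtle hx)
  have hND : ∀ x ∈ Pt, ∀ y ∈ Pt, ⁅D x, y⁆ ^ 2 = (⁅x, D y⁆ ^ 2)⁻¹ := by
    intro x hx y hy
    set a1 := (g1 : G) * x * (g1 : G)⁻¹ with ha1
    set a2 := (g2 : G) * x * (g2 : G)⁻¹ with ha2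
    set a3 := (g3 : G) * x * (g3 : G)⁻¹ with ha3
    set b1 := (g1 : G) * y * (g1 : G)⁻¹ with hb1
    set b2 := (g2 : G) * y * (g2 : G)⁻¹ with hb2
    set b3 := (g3 : G) * y * (g3 : G)⁻¹ with hb3
    have A1 := hKPt g1 x hx
    have A2 := hKPt g2 x hx
    have A3 := hKPt g3 x hx
    have B1 := hKPt g1 y hy
    have B2 := hKPt g2 y hy
    have B3 := hKPt g3 y hy
    rw [← ha1] at A1; rw [← ha2] at A2; rw [← ha3] at A3
    rw [← hb1] at B1; rw [← hb2] at B2; rw [← hb3] at B3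
    have hA : a1 ^ 4 * a2⁻¹ * a3⁻¹ ∈ Pt :=
      mul_mem (mul_mem (pow_mem A1 4) (inv_mem A2)) (inv_mem A3)
    have hB : b1 ^ 4 * b2⁻¹ * b3⁻¹ ∈ Pt :=
      mul_mem (mul_mem (pow_mem B1 4) (inv_mem B2)) (inv_mem B3)
    have e1 : ⁅D x, y⁆ ^ 2 = ⁅a1 ^ 4 * a2⁻¹ * a3⁻¹, y⁆ := by
      rw [← powL _ (hDPt x hx) y hy]
      exact (modL _ _ y hA (pow_mem (hDPt x hx) 2) hy
        (hlin u g1 g2 g3 hu hg1 hg2 hg3 x (hPtle hx))).symm
    have e2 : ⁅x, D y⁆ ^ 2 = ⁅x, b1 ^ 4 * b2⁻¹ * b3⁻¹⁆ := by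
      rw [← powR x hx _ (hDPt y hy)]
      exact (modR _ _ x hB (pow_mem (hDPt y hy) 2) hx
        (hlin u g1 g2 g3 hu hg1 hg2 hg3 y (hPtle hy))).symm
    rw [e1, e2, bilL _ (mul_mem (pow_mem A1 4) (inv_mem A2)) _ (inv_mem A3) y hy,
      bilL _ (pow_mem A1 4) _ (inv_mem A2) y hy, powL _ A1 y hy, invL _ A2 y hy, invL _ A3 y hy,
      bilR x hx _ (mul_mem (pow_mem B1 4) (inv_mem B2)) _ (inv_mem B3),
      bilR x hx _ (pow_mem B1 4) _ (inv_mem B2), powR x hx _ B1, invR x hx _ B2, invR x hx _ B3,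
      ha1, ha2, ha3, hanti g1 ho1 (by rw [hg1, G1_sq]) x hx y hy,
      hanti g2 ho2 (by rw [hg2, G2_sq]) x hx y hy, hanti g3 ho3 (by rw [hg3, G3_sq]) x hx y hy,
      ← hb1, ← hb2, ← hb3, inv_inv, inv_inv, mul_inv_rev, mul_inv_rev, inv_inv, inv_inv,
      ← inv_pow]
  have hNN : ∀ x ∈ Pt, ∀ y ∈ Pt, ⁅D x, D y⁆ = 1 := by
    intro x hx y hy
    have h := hND x hx (D y) (hDPt y hy)
    have h1 : ⁅x, D (D y)⁆ = 1 :=
      commutatorElement_eq_one_iff_commute.2 (hPtΦ x hx _ (hDD y hy))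
    rw [h1, one_pow, inv_one] at h
    exact eq_one_of_sq hp hP2 (hΦ (hc _ (hDPt x hx) _ (hDPt y hy))) h
  -- `u` fixes `⁅u, x⁆`
  have hD1 : ∀ x ∈ I, (u : G) * D x * (u : G)⁻¹ = D x := by
    rintro x hxI
    have hxPt : x ∈ Pt := subset_closure hxI
    obtain ⟨hxP, hxT⟩ := hxI
    set a := (u : G) * x * (u : G)⁻¹ with ha
    have haPt : a ∈ Pt := hKPt u x hxPt
    set d := a * x⁻¹ with hd
    have hDx : D x = d := commutatorElement_def _ _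
    have hdPt : d ∈ Pt := hDx ▸ hDPt x hxPt
    have hdP := hPtle hdPt
    set e := ⁅(u : G), d⁆ with he
    have heΦ : e ∈ Φ := by rw [he, ← hDx]; exact hDD x hxPt
    have hud : (u : G) * d * (u : G)⁻¹ = e * d := by rw [he, commutatorElement_def]; group
    set z := ⁅a, x⁻¹⁆ with hz
    have hzΦ : z ∈ Φ := hc a haPt _ (inv_mem hxPt)
    have hTd : T * d * T⁻¹ = d⁻¹ * z := by
      have hTa : T * a * T⁻¹ = a⁻¹ := by
        rw [ha, hcomm u x hxP, hxT]; group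
      calc T * d * T⁻¹ = (T * a * T⁻¹) * (T * x * T⁻¹)⁻¹ := by rw [hd]; group
        _ = d⁻¹ * z := by rw [hTa, hxT, hz, commutatorElement_def, hd]; group
    have huz : (u : G) * z * (u : G)⁻¹ = z := by
      rw [hz, equiv]
      have h1 : (u : G) * a * (u : G)⁻¹ * (d * a)⁻¹ = e := by
        calc (u : G) * a * (u : G)⁻¹ * (d * a)⁻¹
            = ((u : G) * d * (u : G)⁻¹) * ((u : G) * x * (u : G)⁻¹) * (d * a)⁻¹ := by
              rw [hd]; group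
          _ = e := by rw [hud, ← ha]; group
      rw [show (u : G) * x⁻¹ * (u : G)⁻¹ = a⁻¹ by rw [ha]; group,
        modL _ (d * a) a⁻¹ (hKPt u a haPt) (mul_mem hdPt haPt) (inv_mem haPt) (h1 ▸ heΦ),
        bilL d hdPt a haPt _ (inv_mem haPt), invR a haPt a haPt, commutatorElement_self, inv_one,
        one_mul, invR d hdPt a haPt, hd, bilL a haPt _ (inv_mem hxPt) a haPt,
        commutatorElement_self, mul_one, commutatorElement_inv]
    have hA : T * ((u : G) * d * (u : G)⁻¹) * T⁻¹ = (u : G) * (d⁻¹ * z) * (u : G)⁻¹ := by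
      rw [hcomm u d hdP, hTd]
    rw [hud] at hA
    have hA' : e * d⁻¹ * z = d⁻¹ * e⁻¹ * z := by
      calc e * d⁻¹ * z = (T * e * T⁻¹) * (T * d * T⁻¹) := by rw [hfix e heΦ, hTd, mul_assoc]
        _ = T * (e * d) * T⁻¹ := by group
        _ = (u : G) * (d⁻¹ * z) * (u : G)⁻¹ := hA
        _ = ((u : G) * d * (u : G)⁻¹)⁻¹ * ((u : G) * z * (u : G)⁻¹) := by group
        _ = d⁻¹ * e⁻¹ * z := by rw [hud, huz, mul_inv_rev]
    have hee : e * d⁻¹ = d⁻¹ * e⁻¹ := mul_right_cancel hA'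
    rw [← ((hPtΦ d hdPt e heΦ).inv_left).eq] at hee
    have h2 : e ^ 2 = 1 := by rw [pow_two]; exact eq_inv_iff_mul_eq_one.1 (mul_left_cancel hee)
    rw [hDx, hud, eq_one_of_sq hp hP2 (hΦ heΦ) h2, one_mul]
  have hD : ∀ x ∈ Pt, (u : G) * D x * (u : G)⁻¹ = D x := by
    intro x hx
    have hx' : x ∈ Submonoid.closure I := by
      rw [← Subgroup.closure_toSubmonoid_of_finite]; exact hx
    have hmemPt : ∀ y ∈ Submonoid.closure I, y ∈ Pt := fun y hy => by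
      rw [hPt, ← Subgroup.mem_toSubmonoid, Subgroup.closure_toSubmonoid_of_finite]; exact hy
    induction hx' using Submonoid.closure_induction with
    | mem y hy => exact hD1 y hy
    | one => simp [D]
    | mul a b ha hb iha ihb =>
      have haP := hmemPt a ha
      have hbP := hmemPt b hb
      have iha := iha haP
      have ihb := ihb hbP
      have hDa := hDPt a haP
      have hDb := hDPt b hbP
      have e1 : D (a * b) = D a * ⁅a, D b⁆ * D b := by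
        simp only [D, commutatorElement_def]; group
      have e2 : (u : G) * ⁅a, D b⁆ * (u : G)⁻¹ = ⁅a, D b⁆ := by
        rw [equiv, ihb, show (u : G) * a * (u : G)⁻¹ = D a * a by
          simp only [D, commutatorElement_def]; group, bilL _ hDa a haP _ hDb, hNN a haP b hbP,
          mul_one]
      calc (u : G) * D (a * b) * (u : G)⁻¹ = ((u : G) * D a * (u : G)⁻¹) *
            ((u : G) * ⁅a, D b⁆ * (u : G)⁻¹) * ((u : G) * D b * (u : G)⁻¹) := by rw [e1]; group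
        _ = D (a * b) := by rw [iha, ihb, e2, e1]
  have hnat : ∀ n : ℕ, ∀ x ∈ Pt, Commute (u : G) ⁅x, (u : G) ^ n⁆ := by
    intro n x hx
    induction n with
    | zero => simp
    | succ n ih =>
      rw [← commutatorElement_inv]
      refine Commute.inv_right ?_
      have e : ⁅(u : G) ^ (n + 1), x⁆
          = (u : G) * ⁅(u : G) ^ n, x⁆ * (u : G)⁻¹ * D x := by
        simp only [D, commutatorElement_def, pow_succ']; group
      rw [e, ← commutatorElement_inv x]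
      exact ((((Commute.refl _).mul_right ih.inv_right).mul_right
        (Commute.refl _).inv_right)).mul_right (mul_inv_eq_iff_eq_mul.1 (hD x hx))
  have hq : ⁅⁅Pt, zpowers (u : G)⁆, zpowers (u : G)⁆ = ⊥ := by
    rw [commutator_eq_bot_iff_le_centralizer]
    refine commutator_le.2 fun x hx y hy => ?_
    rw [zpowers_eq_closure, centralizer_closure, mem_centralizer_singleton_iff]
    obtain ⟨n, -, rfl⟩ := Finset.mem_image.1 (mem_zpowers_iff_mem_range_orderOf.1 hy)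
    exact (hnat n x hx).symm.eq
  have hNPt : ∀ k : K, (k : G) ∈ normalizer (Pt : Set G) := fun k => by
    refine mem_normalizer_iff.2 fun y => ⟨hKPt k y, fun h => ?_⟩
    simpa [mul_assoc] using hKPt k⁻¹ _ h
  obtain ⟨E, -, hNE, hpow, huE⟩ :=
    isNormalizerPStable_iff.1 hst Pt (hP2.to_le hPtle) _ (hNPt u) hq
  haveI : (E.subgroupOf K).Normal :=
    normal_subgroupOf_of_le_normalizer fun k hk => hNE (hNPt ⟨k, hk⟩)
  haveI : ((E.subgroupOf K).map φ).Normal := Subgroup.Normal.map inferInstance φ hφ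
  have htop := eq_top_of_U_mem (N := (E.subgroupOf K).map φ) ⟨u, huE, hu⟩
  obtain ⟨w, hw, hwneg⟩ : (-1 : S2 (ZMod p)) ∈ (E.subgroupOf K).map φ := htop ▸ mem_top _
  obtain ⟨j, hj⟩ := hpow _ (mem_subgroupOf.1 hw)
  have hwj : φ (w ^ p ^ j) = -1 := by
    rw [map_pow, hwneg, Odd.neg_one_pow (((Fact.out : p.Prime).odd_of_ne_two hp).pow)]
  refine hne fun x hx => ?_
  obtain ⟨y, hyI, hxy⟩ := hcover x hx
  have hyPt : y ∈ Pt := subset_closure hyI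
  have h1 := hneg _ hwj y (hPtle hyPt)
  have h2 : ((w ^ p ^ j : K) : G) * y * ((w ^ p ^ j : K) : G)⁻¹ = y := by
    rw [Subgroup.coe_pow, ← mem_centralizer_iff.1 hj y hyPt, mul_inv_cancel_right]
  rw [h2] at h1
  obtain ⟨z, hz, hzy⟩ := exists_sqrt hp hP2 (hPtle hyPt)
  obtain ⟨n, rfl⟩ := mem_zpowers_iff.1 hz
  have hy : y ∈ Φ := by
    rw [← hzy, ← zpow_natCast, ← zpow_mul, mul_comm, zpow_mul, zpow_natCast]
    exact zpow_mem (by rwa [pow_two]) n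
  have h3 := mul_mem hy (inv_mem hxy)
  simpa using h3

/-- no lift of a natural `SL(2, p)`-section in a stable group -/
theorem false_of_lift [Finite G] (hp : p ≠ 2) (hst : Cfsg.IsNormalizerPStable p G)
    {K : Subgroup G} (φ : K →* S2 (ZMod p)) (hφ : Function.Surjective φ)
    {P2 Φ : Subgroup G} (hP2 : IsPGroup p P2) (hΦ : Φ ≤ P2) (hne : ¬ P2 ≤ Φ)
    (hKP : ∀ k : K, ∀ x ∈ P2, (k : G) * x * (k : G)⁻¹ ∈ P2)
    (hKΦ : ∀ k : K, ∀ f ∈ Φ, (k : G) * f * (k : G)⁻¹ ∈ Φ)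
    (hPΦ : ∀ x ∈ P2, ∀ f ∈ Φ, x * f * x⁻¹ ∈ Φ)
    (hab : ∀ x ∈ P2, ∀ y ∈ P2, ⁅x, y⁆ ∈ Φ)
    (hcent : ∀ k : K, (orderOf (k : G)).Coprime p → ∀ f ∈ Φ, (k : G) * f * (k : G)⁻¹ = f)
    (hone : ∀ k : K, φ k = 1 → ∀ x ∈ P2, ⁅(k : G), x⁆ ∈ Φ)
    (hneg : ∀ k : K, φ k = -1 → ∀ x ∈ P2, (k : G) * x * (k : G)⁻¹ * x ∈ Φ)
    (hquad : ∀ u : K, φ u = U 1 → ∀ x ∈ P2, ⁅(u : G), ⁅(u : G), x⁆⁆ ∈ Φ)
    (hlin : ∀ u g1 g2 g3 : K, φ u = U 1 → φ g1 = G1 → φ g2 = G2 → φ g3 = G3 → ∀ x ∈ P2,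
      ((g1 : G) * x * (g1 : G)⁻¹) ^ 4 * ((g2 : G) * x * (g2 : G)⁻¹)⁻¹ *
        ((g3 : G) * x * (g3 : G)⁻¹)⁻¹ * (⁅(u : G), x⁆ ^ 2)⁻¹ ∈ Φ) : False := by
  classical
  haveI : Fact (Nat.Prime 2) := ⟨Nat.prime_two⟩
  obtain ⟨t0, ht0⟩ := hφ (-1)
  obtain ⟨t, ht, k, hk⟩ := exists_two_part φ t0 (by
    rw [ht0, show 4 = 2 * 2 from rfl, pow_mul, SLTwo.neg_one_sq', one_pow])
  rw [ht0] at ht
  haveI : (zpowers (-1 : S2 (ZMod p))).Normal := ⟨fun x hx g => by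
    obtain ⟨n, rfl⟩ := mem_zpowers_iff.1 hx
    rw [← conj_zpow, neg_one_central, mul_inv_cancel_right]
    exact zpow_mem (mem_zpowers _) n⟩
  set M := (zpowers (-1 : S2 (ZMod p))).comap φ with hM
  have htM : t ∈ M := by rw [hM, mem_comap, ht]; exact mem_zpowers _
  have htp : IsPGroup 2 (zpowers (⟨t, htM⟩ : M)) := by
    refine IsPGroup.of_card (n := k) ?_
    rw [Nat.card_zpowers, Subgroup.orderOf_mk, hk]
  obtain ⟨S, hS⟩ := htp.exists_le_sylow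
  set R := (S : Subgroup M).map M.subtype with hR
  have htR : t ∈ R := ⟨⟨t, htM⟩, hS (mem_zpowers _), rfl⟩
  set N := normalizer (R : Set K) with hN
  have hNtop : N ⊔ M = ⊤ := Sylow.normalizer_sup_eq_top S
  have hNsurj : ∀ s, ∃ n ∈ N, φ n = s := by
    intro s
    obtain ⟨g, rfl⟩ := hφ s
    obtain ⟨n, hn, m, hm, rfl⟩ := mem_sup_of_normal_right.1 (hNtop ▸ mem_top g : g ∈ N ⊔ M)
    obtain ⟨i, hi⟩ := mem_zpowers_iff.1 (mem_comap.1 hm)
    exact ⟨n * t ^ i, mul_mem hn (zpow_mem (le_normalizer htR) i),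
      by rw [map_mul, map_mul, map_zpow, ht, hi]⟩
  let e : N ≃* ↥(N.map K.subtype) := equivMapOfInjective _ _ K.subtype_injective
  have hval : ∀ x : ↥(N.map K.subtype), (((e.symm x : N) : K) : G) = (x : G) := fun x =>
    congrArg Subtype.val (e.apply_symm_apply x)
  let ψ : ↥(N.map K.subtype) →* S2 (ZMod p) := (φ.comp N.subtype).comp e.symm.toMonoidHom
  have hψ : Function.Surjective ψ := fun s => by
    obtain ⟨n, hn, rfl⟩ := hNsurj s
    exact ⟨e ⟨n, hn⟩, by simp [ψ]⟩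
  haveI : (R.subgroupOf N).Normal := normal_in_normalizer
  haveI : ((R.subgroupOf N).map e.toMonoidHom).Normal :=
    Subgroup.Normal.map inferInstance _ e.surjective
  refine false_of_lift_aux hp hst ψ hψ (R := (R.subgroupOf N).map e.toMonoidHom)
    (((S.isPGroup'.map M.subtype).comap_of_injective N.subtype N.subtype_injective).map _)
    (t := e ⟨t, le_normalizer htR⟩) (mem_map_of_mem _ (show (⟨t, le_normalizer htR⟩ : N) ∈
      R.subgroupOf N from htR)) (by simp [ψ, ht]) hP2 hΦ hne ?_ ?_ hPΦ hab ?_ ?_ ?_ ?_ ?_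
  · intro k x hx; rw [← hval k]; exact hKP _ x hx
  · intro k f hf; rw [← hval k]; exact hKΦ _ f hf
  · intro k hk f hf; rw [← hval k] at hk ⊢; exact hcent _ hk f hf
  · intro k hk x hx; rw [← hval k]; exact hone _ hk x hx
  · intro k hk x hx; rw [← hval k]; exact hneg _ hk x hx
  · intro k hk x hx; rw [← hval k]; exact hquad _ hk x hx
  · intro u a b c hu ha hb hc x hx
    rw [← hval u, ← hval a, ← hval b, ← hval c]
    exact hlin _ _ _ _ hu ha hb hc x hx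

end CfsgLib.PLocal.SLTwo
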