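import Cfsg.Agent.Lib.PLocal.SLTwo.Qd
import Cfsg.Agent.Lib.PLocal.SLTwo.StableCore
import Cfsg.Agent.Lib.PGroups.ClassTwo
import Cfsg.Agent.Lib.PGroups.Omega
import Cfsg.Agent.Lib.OddLocal.Coprime
import Cfsg.Agent.Lib.Transfer.RankTwo
import Cfsg.Agent.Lib.OddLocal.RankTwoSolvable
import Cfsg.Agent.Lib.Core.Carter
import Cfsg.Prelude.Def_LocalEven
import Cfsg.Agent.Lib.Classical.SL2Sylow
import Cfsg.Prelude.Def_EvenType
import Mathlib.GroupTheory.Transfer

/-!
# Extensions of `p`-groups by `Qd(p)` of `p`-rank two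
-/

set_option autoImplicit false

namespace CfsgLib.PLocal.SLTwo

open Subgroup
open scoped commutatorElement IsMulCommutative

section Perfect

variable {G : Type*} [Group G]

theorem center_of_cyclic_normal (hperf : ⁅(⊤ : Subgroup G), (⊤ : Subgroup G)⁆ = ⊤) (W : Subgroup G) [W.Normal]
    [IsCyclic W] : W ≤ center G := by
  have hle : ⁅(⊤ : Subgroup G), (⊤ : Subgroup G)⁆ ≤ centralizer (W : Set G) := by
    refine commutator_le.2 fun x _ y _ => mem_centralizer_iff_conj.2 fun w hw => ?_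
    obtain ⟨m, hm⟩ := (MulAut.conjNormal (H := W) x).toMonoidHom.map_cyclic
    obtain ⟨n, hn⟩ := (MulAut.conjNormal (H := W) y).toMonoidHom.map_cyclic
    have key : MulAut.conjNormal (H := W) (x * y) = MulAut.conjNormal (H := W) (y * x) := by
      refine MulEquiv.ext fun v => ?_
      have hm' : ∀ a, MulAut.conjNormal (H := W) x a = a ^ m := hm
      have hn' : ∀ a, MulAut.conjNormal (H := W) y a = a ^ n := hn
      rw [map_mul, map_mul, MulAut.mul_apply, MulAut.mul_apply, hn', hm', hm', hn', ← zpow_mul,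
        ← zpow_mul, mul_comm]
    have h2 : MulAut.conjNormal (H := W) ⁅x, y⁆ = 1 := by
      rw [show ⁅x, y⁆ = (x * y) * (y * x)⁻¹ by rw [commutatorElement_def]; group, map_mul, map_inv,
        key, mul_inv_cancel]
    exact congrArg (fun a : MulAut W => ((a ⟨w, hw⟩ : W) : G)) h2
  rw [hperf] at hle
  exact fun w hw => mem_center_iff.2 fun g =>
    (mem_centralizer_iff.1 (hle (mem_top g)) w hw).symm

theorem center_of_central_chain (hperf : ⁅(⊤ : Subgroup G), (⊤ : Subgroup G)⁆ = ⊤) {W W0 : Subgroup G}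
    (h0 : W0 ≤ center G) (h : ∀ g : G, ∀ w ∈ W, ⁅g, w⁆ ∈ W0) : W ≤ center G := by
  have h1 : ⁅⁅(⊤ : Subgroup G), W⁆, (⊤ : Subgroup G)⁆ = ⊥ := by
    rw [commutator_eq_bot_iff_le_centralizer]
    refine (commutator_le.2 fun g _ w hw => h g w hw).trans (h0.trans ?_)
    intro z hz
    exact mem_centralizer_iff.2 fun g _ => mem_center_iff.1 hz g
  have h2 : ⁅⁅W, (⊤ : Subgroup G)⁆, (⊤ : Subgroup G)⁆ = ⊥ := by rwa [commutator_comm W]
  have h3 := commutator_commutator_eq_bot_of_rotate h1 h2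
  rw [hperf, commutator_eq_bot_iff_le_centralizer] at h3
  exact fun w hw => mem_center_iff.2 fun g =>
    (mem_centralizer_iff.1 (h3 (mem_top g)) w hw).symm

theorem card_map_mk [Finite G] (W W0 : Subgroup G) [W0.Normal] (hle : W0 ≤ W) :
    Nat.card (W.map (QuotientGroup.mk' W0)) * Nat.card W0 = Nat.card W := by
  have h1 := relIndex_mul_relIndex ⊥ W0 W bot_le hle
  rw [relIndex_bot_left, relIndex_bot_left] at h1
  have h2 := relIndex_ker W (QuotientGroup.mk' W0)
  rw [QuotientGroup.ker_mk'] at h2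
  rw [← h1, h2, mul_comm]

theorem center_of_order_sq [Finite G] {p : ℕ} [Fact p.Prime]
    (hperf : ⁅(⊤ : Subgroup G), (⊤ : Subgroup G)⁆ = ⊤) {W W0 : Subgroup G} [W.Normal] [W0.Normal]
    (hle : W0 ≤ W) (h0 : Nat.card W0 = p) (hW : Nat.card W = p ^ 2) : W ≤ center G := by
  haveI : IsCyclic W0 := isCyclic_of_prime_card h0
  refine center_of_central_chain hperf (center_of_cyclic_normal hperf W0) fun g w hw => ?_
  haveI hn : (W.map (QuotientGroup.mk' W0)).Normal :=
    Subgroup.Normal.map inferInstance _ (QuotientGroup.mk'_surjective _)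
  have hcard : Nat.card (W.map (QuotientGroup.mk' W0)) = p := by
    have h := card_map_mk W W0 hle
    rw [h0, hW, pow_two] at h
    exact Nat.eq_of_mul_eq_mul_right (Fact.out : p.Prime).pos h
  haveI : IsCyclic (W.map (QuotientGroup.mk' W0)) := isCyclic_of_prime_card hcard
  have hperf' : ⁅(⊤ : Subgroup (G ⧸ W0)), (⊤ : Subgroup (G ⧸ W0))⁆ = ⊤ := by
    rw [← map_top_of_surjective _ (QuotientGroup.mk'_surjective W0), ← map_commutator, hperf]
  have hc := center_of_cyclic_normal hperf' _ (mem_map_of_mem (QuotientGroup.mk' W0) hw)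
  rw [← QuotientGroup.eq_one_iff]
  show (QuotientGroup.mk' W0) ⁅g, w⁆ = 1
  rw [map_commutatorElement, commutatorElement_eq_one_iff_mul_comm]
  exact mem_center_iff.1 hc _

theorem eq_one_of_center_of_commutator [Finite G] {p : ℕ} [Fact p.Prime] (P : Sylow p G)
    (hP : ∀ a ∈ (P : Subgroup G), ∀ b ∈ (P : Subgroup G), a * b = b * a) {z : G}
    (hz : z ∈ center G) (hc : z ∈ commutator G) (hzP : z ∈ (P : Subgroup G)) : z = 1 := by
  haveI : IsMulCommutative (P : Subgroup G) := ⟨⟨fun a b => Subtype.ext (hP a a.2 b b.2)⟩⟩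
  let τ := MonoidHom.transfer (MonoidHom.id (P : Subgroup G))
  have h1 : τ z = 1 := Abelianization.commutator_subset_ker τ hc
  rw [MonoidHom.transfer_eq_pow (MonoidHom.id (P : Subgroup G)) z fun k g0 _ => by
    rw [mul_assoc, ← mem_center_iff.1 (pow_mem hz k) g0, inv_mul_cancel_left]] at h1
  have h2 : z ^ (P : Subgroup G).index = 1 := congrArg Subtype.val h1
  obtain ⟨k, hk⟩ := P.2 ⟨z, hzP⟩
  refine orderOf_eq_one_iff.1 (Nat.eq_one_of_dvd_coprimes
    ((((Fact.out : p.Prime).coprime_iff_not_dvd).2 P.not_dvd_index).symm.pow_right k)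
    (orderOf_dvd_of_pow_eq_one h2) (orderOf_dvd_of_pow_eq_one ?_))
  exact congrArg Subtype.val hk

end Perfect

theorem _root_.CfsgLib.PGroups.comm_mul_right_of_central_left {G : Type*} [Group G] {x y z : G}
    (h : y ∈ center G) : ⁅x, y * z⁆ = ⁅x, z⁆ := by
  have h1 : ⁅x, y * z⁆ = ⁅x, y⁆ * (y * ⁅x, z⁆ * y⁻¹) := by
    simp only [commutatorElement_def]; group
  rw [h1, commutatorElement_eq_one_iff_mul_comm.2 (mem_center_iff.1 h x), one_mul,
    ← mem_center_iff.1 h, mul_inv_cancel_right]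

variable {p : ℕ} [Fact p.Prime]

/-- the linear part -/
noncomputable def linHom : ↥(Cfsg.qd p) →* S2 (ZMod p) :=
  MonoidHom.mk' (fun z => (aff_surjective z).choose) fun x y => by
    obtain ⟨a, v, ha⟩ : ∃ a v, x = aff a v := aff_surjective x
    obtain ⟨b, w, hb⟩ : ∃ b w, y = aff b w := aff_surjective y
    have key : ∀ (z : ↥(Cfsg.qd p)) (c : S2 (ZMod p)) (u : Fin 2 → ZMod p), z = aff c u →
        (aff_surjective z).choose = c := fun z c u hz => by
      obtain ⟨u', hu'⟩ := (aff_surjective z).choose_spec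
      exact (aff_injective (hu'.symm.trans hz)).1
    rw [key x a v ha, key y b w hb, key (x * y) (a * b) _ (by rw [ha, hb, aff_mul])]

theorem linHom_aff (x : S2 (ZMod p)) (v : Fin 2 → ZMod p) : linHom (aff x v) = x := by
  obtain ⟨u', hu'⟩ := (aff_surjective (aff x v)).choose_spec
  exact (aff_injective hu').1.symm

theorem commutator_S2_top (hp : 3 < p) : ⁅(⊤ : Subgroup (S2 (ZMod p))), (⊤ : Subgroup (S2 (ZMod p)))⁆ = ⊤ := by
  haveI : (⁅(⊤ : Subgroup (S2 (ZMod p))), (⊤ : Subgroup (S2 (ZMod p)))⁆).Normal := inferInstance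
  refine eq_top_of_U_mem ?_
  have h2 : (2 : ZMod p) ≠ 0 := fun h => by
    have := (ZMod.natCast_eq_zero_iff 2 p).1 (by simpa using h)
    have := Nat.le_of_dvd two_pos this
    omega
  have h3 : (3 : ZMod p) ≠ 0 := fun h => by
    have := (ZMod.natCast_eq_zero_iff 3 p).1 (by simpa using h)
    have := Nat.le_of_dvd (by norm_num) this
    omega
  let d : S2 (ZMod p) := ⟨!![2, 0; 0, 2⁻¹], by simp [Matrix.det_fin_two_of, h2]⟩
  have d00 : d.1 0 0 = 2 := rfl
  have d01 : d.1 0 1 = 0 := rfl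
  have d10 : d.1 1 0 = 0 := rfl
  have d11 : d.1 1 1 = 2⁻¹ := rfl
  have he : (U 1 : S2 (ZMod p)) = ⁅d, U 3⁻¹⁆ := by
    rw [commutatorElement_def, U_inv]
    refine ext2 ?_ ?_ ?_ ?_ <;>
      simp only [m00, m01, m10, m11, i00, i01, i10, i11, d00, d01, d10, d11, U00, U01, U10, U11] <;>
      field_simp <;> ring
  rw [he]
  exact commutator_mem_commutator (mem_top _) (mem_top _)

theorem commutator_qd_top (hp : 3 < p) : ⁅(⊤ : Subgroup ↥(Cfsg.qd p)), (⊤ : Subgroup ↥(Cfsg.qd p))⁆ = ⊤ := by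
  set D := ⁅(⊤ : Subgroup ↥(Cfsg.qd p)), (⊤ : Subgroup ↥(Cfsg.qd p))⁆ with hD
  have h2 : (2 : ZMod p) ≠ 0 := fun h => by
    have := (ZMod.natCast_eq_zero_iff 2 p).1 (by simpa using h)
    have := Nat.le_of_dvd two_pos this
    omega
  have htr : ∀ w, aff (1 : S2 (ZMod p)) w ∈ D := fun w => by
    have h : aff (1 : S2 (ZMod p)) w = ⁅aff (-1 : S2 (ZMod p)) 0, aff 1 ((-2 : ZMod p)⁻¹ • w)⁆ := by
      rw [commutatorElement_def, conj_translation, aff_inv, aff_mul]
      simp only [inv_one, mul_one, Matrix.SpecialLinearGroup.coe_one, Matrix.one_mulVec,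
        Matrix.SpecialLinearGroup.coe_neg, Matrix.neg_mulVec]
      congr 1
      funext i
      simp only [Pi.add_apply, Pi.neg_apply, Pi.smul_apply, smul_eq_mul]
      field_simp
      ring
    rw [h]
    exact commutator_mem_commutator (mem_top _) (mem_top _)
  refine eq_top_iff.2 fun z _ => ?_
  obtain ⟨x, v, rfl⟩ := aff_surjective z
  have hx : x ∈ D.map linHom := by
    rw [hD, map_commutator, map_top_of_surjective linHom (fun s => ⟨aff s 0, linHom_aff s 0⟩),
      commutator_S2_top hp]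
    exact mem_top x
  obtain ⟨d, hd, hdx⟩ := hx
  obtain ⟨y, w, rfl⟩ := aff_surjective d
  rw [linHom_aff] at hdx
  subst hdx
  have : aff y v = aff 1 (v - w) * aff y w := by rw [aff_mul]; simp
  rw [this]
  exact mul_mem (htr _) hd

/-- what is used about a map onto `Qd(p)` -/
structure QdExt {G : Type*} [Group G] (p : ℕ) [Fact p.Prime] (N : Subgroup G)
    (ψ : G →* S2 (ZMod p)) : Prop where
  surj : Function.Surjective ψ
  kerp : IsPGroup p ψ.ker
  le : N ≤ ψ.ker
  pow_mem : ∀ y ∈ ψ.ker, y ^ p ∈ N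
  card : Nat.card ψ.ker = Nat.card N * p ^ 2
  inv : ∀ g, ψ g = -1 → ∀ y ∈ ψ.ker, g * y * g⁻¹ * y ∈ N
  unip : ∀ g, ψ g = U 1 → (∀ y ∈ ψ.ker, ⁅g, ⁅g, y⁆⁆ ∈ N) ∧ (∃ y ∈ ψ.ker, ⁅g, y⁆ ∉ N) ∧
    ∃ y ∈ ψ.ker, y ∉ N ∧ ⁅g, y⁆ ∈ N

theorem qdExt_of_surjective {G : Type*} [Group G] [Finite G] (f : G →* ↥(Cfsg.qd p))
    (hf : Function.Surjective f) (hN : IsPGroup p f.ker) :
    QdExt p f.ker (linHom.comp f) := by
  set ψ := linHom.comp f with hψ
  have hker : ψ.ker = (translations p).comap f := by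
    ext g
    obtain ⟨x, v, hxv⟩ := aff_surjective (f g)
    rw [MonoidHom.mem_ker, mem_comap, hψ, MonoidHom.comp_apply, hxv, linHom_aff]
    constructor
    · rintro rfl; exact ⟨v, rfl⟩
    · rintro ⟨w, hw⟩; exact (aff_injective hw).1.symm
  have hcomm : ∀ g x v y w, f g = aff x v → f y = aff 1 w →
      f ⁅g, y⁆ = aff (1 : S2 (ZMod p)) (Matrix.mulVec x.1 w - w) := by
    intro g x v y w hg hy
    rw [map_commutatorElement, hg, hy, commutatorElement_def, conj_translation, aff_inv, aff_mul]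
    simp [sub_eq_add_neg]
  have hmemQ : ∀ y ∈ ψ.ker, ∃ w, f y = aff 1 w := fun y hy => by
    rw [hker] at hy
    obtain ⟨w, hw⟩ := hy
    exact ⟨w, hw.symm⟩
  have hpre : ∀ w, ∃ y ∈ ψ.ker, f y = aff 1 w := fun w => by
    obtain ⟨y, hy⟩ := hf (aff 1 w)
    exact ⟨y, by rw [hker]; exact ⟨w, hy.symm⟩, hy⟩
  refine ⟨fun s => ?_, ?_, ?_, ?_, ?_, ?_, ?_⟩
  · obtain ⟨g, hg⟩ := hf (aff s 0)
    exact ⟨g, by rw [hψ, MonoidHom.comp_apply, hg, linHom_aff]⟩
  · rw [hker]; exact translations_isPGroup.comap_of_ker_isPGroup f hN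
  · rw [hker]; exact ker_le_comap _ _
  · intro y hy
    rw [hker, mem_comap] at hy
    obtain ⟨k, hk⟩ := hy
    rw [MonoidHom.mem_ker, map_pow, ← hk]
    have key : ∀ n : ℕ, (aff (1 : S2 (ZMod p)) k) ^ n = aff 1 (n • k) := by
      intro n
      induction n with
      | zero => simp [aff_one]
      | succ n ih => rw [pow_succ, ih, aff_mul, succ_nsmul]; simp
    show (aff (1 : S2 (ZMod p)) k) ^ p = 1
    rw [key, show p • k = 0 from funext fun i => by simp, aff_one]
  · have h1 := relIndex_mul_relIndex ⊥ f.ker ψ.ker bot_le (hker ▸ ker_le_comap _ _)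
    rw [relIndex_bot_left, relIndex_bot_left, relIndex_ker] at h1
    rw [← h1]
    congr 1
    rw [← card_translations (p := p)]
    refine Nat.card_congr (Equiv.setCongr ?_)
    rw [hker, map_comap_eq_self_of_surjective hf]
  · intro g hg y hy
    obtain ⟨x, v, hxv⟩ := aff_surjective (f g)
    rw [hψ, MonoidHom.comp_apply, hxv, linHom_aff] at hg
    subst hg
    obtain ⟨w, hw⟩ := hmemQ y hy
    rw [MonoidHom.mem_ker, map_mul, map_mul, map_mul, map_inv, hxv, hw, conj_translation, aff_mul,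
      one_mul, Matrix.SpecialLinearGroup.coe_one, Matrix.SpecialLinearGroup.coe_neg,
      Matrix.SpecialLinearGroup.coe_one, Matrix.neg_mulVec, Matrix.one_mulVec, neg_add_cancel, aff_one]
  · intro g hg
    obtain ⟨x, v, hxv⟩ := aff_surjective (f g)
    rw [hψ, MonoidHom.comp_apply, hxv, linHom_aff] at hg
    subst hg
    have hU : ∀ w : Fin 2 → ZMod p,
        Matrix.mulVec (U 1 : S2 (ZMod p)).1 w - w = ![w 1, 0] := fun w => by
      funext i
      fin_cases i <;> simp [U, Matrix.mulVec, Matrix.vecHead, Matrix.vecTail]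
    have hzero : (![(0 : ZMod p), 0]) = 0 := by funext i; fin_cases i <;> rfl
    refine ⟨fun y hy => ?_, ?_, ?_⟩
    · obtain ⟨w, hw⟩ := hmemQ y hy
      have h1 := hcomm g _ v y w hxv hw
      rw [MonoidHom.mem_ker, hcomm g _ v _ _ hxv h1, hU, hU]
      simp [hzero, aff_one]
    · obtain ⟨y, hy, hw⟩ := hpre ![0, 1]
      refine ⟨y, hy, fun h => ?_⟩
      rw [MonoidHom.mem_ker, hcomm g _ v y _ hxv hw, hU, ← aff_one] at h
      simpa using congrFun (aff_injective h).2 0
    · obtain ⟨y, hy, hw⟩ := hpre ![1, 0]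
      refine ⟨y, hy, fun h => ?_, ?_⟩
      · rw [MonoidHom.mem_ker, hw, ← aff_one] at h
        simpa using congrFun (aff_injective h).2 0
      · rw [MonoidHom.mem_ker, hcomm g _ v y _ hxv hw, hU]
        simp [hzero, aff_one]

variable {G : Type*} [Group G] [Finite G] {N : Subgroup G} {ψ : G →* S2 (ZMod p)}

theorem QdExt.exists_t (h : QdExt p N ψ) (hp : p ≠ 2) :
    ∃ t, ψ t = -1 ∧ t * t = 1 ∧ (orderOf t).Coprime p := by
  obtain ⟨t0, ht0⟩ := h.surj (-1)
  obtain ⟨t, ht, k, hk⟩ := exists_two_part ψ t0 (by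
    rw [ht0, show 4 = 2 * 2 from rfl, pow_mul, neg_one_sq', one_pow])
  rw [ht0] at ht
  have hc : (orderOf t).Coprime p := hk ▸ coprime_two_pow hp k
  refine ⟨t, ht, ?_, hc⟩
  obtain ⟨j, hj⟩ := h.kerp ⟨t * t, by rw [MonoidHom.mem_ker, map_mul, ht]; simp⟩
  refine orderOf_eq_one_iff.1 (Nat.eq_one_of_dvd_coprimes (hc.pow_right j) ?_
    (orderOf_dvd_of_pow_eq_one (congrArg Subtype.val hj : (t * t) ^ p ^ j = 1)))
  rw [← pow_two]; exact orderOf_pow_dvd 2

theorem QdExt.mem_of_sq (h : QdExt p N ψ) (hp : p ≠ 2) {y : G} (hy : y ∈ ψ.ker) (h2 : y ^ 2 ∈ N) :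
    y ∈ N := by
  obtain ⟨r, hr⟩ : Odd p := (Fact.out : p.Prime).odd_of_ne_two hp
  have : y = y ^ p * ((y ^ 2) ^ r)⁻¹ := by rw [hr, pow_succ', pow_mul]; group
  rw [this]
  exact N.mul_mem (h.pow_mem y hy) (N.inv_mem (N.pow_mem h2 r))

theorem QdExt.mem_of_fixed (h : QdExt p N ψ) (hp : p ≠ 2) {g y : G} (hg : ψ g = -1)
    (hy : y ∈ ψ.ker) (hc : g * y * g⁻¹ = y) : y ∈ N := by
  refine h.mem_of_sq hp hy ?_
  have := h.inv g hg y hy
  rwa [hc, ← pow_two] at this

theorem QdExt.exists_not_mem (h : QdExt p N ψ) : ∃ y ∈ ψ.ker, y ∉ N := by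
  obtain ⟨x, hx⟩ := h.surj (U 1)
  obtain ⟨-, -, y, hy, hyN, -⟩ := h.unip x hx
  exact ⟨y, hy, hyN⟩

/-- a normal subgroup of order `p ^ 2` in the kernel rules out a non-trivial `N` -/
theorem false_of_sq (hp : 3 < p) (h : QdExt p N ψ) [N.Normal]
    (hperf : ⁅(⊤ : Subgroup G), (⊤ : Subgroup G)⁆ = ⊤) (hr : Cfsg.PRankLE p 2 G) (hN : N ≠ ⊥)
    {W : Subgroup G} [W.Normal] (hWQ : W ≤ ψ.ker) (hW : Cfsg.IsElementaryAbelian p W)
    (hWc : Nat.card W = p ^ 2) : False := by
  classical
  have hp2 : p ≠ 2 := by omega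
  have hp1 : 1 < p := by omega
  set Q := ψ.ker with hQ
  obtain ⟨t, ht, htt, htc⟩ := h.exists_t hp2
  have hnc : ∀ W1 : Subgroup G, W1.Normal → W1 ≤ W → Nat.card W1 = p → W ≤ center G :=
    fun W1 hn hle hc => by haveI := hn; exact center_of_order_sq hperf hle hc hWc
  have hdiv : ∀ W1 : Subgroup G, W1 ≤ W → Nat.card W1 = 1 ∨ Nat.card W1 = p ∨ W1 = W := by
    intro W1 hle
    obtain ⟨k, hk, hkc⟩ := (Nat.dvd_prime_pow Fact.out).1 (hWc ▸ card_dvd_of_le hle)
    rcases (show k = 0 ∨ k = 1 ∨ k = 2 by omega) with rfl | rfl | rfl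
    · exact Or.inl (by simpa using hkc)
    · exact Or.inr (Or.inl (by simpa using hkc))
    · exact Or.inr (Or.inr (eq_of_le_of_card_ge hle (by rw [hWc, hkc])))
  -- `Q` centralises `W`
  have hQW : Q ≤ centralizer (W : Set G) := by
    set W1 := W ⊓ centralizer (Q : Set G) with hW1
    rcases hdiv W1 inf_le_left with h1 | h1 | h1
    · exfalso
      haveI : (W.subgroupOf Q).Normal := inferInstance
      have hne : W.subgroupOf Q ≠ ⊥ := by
        rw [Ne, subgroupOf_eq_bot, disjoint_iff, inf_of_le_left hWQ]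
        intro hb
        rw [hb, card_bot] at hWc
        have := Nat.one_lt_pow (show 2 ≠ 0 by omega) hp1
        omega
      obtain ⟨⟨z, hz⟩, hz1⟩ := (Subgroup.ne_bot_iff_exists_ne_one).1
        (CfsgLib.PGroups.inf_center_ne_bot h.kerp hne)
      have hm : (z : G) ∈ W1 := ⟨hz.1, mem_centralizer_iff.2 fun q hq =>
        congrArg Subtype.val (mem_center_iff.1 hz.2 ⟨q, hq⟩)⟩
      rw [Subgroup.card_eq_one.1 h1, mem_bot] at hm
      exact hz1 (Subtype.ext (Subtype.ext hm))
    · intro q _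
      exact mem_centralizer_iff.2 fun w hw =>
        (mem_center_iff.1 (hnc W1 inferInstance inf_le_left h1 hw) q).symm
    · rw [le_centralizer_iff]
      exact h1.ge.trans inf_le_right
  have hrk : ∀ E : Subgroup G, Cfsg.IsElementaryAbelian p E → Nat.card E ≤ p ^ 2 :=
    fun E hE => hr E hE.1 hE.2
  have hOmega : ∀ y ∈ Q, y ^ p = 1 → y ∈ W := fun y hy hyp =>
    CfsgLib.Transfer.mem_of_elementary_bound hW.1 hW.2 hrk hWc.ge (hQW hy) hyp
  -- `t` has no fixed points
  have hnot : t ∉ centralizer (W : Set G) := by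
    intro htW
    have htQ : t ∈ centralizer (Q : Set G) := by
      refine CfsgLib.OddLocal.centralizes_of_fixes_order_p hp2 (pow_orderOf_eq_one t) htc h.kerp
        (by rw [normalizer_eq_top]; trivial) fun y hy hyo => ?_
      exact (mem_centralizer_iff.1 htW y (hOmega y hy (hyo ▸ pow_orderOf_eq_one y))).symm
    obtain ⟨y, hy, hyN⟩ := h.exists_not_mem
    exact hyN (h.mem_of_fixed hp2 ht hy (by
      rw [← mem_centralizer_iff.1 htQ y hy, mul_inv_cancel_right]))
  set W1 := W ⊓ centralizer ({t} : Set G) with hW1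
  haveI : W1.Normal := by
    refine ⟨fun w hw g => ⟨‹W.Normal›.conj_mem w hw.1 g, mem_centralizer_singleton_iff.2 ?_⟩⟩
    have hr1 : t⁻¹ * (g⁻¹ * t * g) ∈ Q := by
      rw [hQ, MonoidHom.mem_ker, map_mul, map_mul, map_mul, map_inv, map_inv, ht,
        mul_assoc (ψ g)⁻¹, ← neg_one_central, inv_mul_cancel_left, inv_mul_cancel]
    have h1 : Commute w (t * (t⁻¹ * (g⁻¹ * t * g))) :=
      Commute.mul_right (mem_centralizer_singleton_iff.1 hw.2)
        (mem_centralizer_iff.1 (hQW hr1) w hw.1)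
    rw [mul_inv_cancel_left] at h1
    calc g * w * g⁻¹ * t = g * (w * (g⁻¹ * t * g)) * g⁻¹ := by group
      _ = g * ((g⁻¹ * t * g) * w) * g⁻¹ := by rw [h1.eq]
      _ = t * (g * w * g⁻¹) := by group
  have hW1b : W1 = ⊥ := by
    rcases hdiv W1 inf_le_left with h1 | h1 | h1
    · exact Subgroup.card_eq_one.1 h1
    · exact absurd (mem_centralizer_iff.2 fun w hw =>
        (mem_center_iff.1 (hnc W1 inferInstance inf_le_left h1 hw) t).symm) hnot
    · exact absurd (mem_centralizer_iff.2 fun w hw =>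
        mem_centralizer_singleton_iff.1 (h1.ge hw).2) hnot
  have hfpf : ∀ y ∈ Q, t * y * t⁻¹ = y → y = 1 := by
    intro y hy hfix
    by_contra hne
    obtain ⟨k, hk⟩ := (IsPGroup.iff_orderOf.1 h.kerp) ⟨y, hy⟩
    rw [Subgroup.orderOf_mk] at hk
    have hk0 : k ≠ 0 := fun h0 => hne (orderOf_eq_one_iff.1 (by rw [hk, h0, pow_zero]))
    set z := y ^ p ^ (k - 1) with hz
    have hzp : z ^ p = 1 := by
      rw [hz, ← pow_mul, ← pow_succ, Nat.sub_add_cancel (Nat.one_le_iff_ne_zero.2 hk0), ← hk,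
        pow_orderOf_eq_one]
    have hzW : z ∈ W1 := ⟨hOmega z (pow_mem hy _) hzp, mem_centralizer_singleton_iff.2 (by
      have : Commute t y := mul_inv_eq_iff_eq_mul.1 hfix
      exact (this.pow_right _).symm.eq)⟩
    rw [hW1b, mem_bot, hz, ← orderOf_dvd_iff_pow_eq_one, hk] at hzW
    have := (Nat.pow_dvd_pow_iff_le_right hp1).1 hzW
    omega
  -- `t` inverts `Q`
  have htinv : t⁻¹ = t := inv_eq_of_mul_eq_one_right htt
  have hinv : ∀ y ∈ Q, t * y * t⁻¹ = y⁻¹ := by
    let d : Q → Q := fun y => ⟨(y : G)⁻¹ * (t * y * t⁻¹),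
      mul_mem (inv_mem y.2) ((MonoidHom.normal_ker ψ).conj_mem y y.2 t)⟩
    have hd : Function.Injective d := by
      intro a b hab
      have hab' : (a : G)⁻¹ * (t * a * t⁻¹) = (b : G)⁻¹ * (t * b * t⁻¹) := congrArg Subtype.val hab
      have h1 : (b : G) * (a : G)⁻¹ = 1 := hfpf _ (mul_mem b.2 (inv_mem a.2)) (by
        calc t * ((b : G) * (a : G)⁻¹) * t⁻¹ = (t * b * t⁻¹) * (t * a * t⁻¹)⁻¹ := by group
          _ = (b : G) * ((b : G)⁻¹ * (t * b * t⁻¹)) *
              ((a : G) * ((a : G)⁻¹ * (t * a * t⁻¹)))⁻¹ := by group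
          _ = (b : G) * (a : G)⁻¹ := by rw [hab']; group)
      exact Subtype.ext (mul_inv_eq_one.1 h1).symm
    intro y hy
    obtain ⟨a, ha⟩ := (Finite.injective_iff_surjective.1 hd) ⟨y, hy⟩
    have ha' : (a : G)⁻¹ * (t * a * t⁻¹) = y := congrArg Subtype.val ha
    rw [← ha', htinv]
    calc t * ((a : G)⁻¹ * (t * a * t)) * t = (t * (a : G)⁻¹ * t) * a * (t * t) := by group
      _ = ((a : G)⁻¹ * (t * a * t))⁻¹ := by
        rw [htt, mul_one, mul_inv_rev, mul_inv_rev, mul_inv_rev, htinv]; group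
  have hab : ∀ a ∈ Q, ∀ b ∈ Q, a * b = b * a := by
    intro a ha b hb
    have h1 := hinv (a⁻¹ * b⁻¹) (mul_mem (inv_mem ha) (inv_mem hb))
    rw [show t * (a⁻¹ * b⁻¹) * t⁻¹ = (t * a * t⁻¹)⁻¹ * (t * b * t⁻¹)⁻¹ by group, hinv a ha,
      hinv b hb] at h1
    simpa using h1
  haveI : IsMulCommutative Q := ⟨⟨fun a b => Subtype.ext (hab a a.2 b b.2)⟩⟩
  -- the power map
  let pw : Q →* Q := powMonoidHom p
  have hpw : ∀ y : Q, ((pw y : Q) : G) = (y : G) ^ p := fun y => rfl
  have hkc : Nat.card pw.ker = p ^ 2 := by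
    rw [← hWc, ← Nat.card_congr (subgroupOfEquivOfLe hWQ).toEquiv]
    congr 2
    ext y
    rw [MonoidHom.mem_ker, mem_subgroupOf]
    exact ⟨fun hy => hOmega y y.2 (congrArg Subtype.val hy),
      fun hy => Subtype.ext (hW.2 _ hy)⟩
  have hrange : pw.range = N.subgroupOf Q := by
    refine eq_of_le_of_card_ge ?_ ?_
    · rintro _ ⟨y, rfl⟩
      exact h.pow_mem y y.2
    · have h1 : Nat.card pw.range * Nat.card pw.ker = Nat.card Q := by
        rw [← Nat.card_congr (QuotientGroup.quotientKerEquivRange pw).toEquiv,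
          ← card_eq_card_quotient_mul_card_subgroup]
      rw [hkc, h.card] at h1
      rw [Nat.card_congr (subgroupOfEquivOfLe h.le).toEquiv]
      exact (Nat.eq_of_mul_eq_mul_right (pow_pos (by omega) 2) h1).ge
  set R2 := (pw.comp pw).range with hR2
  let K : Subgroup G :=
    { carrier := {y | ∃ hy : y ∈ Q, pw ⟨y, hy⟩ ∈ R2}
      one_mem' := ⟨one_mem _, by rw [show (⟨1, one_mem _⟩ : Q) = 1 from rfl, map_one]; exact one_mem _⟩
      mul_mem' := by
        rintro a b ⟨ha, ha'⟩ ⟨hb, hb'⟩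
        refine ⟨mul_mem ha hb, ?_⟩
        rw [show (⟨a * b, mul_mem ha hb⟩ : Q) = ⟨a, ha⟩ * ⟨b, hb⟩ from rfl, map_mul]
        exact mul_mem ha' hb'
      inv_mem' := by
        rintro a ⟨ha, ha'⟩
        refine ⟨inv_mem ha, ?_⟩
        rw [show (⟨a⁻¹, inv_mem ha⟩ : Q) = (⟨a, ha⟩ : Q)⁻¹ from rfl, map_inv]
        exact inv_mem ha' }
  haveI hKn : K.Normal := by
    refine ⟨?_⟩
    rintro y ⟨hy, z, hz⟩ g
    refine ⟨(MonoidHom.normal_ker ψ).conj_mem y hy g,
      ⟨g * z * g⁻¹, (MonoidHom.normal_ker ψ).conj_mem z z.2 g⟩, Subtype.ext ?_⟩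
    have hz' : ((z : G) ^ p) ^ p = y ^ p := congrArg Subtype.val hz
    show ((g * (z : G) * g⁻¹) ^ p) ^ p = (g * y * g⁻¹) ^ p
    rw [conj_pow, conj_pow, conj_pow, hz']
  have hNK : N ≤ K := fun y hy => by
    refine ⟨h.le hy, ?_⟩
    obtain ⟨z, hz⟩ : (⟨y, h.le hy⟩ : Q) ∈ pw.range := hrange ▸ (mem_subgroupOf.2 hy)
    exact ⟨z, by rw [MonoidHom.comp_apply, hz]⟩
  have hKN : K = N := by
    have hKQ : K ≤ Q := fun y hy => hy.1
    have h1 := card_map_mk K N hNK
    have h2 : Nat.card K ∣ Nat.card N * p ^ 2 := h.card ▸ card_dvd_of_le hKQ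
    rw [← h1, mul_comm (Nat.card N)] at h2
    obtain ⟨k, hk, hkc'⟩ := (Nat.dvd_prime_pow Fact.out).1
      (Nat.dvd_of_mul_dvd_mul_right Nat.card_pos h2)
    rcases (show k = 0 ∨ k = 1 ∨ k = 2 by omega) with rfl | rfl | rfl
    · exact (eq_of_le_of_card_ge hNK (by rw [← h1, hkc']; simp)).symm
    · exfalso
      rw [pow_one] at hkc'
      haveI : (K.map (QuotientGroup.mk' N)).Normal :=
        Subgroup.Normal.map hKn _ (QuotientGroup.mk'_surjective _)
      haveI : IsCyclic (K.map (QuotientGroup.mk' N)) := isCyclic_of_prime_card hkc'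
      have hperf' : ⁅(⊤ : Subgroup (G ⧸ N)), (⊤ : Subgroup (G ⧸ N))⁆ = ⊤ := by
        rw [← map_top_of_surjective _ (QuotientGroup.mk'_surjective N), ← map_commutator, hperf]
      have hc := center_of_cyclic_normal hperf' (K.map (QuotientGroup.mk' N))
      have hall : K ≤ N := by
        intro y hy
        refine h.mem_of_sq hp2 (hKQ hy) ?_
        have h3 := h.inv t ht y (hKQ hy)
        have h4 : t * y * t⁻¹ * y⁻¹ ∈ N := by
          rw [← QuotientGroup.eq_one_iff]
          show QuotientGroup.mk' N (t * y * t⁻¹ * y⁻¹) = 1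
          rw [map_mul, map_mul, map_mul, map_inv, map_inv,
            mem_center_iff.1 (hc (mem_map_of_mem _ hy)) (QuotientGroup.mk' N t), mul_inv_cancel_right,
            mul_inv_cancel]
        have h5 := mul_mem (inv_mem h4) h3
        rw [show (t * y * t⁻¹ * y⁻¹)⁻¹ * (t * y * t⁻¹ * y) = y ^ 2 by rw [pow_two]; group] at h5
        exact h5
      have hKN' := le_antisymm hall hNK
      rw [hkc'] at h1
      rw [hKN'] at h1
      have hN0 : 0 < Nat.card N := Nat.card_pos
      nlinarith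
    · exfalso
      have hKQ' : K = Q := eq_of_le_of_card_ge hKQ (by rw [h.card, ← h1, hkc', mul_comm])
      have hR : pw.range ≤ R2 := by
        rintro _ ⟨y, rfl⟩
        obtain ⟨_, hy'⟩ : (y : G) ∈ K := hKQ'.ge y.2
        exact hy'
      -- `pw` is injective on `N`
      have hR' : pw.range.map pw = pw.range := by
        rw [← MonoidHom.range_comp]
        exact le_antisymm (by rintro _ ⟨y, rfl⟩; exact ⟨pw y, rfl⟩) hR
      haveI : Nontrivial N := (nontrivial_iff_ne_bot N).2 hN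
      have hd : p ∣ Nat.card N := by
        rcases (h.kerp.to_le h.le).card_eq_or_dvd with h' | h'
        · exact absurd h' (Finite.one_lt_card).ne'
        · exact h'
      obtain ⟨z, hz⟩ := exists_prime_orderOf_dvd_card' p hd
      have hzm : (⟨(z : G), h.le z.2⟩ : Q) ∈ pw.range := hrange ▸ (mem_subgroupOf.2 z.2)
      have hinj : Set.InjOn pw (pw.range : Set Q) := by
        intro a ha b hb hab
        let F : pw.range → pw.range := fun c => ⟨pw c, ⟨c, rfl⟩⟩
        have hF : Function.Surjective F := by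
          rintro ⟨c, hc⟩
          obtain ⟨d, hd1, hd2⟩ := hR'.ge hc
          exact ⟨⟨d, hd1⟩, Subtype.ext hd2⟩
        have := (Finite.injective_iff_surjective.2 hF) (a₁ := ⟨a, ha⟩) (a₂ := ⟨b, hb⟩)
          (Subtype.ext hab)
        exact congrArg Subtype.val this
      have hz1 := hinj hzm (one_mem _) (by
        rw [map_one]
        refine Subtype.ext ?_
        show (z : G) ^ p = 1
        rw [← hz, ← Subgroup.orderOf_coe, pow_orderOf_eq_one])
      have hz1' : (z : G) = 1 := congrArg Subtype.val hz1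
      rw [← Subgroup.orderOf_coe, hz1', orderOf_one] at hz
      omega
  -- the unipotent element
  obtain ⟨x, hx⟩ := h.surj (U 1)
  obtain ⟨hquad, ⟨y0, hy0, hy0N⟩, -⟩ := h.unip x hx
  refine hy0N ?_
  let θ : AddMonoid.End (Additive Q) :=
    MonoidHom.toAdditive ((MulAut.conjNormal (H := Q) x).toMonoidHom)
  have hθ : ∀ n : ℕ, ∀ v : Additive Q,
      (((Additive.toMul ((θ ^ n) v) : Q)) : G) = x ^ n * ((Additive.toMul v : Q) : G) * (x ^ n)⁻¹ := by
    intro n
    induction n with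
    | zero => intro v; simp
    | succ n ih =>
      intro v
      rw [pow_succ', AddMonoid.End.coe_mul, Function.comp_apply]
      show x * ((Additive.toMul ((θ ^ n) v) : Q) : G) * x⁻¹ = _
      rw [ih, pow_succ']
      group
  let M : AddMonoid.End (Additive Q) := θ - 1
  have hMv : ∀ v : Additive Q, ((Additive.toMul (M v) : Q) : G) = ⁅x, ((Additive.toMul v : Q) : G)⁆ := by
    intro v
    show ((Additive.toMul (θ v - v) : Q) : G) = _
    rw [toMul_sub, div_eq_mul_inv, commutatorElement_def]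
    have := hθ 1 v
    rw [pow_one, pow_one] at this
    rw [Subgroup.coe_mul, this]
    rfl
  have hNp : ∀ v : Additive Q, ((Additive.toMul v : Q) : G) ∈ N → ∃ z : Additive Q, v = p • z := by
    intro v hv
    obtain ⟨z, hz⟩ : (Additive.toMul v : Q) ∈ pw.range := hrange ▸ (mem_subgroupOf.2 hv)
    exact ⟨Additive.ofMul z, Additive.toMul.injective (by rw [toMul_nsmul]; exact hz.symm)⟩
  have hM2 : ∀ v : Additive Q, ∃ z : Additive Q, (M ^ 2) v = p • z := fun v => hNp _ (by
    rw [pow_two, AddMonoid.End.coe_mul, Function.comp_apply, hMv, hMv]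
    exact hquad _ (Additive.toMul v).2)
  let P2 : AddSubgroup (Additive Q) := (nsmulAddMonoidHom (α := Additive Q) (p * p)).range
  have hfix : (θ ^ p) = 1 := by
    refine DFunLike.ext _ _ fun v => Additive.toMul.injective (Subtype.ext ?_)
    rw [hθ]
    have hxp : x ^ p ∈ Q := by
      rw [hQ, MonoidHom.mem_ker, map_pow, hx, U_pow]
      simp [U_zero]
    rw [hab _ hxp _ (Additive.toMul v).2, mul_inv_cancel_right]
    rfl
  have hterm : ∀ v : Additive Q, ∀ j, 2 ≤ j → j ≤ p → p.choose j • (M ^ j) v ∈ P2 := by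
    intro v j hj hjp
    rcases hjp.lt_or_eq with hlt | hjeq
    · obtain ⟨c, hc⟩ := (Fact.out : p.Prime).dvd_choose_self (by omega) hlt
      obtain ⟨z, hz⟩ := hM2 ((M ^ (j - 2)) v)
      rw [← Function.comp_apply (f := (M ^ 2 : AddMonoid.End (Additive Q))),
        ← AddMonoid.End.coe_mul, ← pow_add, show 2 + (j - 2) = j by omega] at hz
      refine ⟨c • z, ?_⟩
      rw [nsmulAddMonoidHom_apply, hc, hz, ← mul_nsmul', ← mul_nsmul', mul_right_comm]
    · rw [hjeq]
      obtain ⟨z, hz⟩ := hM2 ((M ^ (p - 4)) v)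
      obtain ⟨z', hz'⟩ := hM2 z
      refine ⟨z', ?_⟩
      rw [nsmulAddMonoidHom_apply, Nat.choose_self, one_smul,
        show M ^ p = M ^ 2 * (M ^ 2 * M ^ (p - 4)) by rw [← pow_add, ← pow_add]; congr 1; omega,
        AddMonoid.End.coe_mul, Function.comp_apply, AddMonoid.End.coe_mul, Function.comp_apply, hz,
        map_nsmul, hz', ← mul_nsmul']
  have hmain : p • M (Additive.ofMul ⟨y0, hy0⟩) ∈ P2 := by
    set v : Additive Q := Additive.ofMul ⟨y0, hy0⟩ with hv
    have hexp := (Commute.one_right M).add_pow p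
    rw [show M + 1 = θ from sub_add_cancel θ 1, hfix] at hexp
    have hexp' := congrArg (fun e : AddMonoid.End (Additive Q) => e v) hexp
    simp only [one_pow, mul_one] at hexp'
    have hsum : ∀ (s : Finset ℕ), (∑ j ∈ s, M ^ j * (p.choose j : AddMonoid.End (Additive Q))) v
        = ∑ j ∈ s, p.choose j • (M ^ j) v := by
      intro s
      induction s using Finset.induction with
      | empty => simp
      | insert a s ha ih =>
        rw [Finset.sum_insert ha, Finset.sum_insert ha]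
        show (M ^ a * (p.choose a : AddMonoid.End (Additive Q))) v +
          (∑ j ∈ s, M ^ j * (p.choose j : AddMonoid.End (Additive Q))) v = _
        rw [ih, AddMonoid.End.coe_mul, Function.comp_apply, AddMonoid.End.natCast_apply, map_nsmul]
    rw [hsum, Finset.range_eq_Ico, Finset.sum_eq_sum_Ico_succ_bot (by omega),
      Finset.sum_eq_sum_Ico_succ_bot (by omega)] at hexp'
    simp only [Nat.choose_zero_right, pow_zero, one_smul, zero_add, Nat.choose_one_right,
      pow_one, AddMonoid.End.coe_one, id_eq, left_eq_add] at hexp'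
    have hrest : ∑ k ∈ Finset.Ico (1 + 1) (p + 1), p.choose k • (M ^ k) v ∈ P2 :=
      sum_mem fun j hj => by
        rw [Finset.mem_Ico] at hj
        exact hterm v j (by omega) (by omega)
    rw [eq_neg_of_add_eq_zero_left hexp']
    exact neg_mem hrest
  obtain ⟨z, hz⟩ := hmain
  have hxy : ⁅x, y0⁆ ∈ Q := by
    rw [commutatorElement_def]
    exact mul_mem ((MonoidHom.normal_ker ψ).conj_mem y0 hy0 x) (inv_mem hy0)
  have hyK : ⁅x, y0⁆ ∈ K := by
    refine ⟨hxy, Additive.toMul z, Subtype.ext ?_⟩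
    rw [nsmulAddMonoidHom_apply] at hz
    have hz' := congrArg (fun v : Additive Q => ((Additive.toMul v : Q) : G)) hz
    simp only [toMul_nsmul, SubgroupClass.coe_pow, hMv] at hz'
    show (((Additive.toMul z : Q) : G) ^ p) ^ p = ⁅x, y0⁆ ^ p
    rw [← pow_mul]
    exact hz'
  exact hKN ▸ hyK

theorem normal_abelian_le_center (hp : 3 < p) (hperf : ⁅(⊤ : Subgroup G), (⊤ : Subgroup G)⁆ = ⊤)
    (hr : Cfsg.PRankLE p 2 G) {Q : Subgroup G} (hQp : IsPGroup p Q)
    (hno : ∀ W : Subgroup G, W.Normal → W ≤ Q → Cfsg.IsElementaryAbelian p W →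
      Nat.card W ≠ p ^ 2)
    (A : Subgroup G) [A.Normal] (hAQ : A ≤ Q) [IsMulCommutative A] : A ≤ center G := by
  classical
  have hp0 : 0 < p := (Fact.out : p.Prime).pos
  set E1 := Cfsg.omegaOne p A with hE1
  have hn : E1.Normal := by
    refine ⟨fun y hy g => ?_⟩
    obtain ⟨hyA, hyp⟩ := CfsgLib.PGroups.mem_omegaOne_iff_of_comm.1 hy
    exact CfsgLib.PGroups.mem_omegaOne (‹A.Normal›.conj_mem y hyA g)
      (by rw [conj_pow, hyp, mul_one, mul_inv_cancel])
  have hel : Cfsg.IsElementaryAbelian p E1 := CfsgLib.PGroups.isElementaryAbelian_omegaOne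
  have hle : E1 ≤ Q := (CfsgLib.PGroups.omegaOne_le A).trans hAQ
  obtain ⟨k, hk⟩ := IsPGroup.iff_card.1 (hQp.to_le hle)
  have hk2 : k ≤ 2 := (Nat.pow_le_pow_iff_right (Fact.out : p.Prime).one_lt).1 (hk ▸ hr E1 hel.1 hel.2)
  have hk1 : k ≠ 2 := fun h2 => hno E1 hn hle hel (h2 ▸ hk)
  have hEp : Nat.card E1 ≤ p :=
    hk.le.trans ((Nat.pow_le_pow_right hp0 (show k ≤ 1 by omega)).trans (pow_one p).le)
  haveI : IsCyclic A := by
    refine CfsgLib.Transfer.isCyclic_of_unique_order_p (by omega) (hQp.to_le hAQ)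
      fun x y hx hx1 hy => ?_
    have hx' : (x : G) ^ p = 1 := congrArg Subtype.val hx
    have hy' : (y : G) ^ p = 1 := congrArg Subtype.val hy
    have hxE : zpowers (x : G) ≤ E1 := zpowers_le.2 (CfsgLib.PGroups.mem_omegaOne x.2 hx')
    have hEq : zpowers (x : G) = E1 := eq_of_le_of_card_ge hxE (by
      rw [Nat.card_zpowers, orderOf_eq_prime hx' (fun e => hx1 (Subtype.ext e))]
      exact hEp)
    obtain ⟨i, hi⟩ := mem_zpowers_iff.1 (hEq.ge (CfsgLib.PGroups.mem_omegaOne y.2 hy'))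
    exact mem_zpowers_iff.2 ⟨i, Subtype.ext (by simpa using hi)⟩
  exact center_of_cyclic_normal hperf A

theorem commutator_le_center_of_abelian_normal {Q : Subgroup G} [Q.Normal] (hQp : IsPGroup p Q)
    (hcyc : ∀ A : Subgroup G, A.Normal → A ≤ Q → IsMulCommutative A → A ≤ center G) :
    ⁅Q, Q⁆ ≤ center G := by
  let L : ℕ → Subgroup G := fun n => Q.lowerCentralSeries n
  have hLn : ∀ n, (L n).Normal := by
    intro n
    induction n with
    | zero => exact ‹Q.Normal›
    | succ n ih =>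
      haveI := ih
      exact Subgroup.commutator_normal (L n) Q
  have hLQ : ∀ n, L n ≤ Q := by
    intro n
    induction n with
    | zero => exact le_refl Q
    | succ n ih => exact Subgroup.commutator_le_right _ _
  have hLs : ∀ n, L (n + 1) ≤ L n := fun n => by
    haveI := hLn n
    exact Subgroup.commutator_le_left (L n) Q
  have hL1 : ∀ n, L (n + 1) ≤ ⁅Q, Q⁆ := fun n => Subgroup.commutator_mono (hLQ n) le_rfl
  obtain ⟨m, hm⟩ := (Subgroup.isNilpotent_iff_lowerCentralSeries Q).1 hQp.isNilpotent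
  have hbot : L (m + 1) ≤ center G := by
    refine (hLs m).trans ?_
    exact hm.le.trans bot_le
  have step : ∀ n, L (n + 2) ≤ center G → L (n + 1) ≤ center G := by
    intro n hn
    haveI := hLn (n + 1)
    refine hcyc _ (hLn _) (hLQ _) ?_
    have h1 : ⁅⁅L (n + 1), Q⁆, Q⁆ = ⊥ := by
      rw [commutator_eq_bot_iff_le_centralizer]
      exact hn.trans fun z hz => mem_centralizer_iff.2 fun g _ => mem_center_iff.1 hz g
    have h2 : ⁅⁅Q, L (n + 1)⁆, Q⁆ = ⊥ := by rwa [commutator_comm Q]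
    have h3 : ⁅⁅Q, Q⁆, L (n + 1)⁆ = ⊥ := commutator_commutator_eq_bot_of_rotate h2 h1
    rw [commutator_eq_bot_iff_le_centralizer] at h3
    exact ⟨⟨fun a b => Subtype.ext
      (mem_centralizer_iff.1 (h3 (hL1 n a.2)) b b.2).symm⟩⟩
  have key : ∀ k n, n + k = m → L (n + 1) ≤ center G := by
    intro k
    induction k with
    | zero => intro n hn; rw [show n = m by omega]; exact hbot
    | succ k ih => exact fun n hn => step n (ih (n + 1) (by omega))
  exact key m 0 (by omega)

/-- without a normal subgroup of order `p ^ 2` in the kernel we get a contradiction as well -/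
theorem false_of_no_sq (hp : 3 < p) (h : QdExt p N ψ) [N.Normal]
    (hperf : ⁅(⊤ : Subgroup G), (⊤ : Subgroup G)⁆ = ⊤) (hr : Cfsg.PRankLE p 2 G)
    (hno : ∀ W : Subgroup G, W.Normal → W ≤ ψ.ker → Cfsg.IsElementaryAbelian p W →
      Nat.card W ≠ p ^ 2) : False := by
  classical
  have hp2 : p ≠ 2 := by omega
  have hodd : Odd p := (Fact.out : p.Prime).odd_of_ne_two hp2
  set Q := ψ.ker with hQ
  haveI hQn : Q.Normal := MonoidHom.normal_ker ψ
  obtain ⟨t, ht, htt, htc⟩ := h.exists_t hp2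
  have htinv : t⁻¹ = t := inv_eq_of_mul_eq_one_right htt
  have hcyc : ∀ A : Subgroup G, A.Normal → A ≤ Q → IsMulCommutative A → A ≤ center G :=
    fun A hA hAQ hAc => by
      haveI := hA; haveI := hAc
      exact normal_abelian_le_center hp hperf hr h.kerp hno A hAQ
  have hQQ := commutator_le_center_of_abelian_normal h.kerp hcyc
  have hcc : ∀ a ∈ Q, ∀ b ∈ Q, ⁅a, b⁆ ∈ center G := fun a ha b hb =>
    hQQ (commutator_mem_commutator ha hb)
  have hcp : ∀ a ∈ Q, ∀ b ∈ Q, a ^ p = 1 → ⁅a, b⁆ ^ p = 1 := fun a ha b hb hap => by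
    rw [← CfsgLib.PGroups.comm_pow_left_of_central (hcc a ha b hb), hap, commutatorElement_one_left]
  let F : Subgroup G :=
    { carrier := {y | y ∈ Q ∧ y ^ p = 1}
      one_mem' := ⟨one_mem _, one_pow p⟩
      mul_mem' := fun {a b} ha hb => ⟨mul_mem ha.1 hb.1, by
        rw [CfsgLib.PGroups.mul_pow_of_central_odd (hcc b hb.1 a ha.1) hodd
          (hcp b hb.1 a ha.1 hb.2), ha.2, hb.2, one_mul]⟩
      inv_mem' := fun {a} ha => ⟨inv_mem ha.1, by rw [inv_pow, ha.2, inv_one]⟩ }
  haveI hFn : F.Normal :=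
    ⟨fun y hy g => ⟨hQn.conj_mem y hy.1 g, by rw [conj_pow, hy.2, mul_one, mul_inv_cancel]⟩⟩
  set E := F ⊓ centralizer (F : Set G) with hE
  have hEF : E ≤ F := inf_le_left
  have hEn : E.Normal := inferInstance
  have hEcomm : IsMulCommutative E :=
    ⟨⟨fun a b => Subtype.ext (mem_centralizer_iff.1 b.2.2 a a.2.1)⟩⟩
  have hEz : E ≤ center G := hcyc E hEn (fun y hy => hy.1.1) hEcomm
  have hEmem : ∀ y ∈ Q, y ∈ center G → y ^ p = 1 → y ∈ E := fun y hy hyc hyp =>
    ⟨⟨hy, hyp⟩, mem_centralizer_iff.2 fun g _ => mem_center_iff.1 hyc g⟩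
  have hEp : Nat.card E = p := by
    obtain ⟨k, hk⟩ := IsPGroup.iff_card.1 (h.kerp.to_le (fun y (hy : y ∈ E) => hy.1.1))
    have hk2 : k ≤ 2 := (Nat.pow_le_pow_iff_right (Fact.out : p.Prime).one_lt).1
      (hk ▸ hr E hEcomm fun y hy => hy.1.2)
    have hk1 : k ≠ 2 := fun h2 =>
      hno E hEn (fun y hy => hy.1.1) ⟨hEcomm, fun y hy => hy.1.2⟩ (h2 ▸ hk)
    rcases (show k = 0 ∨ k = 1 by omega) with rfl | rfl
    · exfalso
      obtain ⟨y, hy, hyN⟩ := h.exists_not_mem
      have hdQ : p ∣ Nat.card Q := by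
        rcases h.kerp.card_eq_or_dvd with h' | h'
        · rw [card_eq_one.1 h', mem_bot] at hy
          exact absurd (hy ▸ one_mem N) hyN
        · exact h'
      obtain ⟨z, hz⟩ := exists_prime_orderOf_dvd_card' p hdQ
      have hFne : F.subgroupOf Q ≠ ⊥ := fun hb => by
        have hzF : z ∈ F.subgroupOf Q :=
          ⟨z.2, by
            show (z : G) ^ p = 1
            rw [← hz, ← Subgroup.orderOf_coe, pow_orderOf_eq_one]⟩
        rw [hb, mem_bot] at hzF
        rw [hzF, orderOf_one] at hz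
        omega
      obtain ⟨⟨w, hw⟩, hw1⟩ := (Subgroup.ne_bot_iff_exists_ne_one).1
        (CfsgLib.PGroups.inf_center_ne_bot h.kerp hFne)
      have hm : (w : G) ∈ E := ⟨hw.1, mem_centralizer_iff.2 fun q hq =>
        congrArg Subtype.val (mem_center_iff.1 hw.2 ⟨q, hq.1⟩)⟩
      rw [card_eq_one.1 (by simpa using hk : Nat.card E = 1), mem_bot] at hm
      exact hw1 (Subtype.ext (Subtype.ext hm))
    · simpa using hk
  haveI : IsCyclic E := isCyclic_of_prime_card hEp
  -- `F` is not abelian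
  obtain ⟨a, ha, b, hb, hab⟩ : ∃ a ∈ F, ∃ b ∈ F, ⁅a, b⁆ ≠ 1 := by
    by_contra hall
    push Not at hall
    have hFE : F ≤ E := fun y hy => ⟨hy, mem_centralizer_iff.2 fun z hz =>
      commutatorElement_eq_one_iff_mul_comm.1 (hall z hz y hy)⟩
    haveI : IsCyclic Q := by
      refine CfsgLib.Transfer.isCyclic_of_unique_order_p hp2 h.kerp fun x y hx hx1 hy => ?_
      have hx' : (x : G) ^ p = 1 := congrArg Subtype.val hx
      have hy' : (y : G) ^ p = 1 := congrArg Subtype.val hy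
      have hEq : zpowers (x : G) = E := eq_of_le_of_card_ge
        (zpowers_le.2 (hFE ⟨x.2, hx'⟩)) (by
          rw [Nat.card_zpowers, orderOf_eq_prime hx' (fun e => hx1 (Subtype.ext e)), hEp])
      obtain ⟨i, hi⟩ := mem_zpowers_iff.1 (hEq.ge (hFE ⟨y.2, hy'⟩))
      exact mem_zpowers_iff.2 ⟨i, Subtype.ext (by simpa using hi)⟩
    obtain ⟨y, hy, hyN⟩ := h.exists_not_mem
    exact hyN (h.mem_of_fixed hp2 ht hy (by
      rw [mem_center_iff.1 (center_of_cyclic_normal hperf Q hy) t, mul_inv_cancel_right]))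
  -- elementary bound
  have hbound : ∀ f ∈ F, f ∉ E → ∀ y, y ^ p = 1 → Commute y f → y ∈ E ⊔ zpowers f := by
    intro f hf hfE y hy hyf
    set B := E ⊔ zpowers f with hB
    have hBF : B ≤ F := sup_le hEF (zpowers_le.2 hf)
    have hBc : B ≤ centralizer (B : Set G) := by
      refine sup_le (fun e he => mem_centralizer_iff.2 fun g _ => mem_center_iff.1 (hEz he) g) ?_
      rw [le_centralizer_iff]
      refine sup_le (fun e he => mem_centralizer_iff.2 fun g _ => mem_center_iff.1 (hEz he) g) ?_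
      exact Subgroup.le_centralizer _
    refine CfsgLib.Transfer.mem_of_elementary_bound
      ⟨⟨fun u v => Subtype.ext (mem_centralizer_iff.1 (hBc v.2) u u.2)⟩⟩ (fun w hw => (hBF hw).2)
      (fun D hD => hr D hD.1 hD.2) ?_ ?_ hy
    · obtain ⟨k, hk⟩ := IsPGroup.iff_card.1 (h.kerp.to_le (fun w (hw : w ∈ B) => (hBF hw).1))
      rw [hk]
      refine Nat.pow_le_pow_right (Fact.out : p.Prime).pos ?_
      by_contra hk1
      have hBE : E = B := eq_of_le_of_card_ge le_sup_left (by
        rw [hk, hEp]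
        exact (Nat.pow_le_pow_right (Fact.out : p.Prime).pos (show k ≤ 1 by omega)).trans
          (pow_one p).le)
      exact hfE (hBE.ge (mem_sup_right (mem_zpowers f)))
    · have hle : B ≤ centralizer ({y} : Set G) := sup_le
        (fun e he => mem_centralizer_singleton_iff.2 (mem_center_iff.1 (hEz he) y).symm)
        (zpowers_le.2 (mem_centralizer_singleton_iff.2 hyf.eq.symm))
      exact mem_centralizer_iff.2 fun w hw => mem_centralizer_singleton_iff.1 (hle hw)
  set C := Q ⊓ centralizer (F : Set G) with hC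
  have hdec : ∀ a ∈ F, ∀ b ∈ F, ⁅a, b⁆ ≠ 1 →
      ∀ y ∈ Q, ∃ i j : ℕ, y * b ^ i * (a ^ j)⁻¹ ∈ C := by
    intro a ha b hb hab
    set c := ⁅a, b⁆ with hc
    have hcz : c ∈ center G := hcc a ha.1 b hb.1
    have hcE : c ∈ E := hEmem c ((Subgroup.commutator_le_left Q Q) (commutator_mem_commutator ha.1 hb.1))
      hcz (hcp a ha.1 b hb.1 ha.2)
    have hEc : zpowers c = E := eq_of_le_of_card_ge (zpowers_le.2 hcE) (by
      rw [Nat.card_zpowers, orderOf_eq_prime (hEF hcE).2 hab, hEp])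
    have hval : ∀ y ∈ Q, ∀ u ∈ F, ∃ i : ℕ, ⁅y, u⁆ = c ^ i := by
      intro y hy u hu
      have hm : ⁅y, u⁆ ∈ E := by
        refine hEmem _ ((Subgroup.commutator_le_left Q Q) (commutator_mem_commutator hy hu.1))
          (hcc y hy u hu.1) ?_
        rw [← CfsgLib.PGroups.comm_pow_right_of_central (hcc y hy u hu.1), hu.2,
          commutatorElement_one_right]
      obtain ⟨i, hi⟩ := mem_powers_iff_mem_zpowers.2 (hEc.ge hm)
      exact ⟨i, hi.symm⟩
    have hsplit : ∀ y ∈ Q, ∃ i j : ℕ,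
        Commute (y * b ^ i * (a ^ j)⁻¹) a ∧ Commute (y * b ^ i * (a ^ j)⁻¹) b := by
      intro y hy
      obtain ⟨i, hi⟩ := hval y hy a ha
      obtain ⟨j, hj⟩ := hval y hy b hb
      refine ⟨i, j, commutatorElement_eq_one_iff_commute.1 ?_,
        commutatorElement_eq_one_iff_commute.1 ?_⟩
      · rw [CfsgLib.PGroups.comm_mul_left_of_central (hcc _ (inv_mem (pow_mem ha.1 j)) a ha.1),
          CfsgLib.PGroups.comm_mul_left_of_central (hcc _ (pow_mem hb.1 i) a ha.1),
          CfsgLib.PGroups.comm_inv_left_of_central (hcc _ (pow_mem ha.1 j) a ha.1),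
          CfsgLib.PGroups.comm_pow_left_of_central (hcc a ha.1 a ha.1),
          CfsgLib.PGroups.comm_pow_left_of_central (hcc b hb.1 a ha.1), hi, commutatorElement_self,
          one_pow, inv_one, mul_one, ← commutatorElement_inv a b, ← hc, inv_pow, mul_inv_cancel]
      · rw [CfsgLib.PGroups.comm_mul_left_of_central (hcc _ (inv_mem (pow_mem ha.1 j)) b hb.1),
          CfsgLib.PGroups.comm_mul_left_of_central (hcc _ (pow_mem hb.1 i) b hb.1),
          CfsgLib.PGroups.comm_inv_left_of_central (hcc _ (pow_mem ha.1 j) b hb.1),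
          CfsgLib.PGroups.comm_pow_left_of_central (hcc a ha.1 b hb.1),
          CfsgLib.PGroups.comm_pow_left_of_central (hcc b hb.1 b hb.1), hj, commutatorElement_self,
          one_pow, mul_one, ← hc, mul_inv_cancel]
    have haE : a ∉ E := fun hh => hab (commutatorElement_eq_one_iff_commute.2
      (mem_center_iff.1 (hEz hh) b).symm)
    intro y hy
    obtain ⟨i, j, hza, hzb⟩ := hsplit y hy
    refine ⟨i, j, Q.mul_mem (Q.mul_mem hy (Q.pow_mem hb.1 i)) (Q.inv_mem (Q.pow_mem ha.1 j)),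
      mem_centralizer_iff.2 fun w hw => ?_⟩
    obtain ⟨i', j', hwa, -⟩ := hsplit w hw.1
    set z := y * b ^ i * (a ^ j)⁻¹ with hz
    have hw' : w * b ^ i' * (a ^ j')⁻¹ ∈ F :=
      mul_mem (mul_mem hw (pow_mem hb i')) (inv_mem (pow_mem ha j'))
    have hz' : E ⊔ zpowers a ≤ centralizer ({z} : Set G) := sup_le
      (fun e he => mem_centralizer_singleton_iff.2 (mem_center_iff.1 (hEz he) z).symm)
      (zpowers_le.2 (mem_centralizer_singleton_iff.2 hza.eq.symm))
    have h1 : Commute z (w * b ^ i' * (a ^ j')⁻¹) :=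
      (mem_centralizer_singleton_iff.1 (hz' (hbound a ha haE _ hw'.2 hwa))).symm
    have h2 := (h1.mul_right (hza.pow_right j')).mul_right (hzb.pow_right i').inv_right
    rw [inv_mul_cancel_right, mul_inv_cancel_right] at h2
    exact h2.eq.symm
  have hCn : C.Normal := inferInstance
  have hCz : C ≤ center G := by
    haveI : IsCyclic C := by
      refine CfsgLib.Transfer.isCyclic_of_unique_order_p hp2 (h.kerp.to_le inf_le_left)
        fun x y hx hx1 hy => ?_
      have hx' : (x : G) ^ p = 1 := congrArg Subtype.val hx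
      have hy' : (y : G) ^ p = 1 := congrArg Subtype.val hy
      have hEq : zpowers (x : G) = E := eq_of_le_of_card_ge
        (zpowers_le.2 ⟨⟨x.2.1, hx'⟩, x.2.2⟩) (by
          rw [Nat.card_zpowers, orderOf_eq_prime hx' (fun e => hx1 (Subtype.ext e)), hEp])
      obtain ⟨i, hi⟩ := mem_zpowers_iff.1 (hEq.ge (⟨⟨y.2.1, hy'⟩, y.2.2⟩ : (y : G) ∈ E))
      exact mem_zpowers_iff.2 ⟨i, Subtype.ext (by simpa using hi)⟩
    exact center_of_cyclic_normal hperf C
  have hCN : C ≤ N := fun y hy => h.mem_of_fixed hp2 ht hy.1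
    (by rw [mem_center_iff.1 (hCz hy) t, mul_inv_cancel_right])
  have hQCF : ∀ y ∈ Q, ∃ z ∈ C, ∃ f ∈ F, y = z * f := by
    intro y hy
    obtain ⟨i, j, hz⟩ := hdec a ha b hb hab y hy
    exact ⟨_, hz, a ^ j * (b ^ i)⁻¹, mul_mem (pow_mem ha j) (inv_mem (pow_mem hb i)), by group⟩
  have hFN : ∀ f ∈ F, f ∈ N → f ∈ E := by
    intro f hf hfN
    set M := F ⊓ N with hM
    have hMc : IsMulCommutative M := by
      refine ⟨⟨fun u v => Subtype.ext ?_⟩⟩
      by_contra hne
      obtain ⟨y, hy, hyN⟩ := h.exists_not_mem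
      obtain ⟨i, j, hz⟩ := hdec u u.2.1 v v.2.1
        (fun e => hne (commutatorElement_eq_one_iff_mul_comm.1 e)) y hy
      refine hyN ?_
      have := mul_mem (mul_mem (hCN hz) (pow_mem u.2.2 j)) (inv_mem (pow_mem v.2.2 i))
      rwa [inv_mul_cancel_right, mul_inv_cancel_right] at this
    have hMz : M ≤ center G := hcyc M inferInstance (fun y hy => hy.1.1) hMc
    exact hEmem f hf.1 (hMz ⟨hf, hfN⟩) hf.2
  -- the centraliser of `t`
  set L := centralizer ({t} : Set G) with hL
  have hkerL : ∀ l ∈ L, l ∈ Q → l ∈ C := by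
    intro l hl hlQ
    obtain ⟨z, hz, f, hf, rfl⟩ := hQCF l hlQ
    have hfix : Commute t f := by
      have h1 : Commute t (z * f) := (mem_centralizer_singleton_iff.1 hl).symm
      have h2 := (Commute.inv_right (mem_center_iff.1 (hCz hz) t)).mul_right h1
      rwa [inv_mul_cancel_left] at h2
    have hfE := hFN f hf (h.mem_of_fixed hp2 ht hf.1 (by rw [hfix.eq, mul_inv_cancel_right]))
    exact mul_mem hz ⟨hf.1, hfE.2⟩
  let φ := ψ.comp L.subtype
  have hφ : Function.Surjective φ := by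
    intro s
    obtain ⟨g, rfl⟩ := h.surj s
    set r := g * t * g⁻¹ * t with hr'
    have hrQ : r ∈ Q := by
      rw [hQ, MonoidHom.mem_ker, map_mul, map_mul, map_mul, map_inv, ht,
        neg_one_central (ψ g), mul_inv_cancel_right]
      simp
    obtain ⟨k, hk⟩ := h.kerp ⟨r, hrQ⟩
    have hk' : r ^ p ^ k = 1 := congrArg Subtype.val hk
    obtain ⟨d, hd⟩ : ∃ d, p ^ k = 2 * d + 1 := hodd.pow
    set u := r ^ (d + 1) with hu
    have hur : u * u = r := by
      rw [hu, ← pow_add, show d + 1 + (d + 1) = p ^ k + 1 by omega, pow_succ, hk', one_mul]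
    have htr : t * r * t⁻¹ = r⁻¹ := by
      rw [htinv, hr', mul_inv_rev, mul_inv_rev, mul_inv_rev, inv_inv, htinv]
      calc t * (g * t * g⁻¹ * t) * t = t * g * t * g⁻¹ * (t * t) := by group
        _ = t * (g * (t * g⁻¹)) := by rw [htt]; group
    have htu : t * u * t⁻¹ = u⁻¹ := by rw [hu, ← conj_pow, htr, inv_pow]
    have hl : u⁻¹ * g ∈ L := by
      have htg : t * g * t = r⁻¹ * g := by
        rw [← htr, htinv, hr']
        calc t * g * t = t * g * t * g⁻¹ * g := by group
          _ = t * g * t * g⁻¹ * (t * t) * g := by rw [htt, mul_one]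
          _ = _ := by group
      have h1 : t * (u⁻¹ * g) * t⁻¹ = u⁻¹ * g := by
        calc t * (u⁻¹ * g) * t⁻¹ = (t * u * t⁻¹)⁻¹ * (t * g * t⁻¹) := by group
          _ = u * ((u * u)⁻¹ * g) := by rw [htu, inv_inv, htinv, htg, hur]
          _ = u⁻¹ * g := by group
      exact mem_centralizer_singleton_iff.2 (mul_inv_eq_iff_eq_mul.1 h1).symm
    refine ⟨⟨_, hl⟩, ?_⟩
    show ψ (u⁻¹ * g) = ψ g
    rw [map_mul, map_inv, (MonoidHom.mem_ker.1 (pow_mem hrQ (d + 1) : u ∈ Q)), inv_one, one_mul]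
  have hkerφ : φ.ker ≤ center L := fun l hl => mem_center_iff.2 fun m => Subtype.ext
    (mem_center_iff.1 (hCz (hkerL l l.2 hl)) m)
  obtain ⟨x, hxc, hx⟩ : ∃ x ∈ commutator L, φ x = U 1 := by
    have : (U 1 : S2 (ZMod p)) ∈ (commutator L).map φ := by
      rw [_root_.commutator_def, map_commutator, map_top_of_surjective φ hφ, commutator_S2_top hp]
      exact mem_top _
    exact this
  have hxp : (x : G) ^ p = 1 := by
    have hxk : x ^ p ∈ φ.ker := by
      rw [MonoidHom.mem_ker, map_pow, hx, U_pow]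
      simp [U_zero]
    obtain ⟨k, hk⟩ := h.kerp ⟨((x ^ p : L) : G), hxk⟩
    have hpg : IsPGroup p (zpowers (x ^ p)) := by
      rw [IsPGroup.iff_card, Nat.card_zpowers]
      obtain ⟨e, -, he⟩ := (Nat.dvd_prime_pow Fact.out).1
        (orderOf_dvd_of_pow_eq_one (x := x ^ p) (n := p ^ k) (Subtype.ext (congrArg Subtype.val hk :)))
      exact ⟨e, he⟩
    obtain ⟨P, hP⟩ := hpg.exists_le_sylow
    let χ := φ.comp (P : Subgroup L).subtype
    haveI : IsCyclic χ.range := by
      obtain ⟨e, he⟩ := IsPGroup.iff_card.1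
        (P.2.map φ : IsPGroup p ((P : Subgroup L).map φ))
      have hle : χ.range = (P : Subgroup L).map φ := by
        rw [MonoidHom.range_comp, range_subtype]
      rw [hle]
      have hdvd : p ^ e ∣ p * (p ^ 2 - 1) := by
        rw [← he]
        refine (card_subgroup_dvd_card _).trans ?_
        rw [CfsgLib.Classical.Two.card_SL_two, ZMod.card]
      have hnd : ¬ p ∣ p ^ 2 - 1 := by
        have := CfsgLib.Classical.Two.not_dvd_card_sq_sub_one (F := ZMod p) p
        rwa [ZMod.card] at this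
      have he1 : e ≤ 1 := by
        by_contra hc
        obtain ⟨c, hc'⟩ := ((pow_dvd_pow p (show 2 ≤ e by omega)).trans hdvd)
        exact hnd ⟨c, Nat.eq_of_mul_eq_mul_left (Fact.out : p.Prime).pos (by rw [hc']; ring)⟩
      rcases (show e = 0 ∨ e = 1 by omega) with rfl | rfl
      · haveI : Subsingleton ((P : Subgroup L).map φ) :=
          (Nat.card_eq_one_iff_unique.1 (by simpa using he)).1
        exact isCyclic_of_subsingleton
      · exact isCyclic_of_prime_card (by simpa using he)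
    have hPc : ∀ u ∈ (P : Subgroup L), ∀ v ∈ (P : Subgroup L), u * v = v * u := fun u hu v hv =>
      congrArg Subtype.val (commutative_of_cyclic_center_quotient χ.rangeRestrict (by
        rw [MonoidHom.ker_rangeRestrict]
        intro w hw
        exact mem_center_iff.2 fun m => Subtype.ext (mem_center_iff.1 (hkerφ hw) m))
        (⟨u, hu⟩ : (P : Subgroup L)) ⟨v, hv⟩)
    exact congrArg Subtype.val (eq_one_of_center_of_commutator P hPc (hkerφ hxk) (pow_mem hxc p)
      (hP (mem_zpowers _)))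
  obtain ⟨-, -, v, hv, hvN, hxv⟩ := h.unip x hx
  obtain ⟨z, hz, f, hf, rfl⟩ := hQCF v hv
  have hfN : f ∉ N := fun hh => hvN (mul_mem (hCN hz) hh)
  rw [CfsgLib.PGroups.comm_mul_right_of_central_left (hCz hz)] at hxv
  have hxfF : ⁅(x : G), f⁆ ∈ F := by
    rw [commutatorElement_def]
    exact mul_mem (hFn.conj_mem f hf x) (inv_mem hf)
  have hxfE := hFN _ hxfF hxv
  set c0 := ⁅(x : G), f⁆ with hc0
  have hc0z : c0 ∈ center G := hEz hxfE
  have htx : t * x * t⁻¹ = x := by
    rw [← mem_centralizer_singleton_iff.1 x.2, mul_inv_cancel_right]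
  have he : t * f * t⁻¹ * f ∈ E :=
    hFN _ (mul_mem (hFn.conj_mem f hf t) hf) (h.inv t ht f hf.1)
  have hc1 : c0 = c0⁻¹ := by
    calc c0 = t * c0 * t⁻¹ := by rw [mem_center_iff.1 hc0z t, mul_inv_cancel_right]
      _ = ⁅t * x * t⁻¹, t * f * t⁻¹⁆ := conjugate_commutatorElement ..
      _ = ⁅(x : G), (t * f * t⁻¹ * f) * f⁻¹⁆ := by rw [htx, mul_inv_cancel_right]
      _ = ⁅(x : G), f⁻¹⁆ := CfsgLib.PGroups.comm_mul_right_of_central_left (hEz he)
      _ = c0⁻¹ := CfsgLib.PGroups.comm_inv_right_of_central hc0z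
  have hc01 : c0 = 1 := by
    obtain ⟨d, hd⟩ := hodd
    have h2 : c0 ^ 2 = 1 := by rw [pow_two]; exact (congrArg (c0 * ·) hc1).trans (mul_inv_cancel c0)
    have := (hEF hxfE).2
    rwa [hd, pow_succ, pow_mul, h2, one_pow, one_mul] at this
  have hfE : f ∉ E := fun hh => hfN (hCN ⟨hf.1, hh.2⟩)
  have hxQ : (x : G) ∈ Q := (sup_le hEF (zpowers_le.2 hf) (hbound f hf hfE x hxp
    (commutatorElement_eq_one_iff_commute.1 hc01))).1
  have h01 := congrArg (fun A : S2 (ZMod p) => A.1 0 1) (hx.symm.trans (MonoidHom.mem_ker.1 hxQ))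
  simp [U01] at h01

theorem qd_ker_eq_bot_aux.{u} (hp : 3 < p) (n : ℕ) : ∀ (G : Type u) [Group G] [Finite G],
    Nat.card G ≤ n → ∀ f : G →* ↥(Cfsg.qd p), Function.Surjective f → IsPGroup p f.ker →
      Cfsg.PRankLE p 2 G → f.ker = ⊥ := by
  classical
  induction n with
  | zero => exact fun G _ _ hn => absurd hn (Nat.card_pos (α := G)).not_ge
  | succ n ih =>
    intro G _ _ hn f hf hN hr
    by_contra hne
    have hX := qdExt_of_surjective f hf hN
    by_cases hperf : ⁅(⊤ : Subgroup G), (⊤ : Subgroup G)⁆ = ⊤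
    · by_cases hW : ∃ W : Subgroup G, W.Normal ∧ W ≤ (linHom.comp f).ker ∧
          Cfsg.IsElementaryAbelian p W ∧ Nat.card W = p ^ 2
      · obtain ⟨W, hWn, hWQ, hWe, hWc⟩ := hW
        haveI := hWn
        exact false_of_sq hp hX hperf hr hne hWQ hWe hWc
      · push Not at hW
        exact false_of_no_sq hp hX hperf hr hW
    · set D := ⁅(⊤ : Subgroup G), (⊤ : Subgroup G)⁆ with hD
      have hDs : D.map f = ⊤ := by
        rw [hD, map_commutator, map_top_of_surjective f hf, commutator_qd_top hp]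
      have hf' : Function.Surjective (f.comp D.subtype) := fun q => by
        obtain ⟨d, hd, hdq⟩ := hDs.ge (mem_top q)
        exact ⟨⟨d, hd⟩, hdq⟩
      have hlt : Nat.card D < Nat.card G := by
        refine lt_of_le_of_ne (card_le_card_group D) fun he => hperf (card_eq_iff_eq_top D |>.1 he)
      have hb := ih D (by omega) (f.comp D.subtype) hf'
        (fun z => by
          obtain ⟨k, hk⟩ := hN ⟨((z : D) : G), z.2⟩
          exact ⟨k, Subtype.ext (Subtype.ext (congrArg Subtype.val hk :))⟩)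
        (CfsgLib.PGroups.prankLE_of_injective hr D.subtype_injective)
      have hinj : Set.InjOn f (D : Set G) := fun u hu v hv huv => congrArg Subtype.val
        ((MonoidHom.ker_eq_bot_iff _).1 hb (a₁ := (⟨u, hu⟩ : D)) (a₂ := ⟨v, hv⟩) huv)
      haveI hDn : D.Normal := Subgroup.commutator_normal ⊤ ⊤
      set W := (translations p).comap f ⊓ D with hW
      have hWc : Nat.card W = p ^ 2 := by
        rw [← card_translations (p := p)]
        refine Nat.card_eq_of_bijective
          (fun w : W => (⟨f w, w.2.1⟩ : translations p)) ⟨?_, ?_⟩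
        · exact fun u v huv => Subtype.ext (hinj u.2.2 v.2.2 (congrArg Subtype.val huv))
        · rintro ⟨q, hq⟩
          obtain ⟨d, hd, hdq⟩ := hDs.ge (mem_top q)
          exact ⟨⟨d, show f d ∈ translations p from hdq ▸ hq, hd⟩, Subtype.ext hdq⟩
      have hWcomm : IsMulCommutative W := ⟨⟨fun u v => Subtype.ext (hinj (mul_mem u.2.2 v.2.2)
        (mul_mem v.2.2 u.2.2) (by
          obtain ⟨w, hw⟩ := u.2.1
          obtain ⟨w', hw'⟩ := v.2.1
          show f ((u : G) * v) = f ((v : G) * u)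
          rw [map_mul, map_mul, ← hw, ← hw', aff_mul, aff_mul]
          simp [add_comm]))⟩⟩
      have hWe : ∀ w ∈ W, w ^ p = 1 := fun w hw => hinj (pow_mem hw.2 p) (one_mem _) (by
        obtain ⟨v, hv⟩ := hw.1
        have key : ∀ m : ℕ, (aff (1 : S2 (ZMod p)) v) ^ m = aff 1 (m • v) := by
          intro m
          induction m with
          | zero => simp [aff_one]
          | succ m ihm => rw [pow_succ, ihm, aff_mul, succ_nsmul]; simp
        rw [map_pow, map_one, ← hv]
        show (aff (1 : S2 (ZMod p)) v) ^ p = 1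
        rw [key, show p • v = 0 from funext fun i => by simp, aff_one])
      obtain ⟨z0, hz0⟩ : ∃ z : f.ker, orderOf z = p := by
        rcases hN.card_eq_or_dvd with h' | h'
        · exact absurd (card_eq_one.1 h') hne
        · exact exists_prime_orderOf_dvd_card' p h'
      have hz1 : (z0 : G) ≠ 1 := fun he => by
        rw [← Subgroup.orderOf_coe, he, orderOf_one] at hz0
        omega
      have hzW : (z0 : G) ∈ centralizer (W : Set G) := mem_centralizer_iff.2 fun w hw => by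
        refine commutatorElement_eq_one_iff_mul_comm.1 (hinj ?_ (one_mem _) ?_)
        · exact commutator_mem_commutator (mem_top _) (mem_top _)
        · rw [map_commutatorElement, MonoidHom.mem_ker.1 z0.2, commutatorElement_one_right, map_one]
      have hmem := CfsgLib.Transfer.mem_of_elementary_bound hWcomm hWe
        (fun E hE => hr E hE.1 hE.2) hWc.ge hzW
        (orderOf_dvd_iff_pow_eq_one.1 (by rw [Subgroup.orderOf_coe, hz0]))
      exact hz1 (hinj hmem.2 (one_mem _) (by rw [MonoidHom.mem_ker.1 z0.2, map_one]))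

/-- **Extensions of `p`-groups by `Qd(p)` of `p`-rank two are trivial** -/
theorem qd_ker_eq_bot {G : Type*} [Group G] [Finite G] (hp : 3 < p) (f : G →* ↥(Cfsg.qd p))
    (hf : Function.Surjective f) (hN : IsPGroup p f.ker) (hr : Cfsg.PRankLE p 2 G) : f.ker = ⊥ :=
  qd_ker_eq_bot_aux hp _ G le_rfl f hf hN hr

/-- in rank two `Qd(p)` is involved only `p'`-ly -/
theorem involves_qd_coprime {G : Type*} [Group G] [Finite G] (hp : 3 < p)
    (hr : Cfsg.PRankLE p 2 G) (h : Cfsg.Involves ↥(Cfsg.qd p) G) :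
    ∃ (H K : Subgroup G) (_ : (K.subgroupOf H).Normal), K ≤ H ∧ (Nat.card K).Coprime p ∧
      Nonempty (H ⧸ K.subgroupOf H ≃* ↥(Cfsg.qd p)) := by
  classical
  obtain ⟨H0, R, hn, ⟨e⟩⟩ := h
  let f0 : H0 →* ↥(Cfsg.qd p) := e.toMonoidHom.comp (QuotientGroup.mk' (R.subgroupOf H0))
  have hf0 : Function.Surjective f0 := e.surjective.comp (QuotientGroup.mk'_surjective _)
  obtain ⟨H, hH, hmin⟩ := Set.exists_min_image {H : Subgroup H0 | H.map f0 = ⊤}
    (fun H => Nat.card H) (Set.toFinite _) ⟨⊤, map_top_of_surjective f0 hf0⟩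
  let f : H →* ↥(Cfsg.qd p) := f0.comp H.subtype
  have hf : Function.Surjective f := fun q => by
    obtain ⟨d, hd, hdq⟩ := (show H.map f0 = ⊤ from hH).ge (mem_top q)
    exact ⟨⟨d, hd⟩, hdq⟩
  have hfr : f.ker ≤ frattini H := by
    have hcoatom : ∀ M : Subgroup H, IsCoatom M → f.ker ≤ M := fun M hM => by
      by_contra hnle
      have hsup : M ⊔ f.ker = ⊤ := hM.2 _ (lt_of_le_of_ne le_sup_left
        fun he => hnle (le_of_le_of_eq le_sup_right he.symm))
      have hMs : (M.map H.subtype).map f0 = ⊤ := by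
        rw [Subgroup.map_map]
        show M.map f = ⊤
        rw [← map_top_of_surjective f hf, map_eq_map_iff, top_sup_eq]
        exact hsup
      have h1 := hmin _ hMs
      rw [Subgroup.card_map_of_injective H.subtype_injective] at h1
      exact hM.1 (eq_top_of_le_card M h1)
    exact le_iInf₂ fun M hM => hcoatom M hM
  haveI hnil : Group.IsNilpotent (frattini H) := frattini_nilpotent
  haveI : Group.IsNilpotent f.ker := CfsgLib.Core.isNilpotent_of_le hfr
  set O := (Cfsg.pPrimeCore p f.ker).map f.ker.subtype with hO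
  haveI : O.Normal := inferInstance
  have hOc : (Nat.card O).Coprime p := by
    rw [hO, Subgroup.card_map_of_injective f.ker.subtype_injective]
    exact CfsgLib.Core.coprime_card_pPrimeCore p _
  have hOle : O ≤ f.ker := map_subtype_le _
  let g : H ⧸ O →* ↥(Cfsg.qd p) := QuotientGroup.lift O f hOle
  have hg : Function.Surjective g := fun q => by
    obtain ⟨d, rfl⟩ := hf q
    exact ⟨d, rfl⟩
  have hgk : IsPGroup p g.ker := by
    rintro ⟨x, hx⟩
    obtain ⟨d, rfl⟩ := QuotientGroup.mk_surjective x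
    have hd : d ∈ f.ker := hx
    have hd' : (⟨d, hd⟩ : f.ker) ∈ Cfsg.pPrimeCore p f.ker ⊔ Cfsg.pCore p f.ker := by
      rw [sup_comm, CfsgLib.Core.Carter.pCore_sup_pPrimeCore p Fact.out]
      exact mem_top _
    obtain ⟨a, ha, b, hb, hab⟩ := mem_sup_of_normal_left.1 hd'
    obtain ⟨k, hk⟩ := CfsgLib.Core.isPGroup_pCore p f.ker ⟨b, hb⟩
    refine ⟨k, Subtype.ext ?_⟩
    have hdd : d = (a : H) * (b : H) := (congrArg Subtype.val hab).symm
    show ((d : H ⧸ O)) ^ p ^ k = 1
    have haO : ((a : H) : H ⧸ O) = 1 :=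
      (QuotientGroup.eq_one_iff _).2 (mem_map_of_mem f.ker.subtype ha)
    rw [hdd, QuotientGroup.mk_mul, haO, one_mul, ← QuotientGroup.mk_pow,
      show (b : H) ^ p ^ k = 1 from congrArg (fun z => ((z : f.ker) : H))
        (congrArg Subtype.val hk : b ^ p ^ k = 1), QuotientGroup.mk_one]
  have hrH : Cfsg.PRankLE p 2 H := CfsgLib.PGroups.prankLE_of_injective
    (CfsgLib.PGroups.prankLE_of_injective hr H0.subtype_injective) H.subtype_injective
  have hgb := qd_ker_eq_bot hp g hg hgk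
    (CfsgLib.OddLocal.RankTwoAut.prankLE_quotient hrH O hOc)
  have hker : f.ker = O := le_antisymm (fun d hd => (QuotientGroup.eq_one_iff d).1
    (by rw [← mem_bot, ← hgb]; exact hd)) hOle
  refine ⟨H.map H0.subtype, (O.map H.subtype).map H0.subtype, ?_, map_mono (map_subtype_le O), ?_, ?_⟩
  · refine ⟨?_⟩
    rintro ⟨_, y, hy, rfl⟩ hmem ⟨_, a, ha, rfl⟩
    obtain ⟨_, ⟨o, ho, rfl⟩, ho'⟩ := hmem
    have hoy : H.subtype o = y := H0.subtype_injective ho'
    exact ⟨_, ⟨⟨a, ha⟩ * o * ⟨a, ha⟩⁻¹, ‹O.Normal›.conj_mem o ho _, rfl⟩, by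
      simp only [map_mul, map_inv, hoy]; rfl⟩
  · rwa [Subgroup.card_map_of_injective H0.subtype_injective, Subgroup.card_map_of_injective H.subtype_injective]
  · let ι : H ≃* H.map H0.subtype := H.equivMapOfInjective H0.subtype H0.subtype_injective
    let π : H.map H0.subtype →* ↥(Cfsg.qd p) := f.comp ι.symm.toMonoidHom
    have hπ : Function.Surjective π := hf.comp ι.symm.surjective
    haveI hn' : (((O.map H.subtype).map H0.subtype).subgroupOf (H.map H0.subtype)) = π.ker := by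
      ext z
      obtain ⟨y, rfl⟩ := ι.surjective z
      rw [MonoidHom.mem_ker, mem_subgroupOf]
      show _ ↔ f (ι.symm (ι y)) = 1
      rw [MulEquiv.symm_apply_apply, ← MonoidHom.mem_ker, hker]
      constructor
      · rintro ⟨_, ⟨o, ho, rfl⟩, ho'⟩
        have : o = y := H.subtype_injective (H0.subtype_injective ho')
        exact this ▸ ho
      · exact fun hy => ⟨_, ⟨y, hy, rfl⟩, rfl⟩
    haveI : (((O.map H.subtype).map H0.subtype).subgroupOf (H.map H0.subtype)).Normal :=
      hn' ▸ π.normal_ker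
    exact ⟨(QuotientGroup.quotientMulEquivOfEq hn').trans
      (QuotientGroup.quotientKerEquivOfSurjective π hπ)⟩

end CfsgLib.PLocal.SLTwo
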