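import Cfsg.Agent.Lib.PLocal.SLTwo.QdSection
import Mathlib.Algebra.MonoidAlgebra.Basic

/-!
# A natural isotypic invariant subspace under a quadratic pair
-/

set_option autoImplicit false

namespace CfsgLib.PLocal.SLTwo

open Subgroup
open scoped Pointwise

variable {H : Type*} [Group H] {p : ℕ} [Fact p.Prime]

/-- in the algebra of two square-zero elements, `x + x⁻¹` is central -/
theorem sum_inv_central [Finite H] {A : Type*} [Ring A] (R : H →* A) {a b : H}
    (hgen : closure ({a, b} : Set H) = ⊤) (ha : (R a - 1) * (R a - 1) = 0)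
    (hb : (R b - 1) * (R b - 1) = 0) (x y : H) :
    R y * (R x + R x⁻¹) = (R x + R x⁻¹) * R y := by
  set N := R a - 1 with hN
  set M := R b - 1 with hM
  set T := N * M + M * N with hT
  have hTN : T * N = N * T := by
    rw [hT, add_mul, mul_add, mul_assoc M N N, ha, mul_zero, add_zero, ← mul_assoc N N M, ha,
      zero_mul, zero_add, mul_assoc]
  have hTM : T * M = M * T := by
    rw [hT, add_mul, mul_add, mul_assoc N M M, hb, mul_zero, zero_add, ← mul_assoc M M N, hb,
      zero_mul, add_zero, mul_assoc]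
  have hRa : R a = 1 + N := by rw [hN]; abel
  have hRb : R b = 1 + M := by rw [hM]; abel
  have hRai : R a⁻¹ = 1 - N := by
    refine left_inv_eq_right_inv (a := R a) (by rw [← map_mul, inv_mul_cancel, map_one]) ?_
    rw [hRa, mul_sub, mul_one, add_mul, one_mul, ha, add_zero]; abel
  have hRbi : R b⁻¹ = 1 - M := by
    refine left_inv_eq_right_inv (a := R b) (by rw [← map_mul, inv_mul_cancel, map_one]) ?_
    rw [hRb, mul_sub, mul_one, add_mul, one_mul, hb, add_zero]; abel
  let Z : Subring A := Subring.centralizer {N, M}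
  have hTZ : T ∈ Z := by
    refine Subring.mem_centralizer_iff.2 ?_
    rintro _ (rfl | rfl)
    exacts [hTN.symm, hTM.symm]
  let P : H → Prop := fun x => ∃ α β γ δ : A, α ∈ Z ∧ β ∈ Z ∧ γ ∈ Z ∧ δ ∈ Z ∧
    R x = α + β * N + γ * M + δ * (N * M) ∧ R x⁻¹ = α - β * N - γ * M + δ * (M * N)
  have hcomm : ∀ {α : A}, α ∈ Z → N * α = α * N ∧ M * α = α * M := fun hα =>
    ⟨Subring.mem_centralizer_iff.1 hα _ (Or.inl rfl),
      Subring.mem_centralizer_iff.1 hα _ (Or.inr rfl)⟩
  have hPa : ∀ x, P x → P (x * a) := by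
    rintro x ⟨α, β, γ, δ, hα, hβ, hγ, hδ, e, e'⟩
    refine ⟨α + γ * T, α + β + δ * T, γ, δ - γ, Z.add_mem hα (Z.mul_mem hγ hTZ),
      Z.add_mem (Z.add_mem hα hβ) (Z.mul_mem hδ hTZ), hγ, Z.sub_mem hδ hγ, ?_, ?_⟩
    · rw [map_mul, e, hRa, hT]
      simp only [add_mul, mul_add, mul_sub, sub_mul, mul_one, mul_assoc, ha, mul_zero, add_zero,
        zero_add]
      abel
    · rw [mul_inv_rev, map_mul, e', hRai, hT]
      have k1 : N * (β * N) = 0 := by rw [← mul_assoc, (hcomm hβ).1, mul_assoc, ha, mul_zero]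
      have k2 : N * (γ * M) = γ * (N * M) := by rw [← mul_assoc, (hcomm hγ).1, mul_assoc]
      have k3 : N * (δ * (M * N)) = δ * (N * (M * N)) := by rw [← mul_assoc, (hcomm hδ).1, mul_assoc]
      simp only [sub_mul, one_mul, mul_add, mul_sub, k1, k2, k3, (hcomm hα).1, add_mul, mul_assoc,
        ha, mul_zero, add_zero, sub_zero]
      abel
  have hPb : ∀ x, P x → P (x * b) := by
    rintro x ⟨α, β, γ, δ, hα, hβ, hγ, hδ, e, e'⟩
    refine ⟨α, β, α + γ, δ + β, hα, hβ, Z.add_mem hα hγ, Z.add_mem hδ hβ, ?_, ?_⟩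
    · rw [map_mul, e, hRb]
      simp only [add_mul, mul_add, mul_one, mul_assoc, hb, mul_zero, add_zero]
      abel
    · rw [mul_inv_rev, map_mul, e', hRbi]
      have k1 : M * (β * N) = β * (M * N) := by rw [← mul_assoc, (hcomm hβ).2, mul_assoc]
      have k2 : M * (γ * M) = 0 := by rw [← mul_assoc, (hcomm hγ).2, mul_assoc, hb, mul_zero]
      have k3 : M * (δ * (M * N)) = 0 := by
        rw [← mul_assoc, (hcomm hδ).2, mul_assoc, ← mul_assoc M M N, hb, zero_mul, mul_zero]
      simp only [sub_mul, one_mul, mul_add, mul_sub, k1, k2, k3, (hcomm hα).2, add_mul,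
        sub_zero, add_zero]
      abel
  have hP : ∀ g, ∀ x, P x → P (x * g) := by
    intro g
    have hg : g ∈ Submonoid.closure ({a, b} : Set H) := by
      rw [← Subgroup.closure_toSubmonoid_of_finite, hgen]
      exact Subgroup.mem_top g
    induction hg using Submonoid.closure_induction with
    | mem g hg => rcases hg with rfl | rfl; exacts [hPa, hPb]
    | one => intro x hx; rwa [mul_one]
    | mul g h _ _ ihg ihh => intro x hx; rw [← mul_assoc]; exact ihh _ (ihg _ hx)
  obtain ⟨α, β, γ, δ, hα, -, -, hδ, e, e'⟩ : P x := by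
    have h := hP x 1 ⟨1, 0, 0, 0, Z.one_mem, Z.zero_mem, Z.zero_mem, Z.zero_mem, by simp, by simp⟩
    rwa [one_mul] at h
  have hsum : R x + R x⁻¹ = α + α + δ * T := by rw [e, e', hT, mul_add]; abel
  have hmem : R x + R x⁻¹ ∈ Z := hsum ▸ Z.add_mem (Z.add_mem hα hα) (Z.mul_mem hδ hTZ)
  obtain ⟨h1, h2⟩ := hcomm hmem
  have hg : y ∈ Submonoid.closure ({a, b} : Set H) := by
    rw [← Subgroup.closure_toSubmonoid_of_finite, hgen]
    exact Subgroup.mem_top y
  induction hg using Submonoid.closure_induction with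
  | mem g hg =>
    rcases hg with rfl | rfl
    · rw [hRa, add_mul, one_mul, mul_add _ _ N, mul_one, h1]
    · rw [hRb, add_mul, one_mul, mul_add _ _ M, mul_one, h2]
  | one => simp
  | mul g h _ _ ihg ihh => rw [map_mul, mul_assoc, ihh, ← mul_assoc, ihg, mul_assoc]

/-- the trace identity in `SL(2)` -/
theorem add_inv_eq (x : S2 (ZMod p)) :
    (x.1 : Matrix (Fin 2) (Fin 2) (ZMod p)) + (x⁻¹).1 = (x.1 0 0 + x.1 1 1) • 1 := by
  rw [Matrix.SpecialLinearGroup.coe_inv, Matrix.adjugate_fin_two]
  ext i j
  fin_cases i <;> fin_cases j <;> simp [Matrix.one_apply] <;> ring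

/-- the natural isotypic part -/
theorem exists_isotypic [Finite H] (hp : p ≠ 2) {M : Type*} [AddCommGroup M] [Module (ZMod p) M]
    [Finite M] (R : H →* Module.End (ZMod p) M) (π : H →* S2 (ZMod p)) (hπ : Function.Surjective π)
    (hrel : ∀ c : H →₀ ZMod p, Finsupp.linearCombination (ZMod p) (fun h => R h) c = 0 →
      Finsupp.linearCombination (ZMod p)
        (fun h => ((π h : S2 (ZMod p)) : Matrix (Fin 2) (Fin 2) (ZMod p))) c = 0)
    (hcent : ∀ x y : H, R y * (R x + R x⁻¹) = (R x + R x⁻¹) * R y) :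
    ∃ W2 : Submodule (ZMod p) M, W2 ≠ ⊥ ∧ (∀ h, ∀ w ∈ W2, R h w ∈ W2) ∧
      ∀ c : H →₀ ZMod p, Finsupp.linearCombination (ZMod p)
          (fun h => ((π h : S2 (ZMod p)) : Matrix (Fin 2) (Fin 2) (ZMod p))) c = 0 →
        ∀ w ∈ W2, Finsupp.linearCombination (ZMod p) (fun h => R h) c w = 0 := by
  classical
  haveI : Finite (Module.End (ZMod p) M) := Finite.of_injective (DFunLike.coe) DFunLike.coe_injective
  let F := Finsupp.linearCombination (ZMod p) (fun h : H => R h)
  let Ψ := Finsupp.linearCombination (ZMod p)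
    (fun h : H => ((π h : S2 (ZMod p)) : Matrix (Fin 2) (Fin 2) (ZMod p)))
  let τ : H → ZMod p := fun h => (π h).1 0 0 + (π h).1 1 1
  let C : H → Module.End (ZMod p) M := fun h => R h + R h⁻¹ - τ h • (1 : Module.End (ZMod p) M)
  let cc : H → (H →₀ ZMod p) := fun h =>
    Finsupp.single h 1 + Finsupp.single h⁻¹ 1 - Finsupp.single 1 (τ h)
  have hFcc : ∀ h, F (cc h) = C h := fun h => by
    simp [F, cc, C]
  have hΨcc : ∀ h, Ψ (cc h) = 0 := fun h => by
    simp only [Ψ, cc, map_add, map_sub, Finsupp.linearCombination_single, one_smul, map_one, map_inv,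
      Matrix.SpecialLinearGroup.coe_one]
    rw [sub_eq_zero]
    exact add_inv_eq (π h)
  have hCcomm : ∀ h y, R y * C h = C h * R y := fun h y => by
    simp only [C, mul_sub, sub_mul, hcent h y, mul_smul_comm, smul_mul_assoc, mul_one, one_mul]
  have hCC : ∀ h h', Commute (C h) (C h') := fun h h' => by
    refine Commute.sub_right (Commute.add_right ?_ ?_) ((Commute.one_right _).smul_right _) <;>
      exact (hCcomm h _).symm
  -- products in the group algebra
  let mul' : H → (H →₀ ZMod p) → (H →₀ ZMod p) := fun h c => c.mapDomain (h * ·)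
  let mulc : (H →₀ ZMod p) → (H →₀ ZMod p) → (H →₀ ZMod p) := fun c d =>
    c.sum fun h r => r • mul' h d
  have hFm : ∀ h d, F (mul' h d) = R h * F d := by
    intro h d
    induction d using Finsupp.induction_linear with
    | zero => simp [mul']
    | add x y hx hy => simp only [mul', Finsupp.mapDomain_add, map_add] at *; rw [hx, hy, mul_add]
    | single x r => simp [F, mul', Finsupp.mapDomain_single, mul_smul_comm]
  have hΨm : ∀ h d, Ψ (mul' h d) = (π h).1 * Ψ d := by
    intro h d
    induction d using Finsupp.induction_linear with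
    | zero => simp [mul']
    | add x y hx hy => simp only [mul', Finsupp.mapDomain_add, map_add] at *; rw [hx, hy, mul_add]
    | single x r => simp [Ψ, mul', Finsupp.mapDomain_single, mul_smul_comm]
  have hFc : ∀ c d, F (mulc c d) = F c * F d := by
    intro c d
    induction c using Finsupp.induction_linear with
    | zero => simp [mulc]
    | add x y hx hy =>
      simp only [mulc] at *
      rw [Finsupp.sum_add_index' (by simp) (by simp [add_smul]), map_add, hx, hy, map_add, add_mul]
    | single x r =>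
      simp only [mulc]
      rw [Finsupp.sum_single_index (by simp), map_smul, hFm]
      simp [F]
  have hΨc : ∀ c d, Ψ (mulc c d) = Ψ c * Ψ d := by
    intro c d
    induction c using Finsupp.induction_linear with
    | zero => simp [mulc]
    | add x y hx hy =>
      simp only [mulc] at *
      rw [Finsupp.sum_add_index' (by simp) (by simp [add_smul]), map_add, hx, hy, map_add, add_mul]
    | single x r =>
      simp only [mulc]
      rw [Finsupp.sum_single_index (by simp), map_smul, hΨm]
      simp [Ψ]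
  -- step 1: kill every `C h` by powers
  have step1 : ∀ s : Finset H, ∃ γ, Ψ γ = 1 ∧ ∀ h ∈ s, ∃ n, C h ^ n * F γ = 0 := by
    intro s
    induction s using Finset.induction with
    | empty => exact ⟨Finsupp.single 1 1, by simp [Ψ], by simp⟩
    | insert h s _ ih =>
      obtain ⟨γ, hγ, hkill⟩ := ih
      obtain ⟨i, j, hne, hij⟩ := Finite.exists_ne_map_eq_of_infinite (fun n : ℕ => C h ^ n)
      wlog hlt : i < j generalizing i j
      · exact this j i hne.symm hij.symm (by omega)
      have hij' : C h ^ i = C h ^ j := hij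
      set d := j - i with hd
      have hper : ∀ k, C h ^ (i + k * d) = C h ^ i := by
        intro k
        induction k with
        | zero => simp
        | succ k ihk =>
          rw [Nat.succ_mul, ← add_assoc, pow_add, ihk, ← pow_add, show i + d = j by omega, hij']
      let cp : ℕ → (H →₀ ZMod p) := fun n => Nat.rec (Finsupp.single 1 1) (fun _ c => mulc (cc h) c) n
      have hFp : ∀ n, F (cp n) = C h ^ n := by
        intro n
        induction n with
        | zero => simp [cp, F]
        | succ n ihn => show F (mulc (cc h) (cp n)) = _; rw [hFc, hFcc, ihn, pow_succ']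
      have hΨp : ∀ n, n ≠ 0 → Ψ (cp n) = 0 := by
        intro n hn
        obtain ⟨n, rfl⟩ := Nat.exists_eq_succ_of_ne_zero hn
        show Ψ (mulc (cc h) (cp n)) = 0
        rw [hΨc, hΨcc, zero_mul]
      set N := (i + 1) * d with hN
      refine ⟨γ - mulc (cp N) γ, ?_, ?_⟩
      · rw [map_sub, hΨc, hΨp N (Nat.mul_ne_zero (by omega) (by omega)), zero_mul, sub_zero, hγ]
      · intro h' hh'
        rw [map_sub, hFc, hFp]
        rcases Finset.mem_insert.1 hh' with rfl | hh'
        · refine ⟨i, ?_⟩
          rw [mul_sub, ← mul_assoc, ← pow_add, hper, sub_self]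
        · obtain ⟨n, hn⟩ := hkill h' hh'
          refine ⟨n, ?_⟩
          rw [mul_sub, ← mul_assoc, ((hCC h' h).pow_pow n N).eq, mul_assoc, hn, mul_zero, sub_zero]
  haveI := Fintype.ofFinite H
  obtain ⟨γ, hγ, hkill⟩ := step1 Finset.univ
  obtain ⟨v0, hv0⟩ : ∃ v, F γ v ≠ 0 := by
    by_contra hc
    push Not at hc
    have h0 : Ψ γ = 0 := hrel γ (LinearMap.ext fun v => hc v)
    rw [hγ] at h0
    exact one_ne_zero h0
  -- step 2: descend to a common kernel
  have step2 : ∀ s : Finset H, ∃ v, v ≠ 0 ∧ (∀ h ∈ s, C h v = 0) ∧ ∀ h, ∃ n, (C h ^ n) v = 0 := by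
    intro s
    induction s using Finset.induction with
    | empty =>
      refine ⟨F γ v0, hv0, by simp, fun h => ?_⟩
      obtain ⟨n, hn⟩ := hkill h (Finset.mem_univ h)
      exact ⟨n, by rw [← Module.End.mul_apply, hn]; rfl⟩
    | insert h s _ ih =>
      obtain ⟨v, hv, hvs, hnil⟩ := ih
      have hex := hnil h
      set n := Nat.find hex with hn
      have hn0 : n ≠ 0 := by
        intro h0
        have := Nat.find_spec hex
        rw [← hn, h0, pow_zero, Module.End.one_apply] at this
        exact hv this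
      refine ⟨(C h ^ (n - 1)) v, Nat.find_min hex (by omega), ?_, fun h' => ?_⟩
      · intro h' hh'
        rcases Finset.mem_insert.1 hh' with rfl | hh'
        · rw [← Module.End.mul_apply, ← pow_succ', Nat.sub_add_cancel (Nat.one_le_iff_ne_zero.2 hn0)]
          exact Nat.find_spec hex
        · rw [← Module.End.mul_apply, ((hCC h' h).pow_right _).eq, Module.End.mul_apply, hvs h' hh',
            map_zero]
      · obtain ⟨m, hm⟩ := hnil h'
        exact ⟨m, by rw [← Module.End.mul_apply, ((hCC h' h).pow_pow m _).eq, Module.End.mul_apply,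
          hm, map_zero]⟩
  let W2 : Submodule (ZMod p) M := ⨅ h, LinearMap.ker (C h)
  have hmem : ∀ {w}, w ∈ W2 ↔ ∀ h, C h w = 0 := fun {w} => by simp [W2, Submodule.mem_iInf]
  have hinv : ∀ h, ∀ w ∈ W2, R h w ∈ W2 := fun h w hw => hmem.2 fun h' => by
    rw [← Module.End.mul_apply, ← hCcomm, Module.End.mul_apply, hmem.1 hw, map_zero]
  refine ⟨W2, ?_, hinv, ?_⟩
  · obtain ⟨v, hv, hvs, -⟩ := step2 Finset.univ
    exact fun h => hv ((Submodule.mem_bot _).1 (h ▸ hmem.2 fun h' => hvs h' (Finset.mem_univ h')))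
  -- the algebra acts on `W2` through `π`
  have hsum : ∀ (c : H →₀ ZMod p), ∀ w ∈ W2,
      F c w + F (c.mapDomain (·⁻¹)) w = ((Ψ c) 0 0 + (Ψ c) 1 1) • w := by
    intro c w hw
    induction c using Finsupp.induction_linear with
    | zero => simp
    | add x y hx hy =>
      simp only [Finsupp.mapDomain_add, map_add, LinearMap.add_apply, Matrix.add_apply]
      rw [add_add_add_comm, hx, hy, ← add_smul]
      congr 1
      ring
    | single x r =>
      have h0 := hmem.1 hw x
      simp only [C, LinearMap.sub_apply, LinearMap.add_apply, LinearMap.smul_apply,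
        Module.End.one_apply, sub_eq_zero] at h0
      simp only [F, Ψ, Finsupp.mapDomain_single, Finsupp.linearCombination_single,
        LinearMap.smul_apply, Matrix.smul_apply, smul_eq_mul]
      rw [← smul_add, h0, smul_smul]
      congr 1
      simp only [τ]
      ring
  intro c hc w hw
  show F c w = 0
  have hneg : ∀ (d : H →₀ ZMod p), Ψ d = 0 → ∀ u ∈ W2, F (d.mapDomain (·⁻¹)) u = -(F d u) := by
    intro d hd u hu
    have := hsum d u hu
    rw [hd] at this
    simp only [Matrix.zero_apply, add_zero, zero_smul] at this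
    exact eq_neg_of_add_eq_zero_right this
  let rmul : (H →₀ ZMod p) → H → (H →₀ ZMod p) := fun d h => d.mapDomain (· * h)
  have hFr : ∀ d h, F (rmul d h) = F d * R h := by
    intro d h
    induction d using Finsupp.induction_linear with
    | zero => simp [rmul]
    | add x y hx hy => simp only [rmul, Finsupp.mapDomain_add, map_add] at *; rw [hx, hy, add_mul]
    | single x r => simp [F, rmul, Finsupp.mapDomain_single]
  have hΨr : ∀ d h, Ψ (rmul d h) = Ψ d * (π h).1 := by
    intro d h
    induction d using Finsupp.induction_linear with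
    | zero => simp [rmul]
    | add x y hx hy => simp only [rmul, Finsupp.mapDomain_add, map_add] at *; rw [hx, hy, add_mul]
    | single x r => simp [Ψ, rmul, Finsupp.mapDomain_single]
  have hinvr : ∀ d h, (rmul d h).mapDomain (·⁻¹) = mul' h⁻¹ (d.mapDomain (·⁻¹)) := fun d h => by
    simp only [rmul, mul', ← Finsupp.mapDomain_comp]
    congr 1
    funext x
    simp
  have key : ∀ h u, u ∈ W2 → F c (R h u) = R h⁻¹ (F c u) := by
    intro h u hu
    have h1 := hneg (rmul c h) (by rw [hΨr, show Ψ c = 0 from hc, zero_mul]) u hu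
    rw [hinvr, hFm, hFr, Module.End.mul_apply, Module.End.mul_apply,
      hneg c hc u hu, map_neg, neg_inj] at h1
    exact h1.symm
  obtain ⟨i, j, hi, hj, hij, -⟩ := exists_quaternion (p := p) hp
  obtain ⟨x, hx⟩ := hπ i
  obtain ⟨y, hy⟩ := hπ j
  set v := F c w with hv
  have hvW : v ∈ W2 := by
    rw [hv]
    simp only [F, Finsupp.linearCombination_apply, Finsupp.sum, LinearMap.sum_apply]
    exact Submodule.sum_mem _ fun h _ => W2.smul_mem _ (hinv h w hw)
  have h1 : R y⁻¹ (R x⁻¹ v) = R x⁻¹ (R y⁻¹ v) := by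
    rw [← Module.End.mul_apply, ← map_mul, ← mul_inv_rev, hv, ← key _ _ hw, map_mul,
      Module.End.mul_apply, key _ _ (hinv y w hw), key _ _ hw]
  set z := y * x * y⁻¹ * x⁻¹ with hz
  have hzv : R z v = v := by
    rw [hz, map_mul, map_mul, map_mul, Module.End.mul_apply, Module.End.mul_apply,
      Module.End.mul_apply, h1, ← Module.End.mul_apply (R x), ← map_mul, mul_inv_cancel, map_one,
      Module.End.one_apply, ← Module.End.mul_apply, ← map_mul, mul_inv_cancel, map_one,
      Module.End.one_apply]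
  have hzv' : R z⁻¹ v = v := by
    conv_lhs => rw [← hzv]
    rw [← Module.End.mul_apply, ← map_mul, inv_mul_cancel, map_one, Module.End.one_apply]
  have hπz : π z = -1 := by
    rw [hz, map_mul, map_mul, map_mul, map_inv, map_inv, hx, hy]
    have hji : j * i = -(i * j) := by rw [hij, neg_neg]
    rw [hji, neg_mul, neg_mul, mul_inv_cancel_right, mul_inv_cancel]
  have h0 := hmem.1 hvW z
  simp only [C, τ, hπz, LinearMap.sub_apply, LinearMap.add_apply, LinearMap.smul_apply,
    Module.End.one_apply, hzv, hzv', neg_entry, one00, one11] at h0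
  have h4 : (4 : ZMod p) • v = 0 := by
    rw [show (4 : ZMod p) = 1 + 1 - (-1 + -1) by ring, sub_smul, add_smul, one_smul]
    exact h0
  have h4' : (4 : ZMod p) ≠ 0 := fun h => hp ((Nat.prime_dvd_prime_iff_eq Fact.out Nat.prime_two).1
    ((Fact.out : p.Prime).dvd_of_dvd_pow (show p ∣ 2 ^ 2 from
      (ZMod.natCast_eq_zero_iff 4 p).1 (by simpa using h))))
  exact (smul_eq_zero.1 h4).resolve_left h4'

/-- Baer–Suzuki version with the isotypic part -/
theorem exists_isotypic_of_quad [Finite H] (hp : p ≠ 2) {M : Type*} [AddCommGroup M]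
    [Module (ZMod p) M] [Finite M] (f : H → M →+ M) (h1 : ∀ v, f 1 v = v)
    (h2 : ∀ x y v, f (x * y) v = f x (f y v)) (hf : ∀ h, (∀ v, f h v = v) → h = 1)
    {a : H} (ha : ∀ v, f a (f a v - v) = f a v - v) (hna : a ∉ Cfsg.pCore p H) :
    ∃ (c : H) (K0 : Subgroup H) (π : K0 →* S2 (ZMod p)), K0 ≤ closure {a, c * a * c⁻¹} ∧
      Function.Surjective π ∧ ∃ W2 : AddSubgroup M, W2 ≠ ⊥ ∧ (∀ h : K0, ∀ w ∈ W2, f h w ∈ W2) ∧
        ∀ d : K0 →₀ ZMod p, d.sum (fun h r => r •
            ((π h : S2 (ZMod p)) : Matrix (Fin 2) (Fin 2) (ZMod p))) = 0 →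
          ∀ w ∈ W2, d.sum (fun h r => r • f h w) = 0 := by
  classical
  set A : Subgroup H := zpowers a with hA
  by_cases hall : ∀ g : H, IsPGroup p ↥(A ⊔ MulAut.conj g • A)
  · exfalso
    have hsn := (CfsgLib.Core.isSubnormal_of_nilpotent_join fun g => (hall g).isNilpotent).1
    have hAp : IsPGroup p A := (hall 1).to_le le_sup_left
    exact hna (Components.subnormal_pGroup_le_pCore hsn hAp (mem_zpowers _))
  push Not at hall
  obtain ⟨g, hg⟩ := hall
  set b : H := g * a * g⁻¹ with hbdef
  set X : Subgroup H := closure {a, b} with hX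
  have haX : a ∈ X := subset_closure (Set.mem_insert _ _)
  have hbX : b ∈ X := subset_closure (Set.mem_insert_of_mem _ (Set.mem_singleton _))
  have hgen : closure ({⟨a, haX⟩, ⟨b, hbX⟩} : Set X) = ⊤ := by
    refine map_injective X.subtype_injective ?_
    rw [MonoidHom.map_closure, Set.image_pair, ← MonoidHom.range_eq_map, X.range_subtype]
    rfl
  have hb : ∀ v, f b (f b v - v) = f b v - v := by
    intro v
    set w := f g⁻¹ v with hw
    have hv : f g w = v := by rw [hw, ← h2, mul_inv_cancel, h1]
    have hbv : ∀ u, f b (f g u) = f g (f a u) := fun u => by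
      rw [← h2, ← h2]
      simp [hbdef, mul_assoc]
    rw [← hv, hbv, ← map_sub, hbv, ha]
  obtain ⟨K1, π, hπ, hrel⟩ := exists_rel_of_pair (H := X) hp hgen (fun x => f x.1) h1
    (fun x y v => h2 x.1 y.1 v) (fun x hx => Subtype.ext (hf x.1 hx)) ha hb (by
      intro hP
      refine hg ?_
      have h : A ⊔ MulAut.conj g • A = X := by
        rw [hX, Set.insert_eq, Subgroup.closure_union, ← zpowers_eq_closure,
          ← zpowers_eq_closure, hA]
        congr 1
        exact MonoidHom.map_zpowers (MulAut.conj g).toMonoidHom a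
      rw [h]; exact hP)
  let R0 : X →* Module.End (ZMod p) M := (zmodRep f h1 h2).comp X.subtype
  let R1 : K1 →* Module.End (ZMod p) M := R0.comp K1.subtype
  have hsq : ∀ x : X, (∀ v, f x (f x v - v) = f x v - v) → (R0 x - 1) * (R0 x - 1) = 0 := by
    intro x hx
    refine LinearMap.ext fun v => ?_
    show f x (f x v - v) - (f x v - v) = 0
    rw [hx, sub_self]
  have hrel' : ∀ c : K1 →₀ ZMod p, Finsupp.linearCombination (ZMod p) (fun h => R1 h) c = 0 →
      Finsupp.linearCombination (ZMod p)
        (fun h => ((π h : S2 (ZMod p)) : Matrix (Fin 2) (Fin 2) (ZMod p))) c = 0 := fun c hc => by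
    let e : K1 ↪ X := ⟨Subtype.val, Subtype.val_injective⟩
    let c' : X → ZMod p := fun x => if h : x ∈ K1 then c ⟨x, h⟩ else 0
    have hc' : ∀ h : K1, c' h.1 = c h := fun h => by simp [c']
    have hs : ∀ x ∈ c.support.map e, x ∈ K1 := by
      intro x hx
      obtain ⟨h, -, rfl⟩ := Finset.mem_map.1 hx
      exact h.2
    have h0 := hrel (c.support.map e) c' hs (fun v => by
      rw [Finset.sum_map]
      have := LinearMap.congr_fun hc v
      rw [Finsupp.linearCombination_apply, Finsupp.sum, LinearMap.sum_apply] at this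
      refine Eq.trans ?_ this
      refine Finset.sum_congr rfl fun h _ => ?_
      show c' h.1 • f _ v = (c h • R1 h) v
      rw [hc']
      rfl)
    rw [Finsupp.linearCombination_apply, Finsupp.sum, ← Finset.sum_attach]
    refine Eq.trans ?_ h0
    refine Finset.sum_bij (fun h _ => ⟨e h.1, Finset.mem_map_of_mem e h.2⟩)
      (fun h _ => Finset.mem_attach _ _)
      (fun x _ y _ h => by exact Subtype.ext (e.injective (by simpa using h))) ?_ ?_
    · rintro ⟨x, hx⟩ -
      obtain ⟨h, hh, rfl⟩ := Finset.mem_map.1 hx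
      exact ⟨⟨h, hh⟩, Finset.mem_attach _ _, rfl⟩
    · intro h _
      show c h.1 • _ = c' h.1.1 • _
      rw [hc']
      rfl
  obtain ⟨W2, hW2, hinv, hlin⟩ := exists_isotypic hp R1 π hπ hrel' (fun x y => by
    show R0 y.1 * (R0 x.1 + R0 (x⁻¹ : K1).1) = _
    exact sum_inv_central R0 hgen (hsq _ ha) (hsq _ hb) x.1 y.1)
  let e : K1 ≃* ↥(K1.map X.subtype) := equivMapOfInjective _ _ X.subtype_injective
  have hval : ∀ h : ↥(K1.map X.subtype), ((e.symm h : X) : H) = (h : H) := fun h => by
    have := congrArg Subtype.val (e.apply_symm_apply h)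
    exact this
  refine ⟨g, K1.map X.subtype, π.comp e.symm.toMonoidHom, ?_, hπ.comp e.symm.surjective,
    W2.toAddSubgroup, fun h => hW2 ((Submodule.eq_bot_iff _).2 fun x hx => by
      have hx' : x ∈ W2.toAddSubgroup := hx
      rw [h] at hx'
      exact (AddSubgroup.mem_bot).1 hx'), fun h w hw => ?_,
    fun d hd w hw => ?_⟩
  · exact map_subtype_le _
  · have := hinv (e.symm h) w hw
    rwa [show R1 (e.symm h) w = f (h : H) w by rw [← hval h]; rfl] at this
  · have h3 := hlin (d.mapDomain e.symm) (by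
      rw [Finsupp.linearCombination_mapDomain, Finsupp.linearCombination_apply]
      exact hd) w hw
    rw [Finsupp.linearCombination_mapDomain, Finsupp.linearCombination_apply, Finsupp.sum,
      LinearMap.sum_apply] at h3
    refine Eq.trans ?_ h3
    refine Finset.sum_congr rfl fun h _ => ?_
    show d h • f (h : H) w = d h • f ((e.symm h : X) : H) w
    rw [hval h]

end CfsgLib.PLocal.SLTwo
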