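import Cfsg.Agent.Lib.PLocal.SLTwo.StableCore
import Cfsg.Agent.Lib.PLocal.SLTwo.Isotypic
import Cfsg.Agent.Lib.PLocal.SLTwo.PStableCrit
import Cfsg.Agent.Lib.PGroups.Basic
import Cfsg.Agent.Lib.Core.Coprime

/-!
# Stability passes to quotients by `p`-subgroups centralised by all `p'`-elements
-/

set_option autoImplicit false

namespace CfsgLib.PLocal.SLTwo

open Subgroup
open scoped commutatorElement Pointwise IsMulCommutative

universe u v

variable {p : ℕ} [Fact p.Prime]

theorem eq_one_of_mem_pCore {Y : Type*} [Group Y] {y : Y} (hy : y ∈ Cfsg.pCore p Y)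
    (hc : (orderOf y).Coprime p) : y = 1 := by
  obtain ⟨k, hk⟩ := CfsgLib.Core.isPGroup_pCore p Y ⟨y, hy⟩
  have hk' : y ^ p ^ k = 1 := congrArg Subtype.val hk
  exact orderOf_eq_one_iff.1 (Nat.eq_one_of_dvd_coprimes (hc.pow_right k) dvd_rfl
    (orderOf_dvd_of_pow_eq_one hk'))

/-- a good element on the Frattini quotient is good on the group -/
theorem mem_pCore_of_frattini {X : Type*} [Group X] [Finite X] (P : Subgroup X) [P.Normal]
    (hP : IsPGroup p P) (N : Subgroup X) [N.Normal] (hN : N = (frattini P).map P.subtype) {a : X}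
    (h : (QuotientGroup.mk (QuotientGroup.mk' N a) :
        (X ⧸ N) ⧸ centralizer ((P.map (QuotientGroup.mk' N) : Subgroup (X ⧸ N)) : Set (X ⧸ N))) ∈
      Cfsg.pCore p ((X ⧸ N) ⧸
        centralizer ((P.map (QuotientGroup.mk' N) : Subgroup (X ⧸ N)) : Set (X ⧸ N)))) :
    (QuotientGroup.mk a : X ⧸ centralizer (P : Set X))
      ∈ Cfsg.pCore p (X ⧸ centralizer (P : Set X)) := by
  classical
  set π := QuotientGroup.mk' N with hπ
  set C := centralizer ((P.map π : Subgroup (X ⧸ N)) : Set (X ⧸ N)) with hC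
  haveI : (P.map π).Normal :=
    Subgroup.Normal.map ‹P.Normal› π (QuotientGroup.mk'_surjective _)
  haveI := CfsgLib.Core.normal_pCore p ((X ⧸ N) ⧸ C)
  set D := (Cfsg.pCore p ((X ⧸ N) ⧸ C)).comap ((QuotientGroup.mk' C).comp π) with hD
  have haD : a ∈ D := h
  haveI : D.Normal := inferInstance
  have hDq : IsPGroup p (D.map (QuotientGroup.mk' (centralizer (P : Set X)))) := by
    rintro ⟨_, d, hd, rfl⟩
    obtain ⟨k, hk⟩ := CfsgLib.Core.isPGroup_pCore p ((X ⧸ N) ⧸ C) ⟨_, hd⟩
    set z := d ^ p ^ k with hz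
    have hzC : π z ∈ C := by
      rw [← QuotientGroup.eq_one_iff, hz, map_pow, QuotientGroup.mk_pow]
      exact congrArg Subtype.val hk
    obtain ⟨e, m, hm, hem⟩ := Nat.exists_eq_pow_mul_and_not_dvd (orderOf_pos z).ne' p
      (Fact.out : p.Prime).ne_one
    refine ⟨k + e, Subtype.ext ((QuotientGroup.eq_one_iff (d ^ p ^ (k + e))).2 ?_)⟩
    rw [pow_add, pow_mul, ← hz]
    set y := z ^ p ^ e with hy
    have hyo : orderOf y = m := by
      rw [hy, orderOf_pow_of_dvd (pow_ne_zero _ (Fact.out : p.Prime).ne_zero) ⟨m, hem⟩, hem,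
        Nat.mul_div_cancel_left _ (pow_pos (Fact.out : p.Prime).pos _)]
    have hyC : π y ∈ C := by rw [hy, map_pow]; exact pow_mem hzC _
    have hcop : (Nat.card (zpowers y)).Coprime (Nat.card (frattini P)) := by
      obtain ⟨j, hj⟩ := IsPGroup.iff_card.1 (hP.to_subgroup (frattini P))
      rw [Nat.card_zpowers, hyo, hj]
      exact (((Fact.out : p.Prime).coprime_iff_not_dvd.2 hm).symm).pow_right j
    have hA : zpowers y ≤ normalizer (P : Set X) := by
      rw [normalizer_eq_top]; exact le_top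
    have := CfsgLib.Core.centralizes_of_centralizes_frattini_quotient hA hcop (by
      intro b hb x hx
      obtain ⟨i, rfl⟩ := mem_zpowers_iff.1 hb
      have hc := mem_centralizer_iff.1 (show π (y ^ i) ∈ C by rw [map_zpow]; exact zpow_mem hyC i)
        _ (mem_map_of_mem π hx)
      rw [← hN, ← QuotientGroup.eq_one_iff]
      show π (y ^ i * x * (y ^ i)⁻¹ * x⁻¹) = 1
      rw [map_mul, map_mul, map_mul, map_inv, map_inv, ← hc, mul_inv_cancel_right, mul_inv_cancel])
    rw [mem_centralizer_iff]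
    intro x hx
    exact mem_centralizer_iff.1 (this (mem_zpowers y)) x hx
  haveI : (D.map (QuotientGroup.mk' (centralizer (P : Set X)))).Normal :=
    Subgroup.Normal.map inferInstance _ (QuotientGroup.mk'_surjective _)
  exact CfsgLib.Core.le_pCore hDq (mem_map_of_mem _ haD)

/-- the linear relations used -/
theorem rel_U_two :
    ((1 : ZMod p) • ((U 1 * U 1 : S2 (ZMod p)) : Matrix (Fin 2) (Fin 2) (ZMod p)))
      + (-2 : ZMod p) • (U 1 : S2 (ZMod p)).1 + (1 : ZMod p) • (1 : S2 (ZMod p)).1 = 0 := by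
  ext i j
  fin_cases i <;> fin_cases j <;> simp [U_mul] <;> ring

theorem rel_G :
    (4 : ZMod p) • (G1 : S2 (ZMod p)).1 + (-1 : ZMod p) • (G2 : S2 (ZMod p)).1
      + (-1 : ZMod p) • (G3 : S2 (ZMod p)).1 + (-2 : ZMod p) • (U 1 : S2 (ZMod p)).1
      + (2 : ZMod p) • (1 : S2 (ZMod p)).1 = 0 := by
  ext i j
  fin_cases i <;> fin_cases j <;> simp [G1, G2, G3, U] <;> ring

theorem rel_neg :
    (1 : ZMod p) • (-1 : S2 (ZMod p)).1 + (1 : ZMod p) • (1 : S2 (ZMod p)).1 = 0 := by
  simp

theorem sum_list_single {ι κ : Type*} {B : Type*} [AddCommMonoid B] [Module (ZMod p) B]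
    (f : ι → κ) (L : List (ι × ZMod p)) (F : κ → B) :
    ((L.map fun e => Finsupp.single (f e.1) e.2).sum).sum (fun h r => r • F h)
      = (L.map fun e => e.2 • F (f e.1)).sum := by
  induction L with
  | nil => simp
  | cons e L ih =>
    rw [List.map_cons, List.sum_cons, List.map_cons, List.sum_cons,
      Finsupp.sum_add_index' (by simp) (by simp [add_smul]),
      Finsupp.sum_single_index (by simp), ih]

section Action

variable {Y : Type*} [Group Y] {p : ℕ}

/-- the action of a group on a normal abelian subgroup, written additively -/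
noncomputable def conjAdd (V : Subgroup Y) [V.Normal] [IsMulCommutative V]
    (q : Y ⧸ centralizer (V : Set Y)) : Additive V →+ Additive V :=
  let act : Y → V →* V := fun g =>
    { toFun := fun v => ⟨g * v * g⁻¹, ‹V.Normal›.conj_mem v v.2 g⟩
      map_one' := Subtype.ext (by simp)
      map_mul' := fun v w => Subtype.ext (by simp [mul_assoc]) }
  Quotient.liftOn q (fun g => MonoidHom.toAdditive (act g)) (fun x y hxy => by
    refine congrArg MonoidHom.toAdditive (MonoidHom.ext fun v => Subtype.ext ?_)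
    show x * v * x⁻¹ = y * v * y⁻¹
    have := mem_centralizer_iff.1 (QuotientGroup.leftRel_apply.1 hxy) (v : Y) v.2
    calc x * v * x⁻¹ = x * (v * (x⁻¹ * y)) * y⁻¹ := by group
      _ = x * ((x⁻¹ * y) * v) * y⁻¹ := by rw [this]
      _ = y * v * y⁻¹ := by group)

theorem conjAdd_mk (V : Subgroup Y) [V.Normal] [IsMulCommutative V] (g : Y) (v : Additive V) :
    ((Additive.toMul (conjAdd V (QuotientGroup.mk g) v) : V) : Y)
      = g * ((Additive.toMul v : V) : Y) * g⁻¹ := rfl

end Action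

variable {G : Type u} [Group G] [Finite G] {X : Type v} [Group X] [Finite X]

/-- the inductive step: the isotypic case is impossible -/
theorem false_of_bad (hp : p ≠ 2) (π : G →* X) (hπ : Function.Surjective π)
    (hst : Cfsg.IsNormalizerPStable p G) (hker : IsPGroup p π.ker)
    (hcent : ∀ g : G, (orderOf g).Coprime p → g ∈ centralizer (π.ker : Set G))
    (P : Subgroup X) [P.Normal] (hP : IsPGroup p P) (N : Subgroup X) [N.Normal] (hNP : N ≤ P)
    (hel : Cfsg.IsElementaryAbelian p (P.map (QuotientGroup.mk' N))) {a : X}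
    (hq : ⁅⁅P, zpowers a⁆, zpowers a⁆ = ⊥)
    (hgood : (QuotientGroup.mk a : X ⧸ centralizer (N : Set X))
      ∈ Cfsg.pCore p (X ⧸ centralizer (N : Set X)))
    (hbad : (QuotientGroup.mk (QuotientGroup.mk' N a) :
        (X ⧸ N) ⧸ centralizer ((P.map (QuotientGroup.mk' N) : Subgroup (X ⧸ N)) : Set (X ⧸ N))) ∉
      Cfsg.pCore p ((X ⧸ N) ⧸
        centralizer ((P.map (QuotientGroup.mk' N) : Subgroup (X ⧸ N)) : Set (X ⧸ N)))) :
    False := by
  classical
  set ρ := QuotientGroup.mk' N with hρ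
  set V := P.map ρ with hV
  haveI : V.Normal := Subgroup.Normal.map ‹P.Normal› ρ (QuotientGroup.mk'_surjective _)
  haveI := hel.1
  letI : Module (ZMod p) (Additive V) := AddCommGroup.zmodModule fun x => by
    refine Additive.toMul.injective ?_
    show (Additive.toMul x) ^ p = 1
    exact Subtype.ext (by simpa using hel.2 _ (Additive.toMul x).2)
  set C := centralizer (V : Set (X ⧸ N)) with hC
  obtain ⟨c, K0, π0, hK0, hπ0, W2, hW2, hinv, hlin⟩ :=
    exists_isotypic_of_quad (p := p) (M := Additive V) hp (conjAdd V) (by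
      intro v
      refine Additive.toMul.injective (Subtype.ext ?_)
      rw [← QuotientGroup.mk_one, conjAdd_mk]
      simp)
    (by
      rintro ⟨x⟩ ⟨y⟩ v
      refine Additive.toMul.injective (Subtype.ext ?_)
      show ((Additive.toMul (conjAdd V (QuotientGroup.mk (x * y)) v) : V) : X ⧸ N) = _
      rw [conjAdd_mk]
      erw [conjAdd_mk, conjAdd_mk]
      group)
    (by
      rintro ⟨x⟩ hx
      refine (QuotientGroup.eq_one_iff x).2 ?_
      rw [mem_centralizer_iff_conj]
      intro v hv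
      exact congrArg (fun z : Additive V => ((Additive.toMul z : V) : X ⧸ N))
        (hx (Additive.ofMul ⟨v, hv⟩)))
    (a := QuotientGroup.mk (ρ a)) (by
      intro v
      obtain ⟨y, hy, hyv⟩ := (Additive.toMul v).2
      refine Additive.toMul.injective (Subtype.ext ?_)
      show ρ a * (ρ a * ((Additive.toMul v : V) : X ⧸ N) * (ρ a)⁻¹
          / ((Additive.toMul v : V) : X ⧸ N)) * (ρ a)⁻¹
        = ρ a * ((Additive.toMul v : V) : X ⧸ N) * (ρ a)⁻¹ / ((Additive.toMul v : V) : X ⧸ N)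
      have h := congrArg ρ (quad_fix hq (mem_zpowers a) (mem_zpowers a) hy)
      simp only [map_mul, map_inv] at h
      rw [← hyv, div_eq_mul_inv]
      exact h) hbad
  haveI := CfsgLib.Core.normal_pCore p (X ⧸ centralizer (N : Set X))
  set D0 := (Cfsg.pCore p (X ⧸ centralizer (N : Set X))).comap
    (QuotientGroup.mk' (centralizer (N : Set X))) with hD0
  let ψ : G →* (X ⧸ N) ⧸ C := ((QuotientGroup.mk' C).comp ρ).comp π
  have hψ : Function.Surjective ψ :=
    ((QuotientGroup.mk'_surjective C).comp (QuotientGroup.mk'_surjective N)).comp hπ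
  set DG := D0.comap π with hDG
  haveI : (DG.map ψ).Normal := Subgroup.Normal.map inferInstance ψ hψ
  have haDG : (QuotientGroup.mk (ρ a) : (X ⧸ N) ⧸ C) ∈ DG.map ψ := by
    obtain ⟨g, rfl⟩ := hπ a
    exact ⟨g, hgood, rfl⟩
  have hK0le : K0 ≤ DG.map ψ := hK0.trans ((closure_le _).2 (by
    rintro y (rfl | rfl)
    exacts [haDG, Subgroup.Normal.conj_mem inferInstance _ haDG c]))
  set K := DG ⊓ K0.comap ψ with hK
  let ψK : K →* K0 :=
    { toFun := fun k => ⟨ψ k, k.2.2⟩
      map_one' := Subtype.ext (map_one ψ)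
      map_mul' := fun x y => Subtype.ext (map_mul ψ _ _) }
  have hψK : Function.Surjective ψK := fun ⟨y, hy⟩ => by
    obtain ⟨g, hg, rfl⟩ := hK0le hy
    exact ⟨⟨g, hg, hy⟩, rfl⟩
  set φ := π0.comp ψK with hφ
  -- preimages
  let P2 : Subgroup G :=
    { carrier := {x | ∃ h : ρ (π x) ∈ V, Additive.ofMul (⟨ρ (π x), h⟩ : V) ∈ W2}
      one_mem' := ⟨by simp, by
        rw [show (⟨ρ (π 1), (by simp : ρ (π 1) ∈ V)⟩ : V) = 1 from Subtype.ext (by simp), ofMul_one]
        exact W2.zero_mem⟩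
      mul_mem' := by
        rintro x y ⟨hx, hx'⟩ ⟨hy, hy'⟩
        refine ⟨by simpa using mul_mem hx hy, ?_⟩
        convert W2.add_mem hx' hy' using 1
        exact congrArg Additive.ofMul (Subtype.ext (by simp) :
          (⟨ρ (π (x * y)), _⟩ : V) = ⟨ρ (π x), hx⟩ * ⟨ρ (π y), hy⟩)
      inv_mem' := by
        rintro x ⟨hx, hx'⟩
        refine ⟨by simpa using inv_mem hx, ?_⟩
        convert W2.neg_mem hx' using 1
        exact congrArg Additive.ofMul (Subtype.ext (by simp) :
          (⟨ρ (π x⁻¹), _⟩ : V) = (⟨ρ (π x), hx⟩ : V)⁻¹) }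
  set Φ := N.comap π with hΦdef
  have hΦ1 : ∀ x, x ∈ Φ ↔ ρ (π x) = 1 := fun x => (QuotientGroup.eq_one_iff (π x)).symm
  have hΦle : Φ ≤ P2 := fun x hx => by
    refine ⟨by rw [(hΦ1 x).1 hx]; exact one_mem _, ?_⟩
    rw [show (⟨ρ (π x), _⟩ : V) = 1 from Subtype.ext ((hΦ1 x).1 hx), ofMul_one]
    exact W2.zero_mem
  have hP2P : P2 ≤ P.comap π := by
    rintro x ⟨⟨y, hy, hyx⟩, -⟩
    show π x ∈ P
    have h := hNP (QuotientGroup.eq.1 hyx)
    simpa using mul_mem hy h
  have hP2p : IsPGroup p P2 := (hP.comap_of_ker_isPGroup π hker).to_le hP2P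
  have hne : ¬ P2 ≤ Φ := by
    intro hle
    obtain ⟨w, hw, hw0⟩ := W2.bot_or_exists_ne_zero.resolve_left hW2
    obtain ⟨y, hy, hyw⟩ := (Additive.toMul w).2
    obtain ⟨g, rfl⟩ := hπ y
    have hg : g ∈ P2 := ⟨⟨π g, hy, rfl⟩, by
      convert hw using 1
      exact Additive.toMul.injective (Subtype.ext hyw)⟩
    refine hw0 (Additive.toMul.injective (Subtype.ext ?_))
    rw [← hyw]
    exact (hΦ1 g).1 (hle hg)
  have hKP : ∀ k : K, ∀ x ∈ P2, (k : G) * x * (k : G)⁻¹ ∈ P2 := by
    rintro k x ⟨hx, hx'⟩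
    have hVk : ρ (π ((k : G) * x * (k : G)⁻¹)) ∈ V := by
      simp only [map_mul, map_inv]
      exact ‹V.Normal›.conj_mem _ hx _
    refine ⟨hVk, ?_⟩
    convert hinv (ψK k) _ hx' using 1
    refine Additive.toMul.injective (Subtype.ext ?_)
    show ρ (π ((k : G) * x * (k : G)⁻¹)) = ρ (π k) * ρ (π x) * (ρ (π k))⁻¹
    simp only [map_mul, map_inv]
  have hKΦ : ∀ g : G, ∀ f ∈ Φ, g * f * g⁻¹ ∈ Φ := fun g f hf =>
    (inferInstance : (N.comap π).Normal).conj_mem f hf g
  have hab : ∀ x ∈ P2, ∀ y ∈ P2, ⁅x, y⁆ ∈ Φ := by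
    rintro x ⟨hx, -⟩ y ⟨hy, -⟩
    rw [hΦ1, map_commutatorElement, map_commutatorElement, commutatorElement_eq_one_iff_mul_comm]
    exact comm_of_mem hel.1 hx hy
  have hcentK : ∀ k : K, (orderOf (k : G)).Coprime p → ∀ f ∈ Φ,
      (k : G) * f * (k : G)⁻¹ = f := by
    intro k hk f hf
    have h1 : π k ∈ centralizer (N : Set X) := by
      rw [← QuotientGroup.eq_one_iff]
      refine eq_one_of_mem_pCore k.2.1 (hk.coprime_dvd_left ?_)
      exact orderOf_map_dvd ((QuotientGroup.mk' (centralizer (N : Set X))).comp π) _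
    have hqm : (k : G) * f * (k : G)⁻¹ * f⁻¹ ∈ π.ker := by
      rw [MonoidHom.mem_ker]
      simp only [map_mul, map_inv]
      rw [← mem_centralizer_iff.1 h1 (π f) hf]
      group
    have hc : (k : G) * ((k : G) * f * (k : G)⁻¹ * f⁻¹) * (k : G)⁻¹
        = (k : G) * f * (k : G)⁻¹ * f⁻¹ := by
      rw [← mem_centralizer_iff.1 (hcent k hk) _ hqm, mul_inv_cancel_right]
    exact mul_inv_eq_one.1 (eq_one_of_conj_eq (x := f) hk hker hqm hc (by group))
  have hlin' : ∀ (d : K0 →₀ ZMod p), d.sum (fun h r => r •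
      ((π0 h : S2 (ZMod p)) : Matrix (Fin 2) (Fin 2) (ZMod p))) = 0 → ∀ (x : G) (hx : x ∈ P2),
      d.sum (fun h r => r • conjAdd V h (Additive.ofMul (⟨ρ (π x), hx.1⟩ : V))) = 0 :=
    fun d hd x hx => hlin d hd _ hx.2
  have hsum : ∀ (L : List (K × ZMod p)),
      (L.map fun e => e.2 • ((φ e.1 : S2 (ZMod p)) : Matrix (Fin 2) (Fin 2) (ZMod p))).sum = 0 →
      ∀ (x : G) (hx : x ∈ P2),
      (L.map fun e => e.2 • conjAdd V (ψ e.1) (Additive.ofMul (⟨ρ (π x), hx.1⟩ : V))).sum = 0 := by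
    intro L hL x hx
    have h := hlin' (L.map fun e => Finsupp.single (ψK e.1) e.2).sum
    have h' := h (by rw [sum_list_single]; exact hL) x hx
    exact (sum_list_single ψK L fun h => conjAdd V (h : (X ⧸ N) ⧸ C)
      (Additive.ofMul (⟨ρ (π x), hx.1⟩ : V))).symm.trans h'
  have hval : ∀ (k : G) (x : G) (hx : ρ (π x) ∈ V),
      ((Additive.toMul (conjAdd V (ψ k) (Additive.ofMul (⟨ρ (π x), hx⟩ : V))) : V) : X ⧸ N)
        = ρ (π (k * x * k⁻¹)) := fun k x hx => by
    show ρ (π k) * ρ (π x) * (ρ (π k))⁻¹ = _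
    simp only [map_mul, map_inv]
  have hcast : ∀ (n : ℤ) (v : Additive V),
      ((Additive.toMul ((n : ZMod p) • v) : V) : X ⧸ N)
        = ((Additive.toMul v : V) : X ⧸ N) ^ n := fun n v => by
    rw [Int.cast_smul_eq_zsmul, toMul_zsmul, Subgroup.coe_zpow]
  have hprod : ∀ (L : List (K × ℤ)),
      (L.map fun e => (e.2 : ZMod p) •
        ((φ e.1 : S2 (ZMod p)) : Matrix (Fin 2) (Fin 2) (ZMod p))).sum = 0 →
      ∀ x ∈ P2, (L.map fun e => ((e.1 : G) * x * (e.1 : G)⁻¹) ^ e.2).prod ∈ Φ := by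
    intro L hL x hx
    have h := hsum (L.map fun e => (e.1, (e.2 : ZMod p))) (by rwa [List.map_map]) x hx
    rw [List.map_map] at h
    rw [hΦ1]
    have h2 := congrArg (fun z : Additive V => ((Additive.toMul z : V) : X ⧸ N)) h
    refine Eq.trans ?_ h2
    clear h h2 hL
    induction L with
    | nil => simp
    | cons e L ih =>
      simp only [List.map_cons, List.sum_cons, List.prod_cons, map_mul, map_zpow, ih, toMul_add,
        Subgroup.coe_mul, Function.comp, hcast, hval]
  have hP2Φ : ∀ x ∈ P2, ∀ f ∈ Φ, x * f * x⁻¹ ∈ Φ := fun x _ f hf => hKΦ x f hf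
  refine false_of_lift hp hst φ (hπ0.comp hψK) hP2p hΦle hne hKP (fun k => hKΦ k) hP2Φ hab hcentK
    ?_ ?_ ?_ ?_
  · intro k hk x hx
    have h := hprod [(k, 1), ((1 : K), -1)] (by simp [hk]) x hx
    simpa [commutatorElement_def] using h
  · intro k hk x hx
    have h := hprod [(k, 1), ((1 : K), 1)] (by simpa [hk, map_one] using rel_neg (p := p)) x hx
    simpa using h
  · intro u hu x hx
    have h := hprod [(u * u, 1), (u, -2), ((1 : K), 1)] (by
      simpa [hu, map_mul, map_one, add_assoc] using rel_U_two (p := p)) x hx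
    have hux := hKP u x hx
    have hxx : ⁅(u : G), ⁅(u : G), x⁆⁆ =
        (u : G) * (u : G) * x * ((u : G) * (u : G))⁻¹ * ((u : G) * x * (u : G)⁻¹) ^ (-2 : ℤ) * x *
          ⁅x⁻¹, (u : G) * x * (u : G)⁻¹⁆ := by
      rw [zpow_neg, zpow_ofNat, pow_two]
      simp only [commutatorElement_def]
      group
    rw [hxx]
    exact mul_mem (by simpa [mul_assoc] using h) (hab _ (inv_mem hx) _ hux)
  · intro u a b c hu ha hb hc x hx
    have h := hprod [(a, 4), (b, -1), (c, -1), (u, -2), ((1 : K), 2)] (by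
      simpa [hu, ha, hb, hc, map_one, add_assoc] using rel_G (p := p)) x hx
    set A := ((a : G) * x * (a : G)⁻¹) ^ 4 * ((b : G) * x * (b : G)⁻¹)⁻¹ *
      ((c : G) * x * (c : G)⁻¹)⁻¹ with hA
    set B := (u : G) * x * (u : G)⁻¹ with hB
    have hBm : B ∈ P2 := hKP u x hx
    have h' : A * (B ^ (-2 : ℤ) * x ^ 2) ∈ Φ := by
      rw [hA, hB]; simpa [mul_assoc] using h
    have hd : ⁅(u : G), x⁆ = B * x⁻¹ := by rw [commutatorElement_def]
    rw [hd]
    have e : A * ((B * x⁻¹) ^ 2)⁻¹ = A * (B ^ (-2 : ℤ) * x ^ 2) *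
        ((x ^ 2)⁻¹ * B ^ 2 * x * B⁻¹ * x * B⁻¹) := by
      rw [zpow_neg, zpow_ofNat, pow_two, pow_two, pow_two]
      group
    rw [e]
    refine mul_mem h' ((hΦ1 _).2 ?_)
    simp only [map_mul, map_inv, map_pow]
    have hcm : Commute (ρ (π x)) (ρ (π B)) := by
      have h0 := (hΦ1 _).1 (hab _ hx _ hBm)
      rwa [map_commutatorElement, map_commutatorElement,
        commutatorElement_eq_one_iff_commute] at h0
    have h1 : ρ (π B) ^ 2 * ρ (π x) * (ρ (π B))⁻¹ = ρ (π x) * ρ (π B) := by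
      rw [(hcm.symm.pow_left 2).eq, pow_two]; group
    calc (ρ (π x) ^ 2)⁻¹ * ρ (π B) ^ 2 * ρ (π x) * (ρ (π B))⁻¹ * ρ (π x) * (ρ (π B))⁻¹
        = (ρ (π x) ^ 2)⁻¹ * (ρ (π B) ^ 2 * ρ (π x) * (ρ (π B))⁻¹) * ρ (π x) * (ρ (π B))⁻¹ := by
          simp only [mul_assoc]
      _ = (ρ (π x))⁻¹ * (ρ (π B) * ρ (π x)) * (ρ (π B))⁻¹ := by rw [h1, pow_two]; group
      _ = 1 := by rw [← hcm.eq]; group

/-- stability passes to quotients by `p`-subgroups centralised by the `p'`-elements -/
theorem mem_pCore_of_central_kernel (hp : p ≠ 2) (π : G →* X) (hπ : Function.Surjective π)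
    (hst : Cfsg.IsNormalizerPStable p G) (hker : IsPGroup p π.ker)
    (hcent : ∀ g : G, (orderOf g).Coprime p → g ∈ centralizer (π.ker : Set G))
    (P : Subgroup X) [P.Normal] (hP : IsPGroup p P) {a : X}
    (hq : ⁅⁅P, zpowers a⁆, zpowers a⁆ = ⊥) :
    (QuotientGroup.mk a : X ⧸ centralizer (P : Set X))
      ∈ Cfsg.pCore p (X ⧸ centralizer (P : Set X)) := by
  classical
  induction hn : Nat.card P using Nat.strong_induction_on generalizing P with
  | _ n ih => ?_
  subst hn
  by_cases hbot : P = ⊥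
  · subst hbot
    have : (QuotientGroup.mk a : X ⧸ centralizer ((⊥ : Subgroup X) : Set X)) = 1 :=
      (QuotientGroup.eq_one_iff a).2 (mem_centralizer_iff.2 fun x hx => by
        rw [(mem_bot.1 hx), one_mul, mul_one])
    rw [this]; exact one_mem _
  haveI : Nontrivial P := (Subgroup.nontrivial_iff_ne_bot P).2 hbot
  set N := (frattini P).map P.subtype with hN
  haveI : N.Normal := inferInstance
  have hlt : N < P := by
    refine lt_of_le_of_ne (map_subtype_le _) fun h => CfsgLib.PGroups.frattini_ne_top (G := P) ?_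
    refine map_injective P.subtype_injective ?_
    rw [← MonoidHom.range_eq_map, range_subtype]
    exact h
  by_contra hna
  refine false_of_bad hp π hπ hst hker hcent P hP N hlt.le (frattini_section_elementary P hP) hq
    (ih _ (CfsgLib.Transfer.card_lt_of_lt hlt) N (hP.to_le hlt.le)
      (le_bot_iff.1 ((commutator_mono (commutator_mono hlt.le le_rfl) le_rfl).trans hq.le)) rfl)
    fun h => hna (mem_pCore_of_frattini P hP N hN h)

/-- stability passes to quotients by `p`-subgroups centralised by the `p'`-elements -/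
theorem nStable_of_central_kernel (hp : p ≠ 2) (π : G →* X) (hπ : Function.Surjective π)
    (hst : Cfsg.IsNormalizerPStable p G) (hker : IsPGroup p π.ker)
    (hcent : ∀ g : G, (orderOf g).Coprime p → g ∈ centralizer (π.ker : Set G)) :
    Cfsg.IsNormalizerPStable p X := by
  intro P hP g hg hq
  set N := normalizer (P : Set X) with hN
  haveI : (P.subgroupOf N).Normal := normal_in_normalizer
  have hC : centralizer ((P.subgroupOf N : Subgroup N) : Set N)
      = (centralizer (P : Set X)).subgroupOf N := by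
    ext x
    rw [mem_centralizer_iff, mem_subgroupOf, mem_centralizer_iff]
    constructor
    · intro h y hy
      exact congrArg Subtype.val (h ⟨y, le_normalizer hy⟩ hy)
    · intro h y hy
      exact Subtype.ext (h y hy)
  have hqa : ⁅⁅P.subgroupOf N, zpowers (⟨g, hg⟩ : N)⁆, zpowers (⟨g, hg⟩ : N)⁆ = ⊥ := by
    refine map_injective N.subtype_injective ?_
    rw [map_commutator, map_commutator, subgroupOf_map_subtype, inf_eq_left.2 le_normalizer,
      MonoidHom.map_zpowers, Subgroup.map_bot, eq_bot_iff, ← hq]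
    exact le_rfl
  have hle : (π.subgroupComap N).ker.map (N.comap π).subtype ≤ π.ker := by
    rintro _ ⟨x, hx, rfl⟩
    exact congrArg Subtype.val hx
  have hk : IsPGroup p (π.subgroupComap N).ker :=
    (hker.comap_of_injective (N.comap π).subtype (Subgroup.subtype_injective _)).to_le
      (map_le_iff_le_comap.1 hle)
  have hmem := mem_pCore_of_central_kernel hp (π.subgroupComap N)
    (π.subgroupComap_surjective_of_surjective N hπ) (nStable_subgroup hst _) hk (fun x hx => by
      refine mem_centralizer_iff.2 fun y hy => Subtype.ext ?_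
      exact mem_centralizer_iff.1 (hcent x.1 (by rwa [Subgroup.orderOf_coe])) y.1
        (hle ⟨y, hy, rfl⟩))
    (P.subgroupOf N) (hP.of_equiv (subgroupOfEquivOfLe le_normalizer).symm) (a := ⟨g, hg⟩) hqa
  rw [← CfsgLib.Core.map_equiv_pCore (p := p) (QuotientGroup.quotientMulEquivOfEq hC)]
  exact ⟨_, hmem, rfl⟩

end CfsgLib.PLocal.SLTwo
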