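import Cfsg.Agent.Lib.PLocal.SLTwo.QuadPair
import Cfsg.Agent.Lib.PGroups.Basic
import Cfsg.Agent.Lib.Core.Cores
import Cfsg.Prelude.Def_PLocal

/-!
# Quadratic elements outside `O_p` in abstract faithful actions, and action stability
-/

set_option autoImplicit false

namespace CfsgLib.PLocal.SLTwo

open Subgroup
open scoped commutatorElement Pointwise IsMulCommutative

/-- no section is `SL(2, p)` -/
def NoSL (p : ℕ) (G : Type*) [Group G] : Prop := ¬ HasSLTwo p (⊤ : Subgroup G)

theorem hasSLTwo_of_map {G H : Type*} [Group G] [Group H] {p : ℕ} (f : G →* H) {X : Subgroup G}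
    {Y : Subgroup H} (hY : Y ≤ X.map f) (h : HasSLTwo p Y) : HasSLTwo p X := by
  obtain ⟨K, π, hK, hπ⟩ := exists_hom_of_hasSLTwo h
  let K0 : Subgroup X := K.comap (f.comp X.subtype)
  let g : K0 →* K := (f.comp X.subtype).subgroupComap K
  have hg : Function.Surjective g := by
    rintro ⟨k, hk⟩
    obtain ⟨x, hx, rfl⟩ := hY (hK hk)
    exact ⟨⟨⟨x, hx⟩, hk⟩, rfl⟩
  exact hasSLTwo_of_hom (π.comp g) (hπ.comp hg)

theorem noSL_subgroup {G : Type*} [Group G] {p : ℕ} (h : NoSL p G) (X : Subgroup G) :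
    NoSL p X := by
  intro hX
  obtain ⟨K, π, -, hπ⟩ := exists_hom_of_hasSLTwo hX
  exact h ((hasSLTwo_of_hom π hπ : HasSLTwo p X).mono le_top)

theorem noSL_of_surjective {G H : Type*} [Group G] [Group H] {p : ℕ} (f : G →* H)
    (hf : Function.Surjective f) (h : NoSL p G) : NoSL p H :=
  fun hH => h (hasSLTwo_of_map f (map_top_of_surjective f hf).ge hH)

/-- Baer–Suzuki, abstract form -/
theorem hasSLTwo_of_rep {H : Type*} [Group H] [Finite H] {p : ℕ} [Fact p.Prime] (hp : p ≠ 2)
    {M : Type*} [AddCommGroup M] [Module (ZMod p) M] [Finite M] (f : H → M →+ M)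
    (h1 : ∀ v, f 1 v = v) (h2 : ∀ x y v, f (x * y) v = f x (f y v))
    (hf : ∀ h, (∀ v, f h v = v) → h = 1) {a : H} (ha : ∀ v, f a (f a v - v) = f a v - v)
    (hna : a ∉ Cfsg.pCore p H) : HasSLTwo p (⊤ : Subgroup H) := by
  classical
  set A : Subgroup H := zpowers a with hA
  by_cases hall : ∀ g : H, IsPGroup p ↥(A ⊔ MulAut.conj g • A)
  · exfalso
    have hsn := (CfsgLib.Core.isSubnormal_of_nilpotent_join fun g => (hall g).isNilpotent).1
    have hAp : IsPGroup p A := (hall 1).to_le le_sup_left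
    exact hna (Components.subnormal_pGroup_le_pCore hsn hAp (mem_zpowers _))
  · push_neg at hall
    obtain ⟨g, hg⟩ := hall
    set b : H := g * a * g⁻¹ with hbdef
    set X : Subgroup H := closure {a, b} with hX
    have haX : a ∈ X := subset_closure (Set.mem_insert _ _)
    have hbX : b ∈ X := subset_closure (Set.mem_insert_of_mem _ (Set.mem_singleton _))
    have hgen : closure ({⟨a, haX⟩, ⟨b, hbX⟩} : Set X) = ⊤ := by
      refine map_injective X.subtype_injective ?_
      rw [MonoidHom.map_closure, Set.image_pair, ← MonoidHom.range_eq_map, X.range_subtype]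
      rfl
    have hb : ∀ v, f b (f b v - v) = f b v - v := by
      intro v
      set w := f g⁻¹ v with hw
      have hv : f g w = v := by rw [hw, ← h2, mul_inv_cancel, h1]
      have hbv : ∀ u, f b (f g u) = f g (f a u) := fun u => by
        rw [← h2, ← h2]
        simp [hbdef, mul_assoc]
      rw [← hv, hbv, ← map_sub, hbv, ha]
    obtain ⟨K0, π, hπ⟩ := exists_surjective_of_pair (H := X) hp hgen (fun x => f x.1) h1
      (fun x y v => h2 x.1 y.1 v) (fun x hx => Subtype.ext (hf x.1 hx)) ha hb (by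
        intro hP
        refine hg ?_
        have h : A ⊔ MulAut.conj g • A = X := by
          rw [hX, Set.insert_eq, Subgroup.closure_union, ← zpowers_eq_closure,
            ← zpowers_eq_closure, hA]
          congr 1
          exact MonoidHom.map_zpowers (MulAut.conj g).toMonoidHom a
        rw [h]; exact hP)
    exact (hasSLTwo_of_hom π hπ).mono le_top

/-- no `SL(2, p)` section gives stability on normal elementary abelian subgroups -/
theorem isPStableOn_of_noSL {G : Type*} [Group G] [Finite G] {p : ℕ} [Fact p.Prime] (hp : p ≠ 2)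
    (h : NoSL p G) (V : Subgroup G) [V.Normal] (hV : Cfsg.IsElementaryAbelian p V) :
    Cfsg.IsPStableOn p V := by
  classical
  intro a hq
  haveI := hV.1
  letI : Module (ZMod p) (Additive V) := AddCommGroup.zmodModule fun x => by
    refine Additive.toMul.injective ?_
    show (Additive.toMul x) ^ p = 1
    exact Subtype.ext (by simpa using hV.2 _ (Additive.toMul x).2)
  set C := centralizer (V : Set G) with hC
  let act : G → V →* V := fun g =>
    { toFun := fun v => ⟨g * v * g⁻¹, ‹V.Normal›.conj_mem v v.2 g⟩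
      map_one' := Subtype.ext (by simp)
      map_mul' := fun v w => Subtype.ext (by simp [mul_assoc]) }
  have hwd : ∀ x y : G, x⁻¹ * y ∈ C → act x = act y := by
    intro x y hxy
    refine MonoidHom.ext fun v => Subtype.ext ?_
    show x * v * x⁻¹ = y * v * y⁻¹
    have := mem_centralizer_iff.1 hxy (v : G) v.2
    calc x * v * x⁻¹ = x * (v * (x⁻¹ * y)) * y⁻¹ := by group
      _ = x * ((x⁻¹ * y) * v) * y⁻¹ := by rw [this]
      _ = y * v * y⁻¹ := by group
  let f : G ⧸ C → Additive V →+ Additive V := fun q =>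
    Quotient.liftOn q (fun g => MonoidHom.toAdditive (act g))
      (fun x y hxy => by rw [hwd x y (QuotientGroup.leftRel_apply.1 hxy)])
  by_contra hna
  refine noSL_of_surjective (QuotientGroup.mk' C) (QuotientGroup.mk'_surjective _) h
    (hasSLTwo_of_rep (M := Additive V) hp f ?_ ?_ ?_ (a := QuotientGroup.mk a) ?_ hna)
  · intro v
    refine Additive.toMul.injective (Subtype.ext ?_)
    show (1 : G) * (Additive.toMul v : V) * (1 : G)⁻¹ = _
    simp
  · rintro ⟨x⟩ ⟨y⟩ v
    refine Additive.toMul.injective (Subtype.ext ?_)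
    show (x * y) * (Additive.toMul v : V) * (x * y)⁻¹ = x * (y * (Additive.toMul v : V) * y⁻¹) * x⁻¹
    group
  · rintro ⟨x⟩ hx
    refine (QuotientGroup.eq_one_iff x).2 ?_
    rw [hC, mem_centralizer_iff_conj]
    intro v hv
    exact congrArg (fun z : Additive V => ((Additive.toMul z : V) : G)) (hx (Additive.ofMul ⟨v, hv⟩))
  · intro v
    refine Additive.toMul.injective (Subtype.ext ?_)
    show a * (a * (Additive.toMul v : V) * a⁻¹ / (Additive.toMul v : V)) * a⁻¹
      = a * (Additive.toMul v : V) * a⁻¹ / (Additive.toMul v : V)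
    rw [div_eq_mul_inv]
    exact quad_fix hq (mem_zpowers a) (mem_zpowers a) (Additive.toMul v).2

/-- no `SL(2, p)` section gives stability of the action on elementary abelian normal sections -/
theorem isPStableOnSection_of_noSL {G : Type*} [Group G] [Finite G] {p : ℕ} [Fact p.Prime]
    (hp : p ≠ 2) (h : NoSL p G) (K N : Subgroup G) [K.Normal] [N.Normal]
    (hV : Cfsg.IsElementaryAbelian p (K.map (QuotientGroup.mk' N))) :
    Cfsg.IsPStableOnSection p K N := by
  classical
  intro a hq
  set π := QuotientGroup.mk' N with hπ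
  set V := K.map π with hVdef
  haveI : V.Normal := Subgroup.Normal.map ‹K.Normal› π (QuotientGroup.mk'_surjective _)
  have hst := isPStableOn_of_noSL hp (noSL_of_surjective π (QuotientGroup.mk'_surjective _) h) V hV
    (π a) (by
      rw [hVdef, ← MonoidHom.map_zpowers, ← map_commutator, ← map_commutator, Subgroup.map_eq_bot_iff,
        QuotientGroup.ker_mk']
      exact hq)
  let ψ : G →* (G ⧸ N) ⧸ centralizer (V : Set (G ⧸ N)) :=
    (QuotientGroup.mk' _).comp π
  have hψ : Function.Surjective ψ :=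
    (QuotientGroup.mk'_surjective _).comp (QuotientGroup.mk'_surjective _)
  have hker : ψ.ker = Cfsg.sectionKernel K N := by
    rw [Cfsg.sectionKernel, ← MonoidHom.comap_ker, QuotientGroup.ker_mk']
  refine ⟨(Cfsg.pCore p _).comap ψ, ?_, ?_, ?_, hst⟩
  · infer_instance
  · rw [← hker]; exact ker_le_comap _ _
  · obtain ⟨k, hk⟩ := IsPGroup.iff_card.1
      (CfsgLib.Core.isPGroup_pCore p ((G ⧸ N) ⧸ centralizer (V : Set (G ⧸ N))))
    refine ⟨k, ?_⟩
    rw [← hker, ← MonoidHom.comap_bot, relIndex_comap, map_comap_eq_self_of_surjective hψ,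
      relIndex_bot_left, hk]

theorem isActionPStable_of_noSL {G : Type*} [Group G] [Finite G] {p : ℕ} [Fact p.Prime]
    (hp : p ≠ 2) (h : NoSL p G) : Cfsg.IsActionPStable p G := by
  classical
  refine ⟨fun V _ hV => isPStableOn_of_noSL hp h V hV, ?_, ?_⟩
  · haveI hN : ((frattini ↥(Cfsg.pCore p G)).map (Cfsg.pCore p G).subtype).Normal :=
      inferInstance
    refine isPStableOnSection_of_noSL hp h _ _ ?_
    obtain ⟨hc, hpow⟩ := CfsgLib.PGroups.frattini_quotient (CfsgLib.Core.isPGroup_pCore p G)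
    refine ⟨le_centralizer_iff_isMulCommutative.1 ?_, ?_⟩
    · rintro _ ⟨x, hx, rfl⟩
      rw [mem_centralizer_iff]
      rintro _ ⟨y, hy, rfl⟩
      rw [← map_mul, ← map_mul]
      refine QuotientGroup.eq.2 ⟨(⟨y, hy⟩ * ⟨x, hx⟩)⁻¹ * (⟨x, hx⟩ * ⟨y, hy⟩), ?_, by simp⟩
      exact QuotientGroup.eq.1 (hc.is_comm.comm (QuotientGroup.mk ⟨y, hy⟩) (QuotientGroup.mk ⟨x, hx⟩))
    · rintro _ ⟨x, hx, rfl⟩
      rw [← map_pow]
      refine (QuotientGroup.eq_one_iff _).2 ⟨(⟨x, hx⟩ : Cfsg.pCore p G) ^ p, ?_, by simp⟩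
      have := hpow (QuotientGroup.mk ⟨x, hx⟩)
      rwa [← QuotientGroup.mk_pow, QuotientGroup.eq_one_iff] at this
  · intro S V _ hV
    refine isPStableOn_of_noSL hp (noSL_subgroup h _) V ?_
    set Z := Cfsg.omegaCenterThompson p ↥(S : Subgroup G) with hZ
    have hZel : Cfsg.IsElementaryAbelian p Z := by
      have hcom : ∀ x ∈ {x : ↥(S : Subgroup G) | x ∈ (Cfsg.thompsonSubgroup p _ ⊓
          centralizer (Cfsg.thompsonSubgroup p ↥(S : Subgroup G) : Set ↥(S : Subgroup G))) ∧ x ^ p = 1},
          ∀ y ∈ {x : ↥(S : Subgroup G) | x ∈ (Cfsg.thompsonSubgroup p _ ⊓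
          centralizer (Cfsg.thompsonSubgroup p ↥(S : Subgroup G) : Set ↥(S : Subgroup G))) ∧ x ^ p = 1},
          x * y = y * x := by
        rintro x ⟨hx, -⟩ y ⟨hy, -⟩
        exact mem_centralizer_iff.1 hy.2 x hx.1
      haveI hmc : IsMulCommutative Z := isMulCommutative_closure hcom
      refine ⟨hmc, fun z hz => ?_⟩
      induction hz using closure_induction with
      | mem x hx => exact hx.2
      | one => simp
      | mul x y hx hy ihx ihy =>
        have : Commute x y :=
          congrArg Subtype.val (hmc.is_comm.comm (⟨x, hx⟩ : Z) ⟨y, hy⟩)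
        rw [this.mul_pow, ihx, ihy, one_mul]
      | inv x _ ihx => rw [inv_pow, ihx, inv_one]
    refine ⟨le_centralizer_iff_isMulCommutative.1 ?_, ?_⟩
    · intro x hx
      rw [mem_centralizer_iff]
      intro y hy
      obtain ⟨u, hu, hux⟩ := hV (mem_map_of_mem _ hx)
      obtain ⟨w, hw, hwy⟩ := hV (mem_map_of_mem _ hy)
      refine Subtype.ext ?_
      show (y : G) * x = x * y
      rw [show (x : G) = (u : G) from hux.symm, show (y : G) = (w : G) from hwy.symm]
      exact congrArg (fun z : Z => ((z : ↥(S : Subgroup G)) : G))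
        (hZel.1.is_comm.comm (⟨w, hw⟩ : Z) ⟨u, hu⟩)
    · intro x hx
      obtain ⟨u, hu, hux⟩ := hV (mem_map_of_mem _ hx)
      refine Subtype.ext ?_
      show (x : G) ^ p = 1
      rw [show (x : G) = (u : G) from hux.symm]
      exact congrArg (fun z : ↥(S : Subgroup G) => (z : G)) (hZel.2 u hu)

theorem noSL_of_abelian_sylow {G : Type*} [Group G] [Finite G] {p : ℕ} [Fact p.Prime] (hp : p ≠ 2)
    (hab : ∀ T : Sylow 2 G, IsMulCommutative T) : NoSL p G := by
  intro h
  haveI : Fact (Nat.Prime 2) := ⟨Nat.prime_two⟩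
  obtain ⟨T⟩ := (inferInstance : Nonempty (Sylow 2 G))
  have hT : IsPGroup 2 ↥((T : Subgroup G).subgroupOf (⊤ : Subgroup G)) :=
    T.isPGroup'.of_equiv (subgroupOfEquivOfLe le_top).symm
  obtain ⟨T', hT'⟩ := hT.exists_le_sylow
  refine h.not_comm_sylow hp T' (le_centralizer_iff_isMulCommutative.1 ?_)
  intro x hx
  rw [mem_centralizer_iff]
  intro y hy
  have hle : IsPGroup 2 ↥((T' : Subgroup (⊤ : Subgroup G)).map (⊤ : Subgroup G).subtype) :=
    T'.isPGroup'.map _
  obtain ⟨T'', hT''⟩ := hle.exists_le_sylow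
  haveI := hab T''
  have h1 := congrArg (fun z : (T'' : Subgroup G) => (z : G)) ((hab T'').is_comm.comm
    ⟨_, hT'' (mem_map_of_mem _ hy)⟩ ⟨_, hT'' (mem_map_of_mem _ hx)⟩)
  exact Subtype.ext h1

theorem noSL_of_pSolvable {G : Type*} [Group G] [Finite G] {p : ℕ} [Fact p.Prime] (hp : 5 ≤ p)
    (hsep : Cfsg.IsPSolvable p G) : NoSL p G := fun h => by
  have := eq_three_of_hasSLTwo (by omega) (isPSolvable_congr Subgroup.topEquiv.symm hsep) h
  omega

end CfsgLib.PLocal.SLTwo
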