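import Cfsg.Agent.Lib.PLocal.PConstrained
import Cfsg.Agent.Lib.Core.Cores
import Cfsg.Prelude.Def_LocalEven

/-!
# Stability in the normalizer form: subgroups and quotients by normal `p'`-subgroups
-/

set_option autoImplicit false

namespace CfsgLib.PLocal.SLTwo

open Subgroup
open scoped commutatorElement

variable {G : Type*} [Group G] {p : ℕ}

/-- `g` lies in a normal subgroup of `N(P)` consisting of `p`-elements modulo `C(P)` -/
def OpMod (p : ℕ) (P : Subgroup G) (g : G) : Prop :=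
  ∃ D : Subgroup G, D ≤ normalizer (P : Set G) ∧
    normalizer (P : Set G) ≤ normalizer (D : Set G) ∧
    (∀ d ∈ D, ∃ k : ℕ, d ^ p ^ k ∈ centralizer (P : Set G)) ∧ g ∈ D

theorem opMod_iff [Finite G] [Fact p.Prime] {P : Subgroup G} {g : G}
    (hg : g ∈ normalizer (P : Set G)) :
    OpMod p P g ↔
      (QuotientGroup.mk (s := (centralizer (P : Set G)).subgroupOf (normalizer (P : Set G)))
          (⟨g, hg⟩ : ↥(normalizer (P : Set G)))) ∈
        Cfsg.pCore p (↥(normalizer (P : Set G)) ⧸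
          (centralizer (P : Set G)).subgroupOf (normalizer (P : Set G))) := by
  set N := normalizer (P : Set G) with hN
  set C := (centralizer (P : Set G)).subgroupOf N with hC
  constructor
  · rintro ⟨D, hDN, hND, hpow, hgD⟩
    haveI : (D.subgroupOf N).Normal := normal_subgroupOf_of_le_normalizer hND
    haveI : ((D.subgroupOf N).map (QuotientGroup.mk' C)).Normal :=
      Subgroup.Normal.map inferInstance _ (QuotientGroup.mk'_surjective _)
    refine CfsgLib.Core.le_pCore ?_ (mem_map_of_mem (QuotientGroup.mk' C)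
      (show (⟨g, hg⟩ : N) ∈ D.subgroupOf N from hgD))
    rintro ⟨_, d, hd, rfl⟩
    obtain ⟨k, hk⟩ := hpow d hd
    exact ⟨k, Subtype.ext ((QuotientGroup.eq_one_iff _).2 (show (d : G) ^ p ^ k ∈ _ from hk))⟩
  · intro h
    haveI := CfsgLib.Core.normal_pCore p (N ⧸ C)
    refine ⟨((Cfsg.pCore p (N ⧸ C)).comap (QuotientGroup.mk' C)).map N.subtype,
      map_subtype_le _, ?_, ?_, ⟨⟨g, hg⟩, h, rfl⟩⟩
    · intro x hx
      refine mem_normalizer_iff.2 fun y => ⟨?_, ?_⟩
      · rintro ⟨d, hd, rfl⟩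
        exact ⟨⟨x, hx⟩ * d * ⟨x, hx⟩⁻¹,
          (inferInstance : ((Cfsg.pCore p (N ⧸ C)).comap (QuotientGroup.mk' C)).Normal).conj_mem d hd _,
          rfl⟩
      · rintro ⟨d, hd, e⟩
        refine ⟨⟨x, hx⟩⁻¹ * d * ⟨x, hx⟩, ?_, ?_⟩
        · have := (inferInstance : ((Cfsg.pCore p (N ⧸ C)).comap
            (QuotientGroup.mk' C)).Normal).conj_mem d hd (⟨x, hx⟩ : N)⁻¹
          simpa using this
        · show x⁻¹ * (d : G) * x = y
          rw [show (d : G) = x * y * x⁻¹ from e]
          group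
    · rintro _ ⟨d, hd, rfl⟩
      obtain ⟨k, hk⟩ := CfsgLib.Core.isPGroup_pCore p (N ⧸ C) ⟨_, hd⟩
      have h1 : (QuotientGroup.mk' C) (d ^ p ^ k) = 1 := by
        rw [map_pow]; exact congrArg Subtype.val hk
      exact ⟨k, show (d : G) ^ p ^ k ∈ centralizer _ from (QuotientGroup.eq_one_iff (d ^ p ^ k)).1 h1⟩

theorem isNormalizerPStable_iff [Finite G] [Fact p.Prime] :
    Cfsg.IsNormalizerPStable p G ↔ ∀ P : Subgroup G, IsPGroup p P →
      ∀ g ∈ normalizer (P : Set G), ⁅⁅P, zpowers g⁆, zpowers g⁆ = ⊥ → OpMod p P g :=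
  ⟨fun h P hP g hg hq => (opMod_iff hg).2 (h P hP g hg hq),
    fun h P hP g hg hq => (opMod_iff hg).1 (h P hP g hg hq)⟩

/-- stability passes to subgroups -/
theorem nStable_subgroup [Finite G] [Fact p.Prime] (h : Cfsg.IsNormalizerPStable p G)
    (X : Subgroup G) : Cfsg.IsNormalizerPStable p X := by
  refine isNormalizerPStable_iff.2 fun P hP g hg hq => ?_
  have hgN : (g : G) ∈ normalizer ((P.map X.subtype : Subgroup G) : Set G) :=
    le_normalizer_map X.subtype ⟨g, hg, rfl⟩
  have hq' : ⁅⁅P.map X.subtype, zpowers (g : G)⁆, zpowers (g : G)⁆ = ⊥ := by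
    rw [show (g : G) = X.subtype g from rfl, ← MonoidHom.map_zpowers, ← map_commutator,
      ← map_commutator, hq, Subgroup.map_bot]
  obtain ⟨D, -, hND, hpow, hgD⟩ := isNormalizerPStable_iff.1 h _ (hP.map _) _ hgN hq'
  refine ⟨D.comap X.subtype ⊓ normalizer (P : Set X), inf_le_right, ?_, ?_, hgD, hg⟩
  · refine le_trans (le_inf ?_ le_normalizer) inf_normalizer_le_normalizer_inf
    exact ((map_le_iff_le_comap.1 ((le_normalizer_map X.subtype).trans hND)).trans
      (le_normalizer_comap X.subtype))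
  · rintro d ⟨hd, -⟩
    obtain ⟨k, hk⟩ := hpow _ hd
    refine ⟨k, mem_centralizer_iff.2 fun x hx => Subtype.ext ?_⟩
    exact mem_centralizer_iff.1 hk (x : G) ⟨x, hx, rfl⟩

theorem commutator_le_left_of_normalizes {Q A : Subgroup G}
    (h : A ≤ normalizer (Q : Set G)) : ⁅Q, A⁆ ≤ Q := by
  refine commutator_le.2 fun x hx a ha => ?_
  rw [commutatorElement_def, mul_assoc, mul_assoc, ← mul_assoc a]
  exact mul_mem hx ((mem_normalizer_iff.1 (h ha) _).1 (inv_mem hx))

/-- stability passes to quotients by normal `p'`-subgroups -/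
theorem nStable_quotient_coprime [Finite G] [Fact p.Prime] (h : Cfsg.IsNormalizerPStable p G)
    (N : Subgroup G) [N.Normal] (hN : (Nat.card N).Coprime p) :
    Cfsg.IsNormalizerPStable p (G ⧸ N) := by
  set π := QuotientGroup.mk' N with hπ
  refine isNormalizerPStable_iff.2 fun P hP g hg hq => ?_
  obtain ⟨S⟩ : Nonempty (Sylow p ↥(P.comap π)) := inferInstance
  set Q := (S : Subgroup ↥(P.comap π)).map (P.comap π).subtype with hQ
  have hQp : IsPGroup p Q := S.isPGroup'.map _
  have hQP : Q.map π = P := by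
    have h1 : ((S.mapSurjective (f := π.subgroupComap P)
        (π.subgroupComap_surjective_of_surjective P (QuotientGroup.mk'_surjective N))) :
        Subgroup P) = ⊤ := by
      exact ((Sylow.mapSurjective _ S).is_maximal' (hP.to_subgroup ⊤) le_top).symm
    rw [Sylow.coe_mapSurjective] at h1
    have h2 := congrArg (Subgroup.map P.subtype) h1
    rw [← MonoidHom.range_eq_map, range_subtype, Subgroup.map_map] at h2
    rw [hQ, Subgroup.map_map]
    exact h2
  rw [← hQP, hπ, ← CfsgLib.PLocal.map_normalizer_eq N hN hQp] at hg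
  obtain ⟨g0, hg0, rfl⟩ := hg
  have hdisj : Q ⊓ N = ⊥ := by
    obtain ⟨k, hk⟩ := IsPGroup.iff_card.1 hQp
    refine disjoint_iff.1 (disjoint_of_coprime_natCard ?_)
    rw [hk]
    exact hN.symm.pow_left k
  have hq' : ⁅⁅Q, zpowers g0⁆, zpowers g0⁆ = ⊥ := by
    have hle : ⁅⁅Q, zpowers g0⁆, zpowers g0⁆ ≤ Q := by
      have h1 : zpowers g0 ≤ normalizer (Q : Set G) := zpowers_le.2 hg0
      exact (commutator_mono (commutator_le_left_of_normalizes h1) le_rfl).trans
        (commutator_le_left_of_normalizes h1)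
    rw [← le_bot_iff, ← hdisj]
    refine le_inf hle ?_
    rw [← QuotientGroup.ker_mk' N, ← Subgroup.map_eq_bot_iff, map_commutator, map_commutator,
      MonoidHom.map_zpowers, ← hπ, hQP]
    exact hq
  obtain ⟨D, hDN, hND, hpow, hgD⟩ := isNormalizerPStable_iff.1 h Q hQp g0 hg0 hq'
  refine ⟨D.map π, ?_, ?_, ?_, ⟨g0, hgD, rfl⟩⟩
  · rw [← hQP]; exact (Subgroup.map_mono hDN).trans (le_normalizer_map π)
  · rw [← hQP, hπ, ← CfsgLib.PLocal.map_normalizer_eq N hN hQp]
    exact (Subgroup.map_mono hND).trans (le_normalizer_map _)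
  · rintro _ ⟨d, hd, rfl⟩
    obtain ⟨k, hk⟩ := hpow d hd
    refine ⟨k, ?_⟩
    rw [← hQP, hπ, ← CfsgLib.PLocal.map_centralizer_eq N hN hQp, ← map_pow]
    exact mem_map_of_mem _ hk

end CfsgLib.PLocal.SLTwo
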