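import Cfsg.Agent.Lib.PLocal.SLTwo.PStableCrit
import Cfsg.Agent.Lib.PLocal.SLTwo.NStable

/-!
# Stability from `SL(2, p)`-free automizers
-/

set_option autoImplicit false

namespace CfsgLib.PLocal.SLTwo

open Subgroup
open scoped commutatorElement Pointwise IsMulCommutative

/-- no `SL(2, p)` section gives stability on normal elementary abelian subgroups -/
theorem isPStableOn_of_quotNoSL {G : Type*} [Group G] [Finite G] {p : ℕ} [Fact p.Prime] (hp : p ≠ 2)
    (V : Subgroup G) [V.Normal]
    (h : NoSL p (G ⧸ centralizer (V : Set G))) (hV : Cfsg.IsElementaryAbelian p V) :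
    Cfsg.IsPStableOn p V := by
  classical
  intro a hq
  haveI := hV.1
  letI : Module (ZMod p) (Additive V) := AddCommGroup.zmodModule fun x => by
    refine Additive.toMul.injective ?_
    show (Additive.toMul x) ^ p = 1
    exact Subtype.ext (by simpa using hV.2 _ (Additive.toMul x).2)
  set C := centralizer (V : Set G) with hC
  let act : G → V →* V := fun g =>
    { toFun := fun v => ⟨g * v * g⁻¹, ‹V.Normal›.conj_mem v v.2 g⟩
      map_one' := Subtype.ext (by simp)
      map_mul' := fun v w => Subtype.ext (by simp [mul_assoc]) }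
  have hwd : ∀ x y : G, x⁻¹ * y ∈ C → act x = act y := by
    intro x y hxy
    refine MonoidHom.ext fun v => Subtype.ext ?_
    show x * v * x⁻¹ = y * v * y⁻¹
    have := mem_centralizer_iff.1 hxy (v : G) v.2
    calc x * v * x⁻¹ = x * (v * (x⁻¹ * y)) * y⁻¹ := by group
      _ = x * ((x⁻¹ * y) * v) * y⁻¹ := by rw [this]
      _ = y * v * y⁻¹ := by group
  let f : G ⧸ C → Additive V →+ Additive V := fun q =>
    Quotient.liftOn q (fun g => MonoidHom.toAdditive (act g))
      (fun x y hxy => by rw [hwd x y (QuotientGroup.leftRel_apply.1 hxy)])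
  by_contra hna
  refine h
    (hasSLTwo_of_rep (M := Additive V) hp f ?_ ?_ ?_ (a := QuotientGroup.mk a) ?_ hna)
  · intro v
    refine Additive.toMul.injective (Subtype.ext ?_)
    show (1 : G) * (Additive.toMul v : V) * (1 : G)⁻¹ = _
    simp
  · rintro ⟨x⟩ ⟨y⟩ v
    refine Additive.toMul.injective (Subtype.ext ?_)
    show (x * y) * (Additive.toMul v : V) * (x * y)⁻¹ = x * (y * (Additive.toMul v : V) * y⁻¹) * x⁻¹
    group
  · rintro ⟨x⟩ hx
    refine (QuotientGroup.eq_one_iff x).2 ?_
    rw [mem_centralizer_iff_conj]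
    intro v hv
    exact congrArg (fun z : Additive V => ((Additive.toMul z : V) : G)) (hx (Additive.ofMul ⟨v, hv⟩))
  · intro v
    refine Additive.toMul.injective (Subtype.ext ?_)
    show a * (a * (Additive.toMul v : V) * a⁻¹ / (Additive.toMul v : V)) * a⁻¹
      = a * (Additive.toMul v : V) * a⁻¹ / (Additive.toMul v : V)
    rw [div_eq_mul_inv]
    exact quad_fix hq (mem_zpowers a) (mem_zpowers a) (Additive.toMul v).2

/-- no `SL(2, p)` section gives stability of the action on elementary abelian normal sections -/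
theorem isPStableOnSection_of_quotNoSL {G : Type*} [Group G] [Finite G] {p : ℕ} [Fact p.Prime]
    (hp : p ≠ 2) (K N : Subgroup G) [K.Normal] [N.Normal]
    (h : NoSL p (G ⧸ centralizer (K : Set G)))
    (hV : Cfsg.IsElementaryAbelian p (K.map (QuotientGroup.mk' N))) :
    Cfsg.IsPStableOnSection p K N := by
  classical
  intro a hq
  set π := QuotientGroup.mk' N with hπ
  set V := K.map π with hVdef
  haveI : V.Normal := Subgroup.Normal.map ‹K.Normal› π (QuotientGroup.mk'_surjective _)
  have hker0 : centralizer (K : Set G) ≤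
      ((QuotientGroup.mk' (centralizer (V : Set (G ⧸ N)))).comp π).ker := by
    intro x hx
    refine (QuotientGroup.eq_one_iff _).2 (mem_centralizer_iff.2 ?_)
    rintro _ ⟨k, hk, rfl⟩
    rw [← map_mul, ← map_mul, mem_centralizer_iff.1 hx k hk]
  have hV' : NoSL p ((G ⧸ N) ⧸ centralizer (V : Set (G ⧸ N))) :=
    noSL_of_surjective (QuotientGroup.lift _ _ hker0) (fun y => by
      obtain ⟨x, hx⟩ := ((QuotientGroup.mk'_surjective (centralizer (V : Set (G ⧸ N)))).comp
        (QuotientGroup.mk'_surjective N)) y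
      exact ⟨QuotientGroup.mk x, hx⟩) h
  have hst := isPStableOn_of_quotNoSL hp V hV' hV
    (π a) (by
      rw [hVdef, ← MonoidHom.map_zpowers, ← map_commutator, ← map_commutator, Subgroup.map_eq_bot_iff,
        QuotientGroup.ker_mk']
      exact hq)
  let ψ : G →* (G ⧸ N) ⧸ centralizer (V : Set (G ⧸ N)) :=
    (QuotientGroup.mk' _).comp π
  have hψ : Function.Surjective ψ :=
    (QuotientGroup.mk'_surjective _).comp (QuotientGroup.mk'_surjective _)
  have hker : ψ.ker = Cfsg.sectionKernel K N := by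
    rw [Cfsg.sectionKernel, ← MonoidHom.comap_ker, QuotientGroup.ker_mk']
  refine ⟨(Cfsg.pCore p _).comap ψ, ?_, ?_, ?_, hst⟩
  · infer_instance
  · rw [← hker]; exact ker_le_comap _ _
  · obtain ⟨k, hk⟩ := IsPGroup.iff_card.1
      (CfsgLib.Core.isPGroup_pCore p ((G ⧸ N) ⧸ centralizer (V : Set (G ⧸ N))))
    refine ⟨k, ?_⟩
    rw [← hker, ← MonoidHom.comap_bot, relIndex_comap, map_comap_eq_self_of_surjective hψ,
      relIndex_bot_left, hk]

/-- a quadratic element on a normal `p`-subgroup lies in `O_p` modulo its centraliser -/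
theorem mem_pCore_of_quotNoSL {G : Type*} [Group G] [Finite G] {p : ℕ} [Fact p.Prime] (hp : p ≠ 2)
    (P : Subgroup G) [P.Normal] (h : NoSL p (G ⧸ centralizer (P : Set G)))
    (hP : IsPGroup p P) {a : G} (hq : ⁅⁅P, zpowers a⁆, zpowers a⁆ = ⊥) :
    (QuotientGroup.mk a : G ⧸ centralizer (P : Set G))
      ∈ Cfsg.pCore p (G ⧸ centralizer (P : Set G)) := by
  classical
  set N := (frattini P).map P.subtype with hN
  haveI : N.Normal := inferInstance
  obtain ⟨D, hDn, hle, ⟨k, hk⟩, haD⟩ :=
    isPStableOnSection_of_quotNoSL hp P N h (frattini_section_elementary P hP) a (hq.le.trans bot_le)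
  haveI := hDn
  have hpow : ∀ d ∈ D, ∃ j, d ^ p ^ j ∈ centralizer (P : Set G) := by
    intro d hd
    haveI : (Cfsg.sectionKernel P N).Normal := by
      rw [Cfsg.sectionKernel]
      haveI : (P.map (QuotientGroup.mk' N)).Normal :=
        Subgroup.Normal.map ‹P.Normal› _ (QuotientGroup.mk'_surjective _)
      infer_instance
    set z := d ^ p ^ k with hz
    have hzK : z ∈ Cfsg.sectionKernel P N := by
      have h1 := pow_index_mem ((Cfsg.sectionKernel P N).subgroupOf D) (⟨d, hd⟩ : D)
      rw [← relIndex, hk] at h1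
      simpa [mem_subgroupOf, hz] using h1
    obtain ⟨e, m, hm, hem⟩ := Nat.exists_eq_pow_mul_and_not_dvd (orderOf_pos z).ne' p
      (Fact.out : p.Prime).ne_one
    refine ⟨k + e, ?_⟩
    rw [pow_add, pow_mul, ← hz]
    set y := z ^ p ^ e with hy
    have hyo : orderOf y = m := by
      rw [hy, orderOf_pow_of_dvd (pow_ne_zero _ (Fact.out : p.Prime).ne_zero) ⟨m, hem⟩, hem,
        Nat.mul_div_cancel_left _ (pow_pos (Fact.out : p.Prime).pos _)]
    have hyK : y ∈ Cfsg.sectionKernel P N := pow_mem hzK _
    have hcop : (Nat.card (zpowers y)).Coprime (Nat.card (frattini P)) := by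
      obtain ⟨j, hj⟩ := IsPGroup.iff_card.1 (hP.to_subgroup (frattini P))
      rw [Nat.card_zpowers, hyo, hj]
      exact (((Fact.out : p.Prime).coprime_iff_not_dvd.2 hm).symm).pow_right j
    have hA : zpowers y ≤ normalizer (P : Set G) := by
      rw [normalizer_eq_top]; exact le_top
    have := CfsgLib.Core.centralizes_of_centralizes_frattini_quotient hA hcop (by
      intro b hb x hx
      have hbK : b ∈ Cfsg.sectionKernel P N := (zpowers_le.2 hyK) hb
      have hc := mem_centralizer_iff.1 (mem_comap.1 hbK) _ (mem_map_of_mem (QuotientGroup.mk' N) hx)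
      rw [← QuotientGroup.eq_one_iff]
      show (QuotientGroup.mk' N) (b * x * b⁻¹ * x⁻¹) = 1
      rw [map_mul, map_mul, map_mul, map_inv, map_inv, ← hc, mul_inv_cancel_right, mul_inv_cancel])
    rw [mem_centralizer_iff]
    intro x hx
    exact mem_centralizer_iff.1 (this (mem_zpowers y)) x hx
  have hDq : IsPGroup p (D.map (QuotientGroup.mk' (centralizer (P : Set G)))) := by
    rintro ⟨_, d, hd, rfl⟩
    obtain ⟨j, hj⟩ := hpow d hd
    exact ⟨j, Subtype.ext ((QuotientGroup.eq_one_iff _).2 hj)⟩
  haveI : (D.map (QuotientGroup.mk' (centralizer (P : Set G)))).Normal :=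
    Subgroup.Normal.map hDn _ (QuotientGroup.mk'_surjective _)
  exact CfsgLib.Core.le_pCore hDq (mem_map_of_mem _ haD)

/-- no `SL(2, p)` section in any automizer gives normalizer stability -/
theorem nStable_of_automizerNoSL {G : Type*} [Group G] [Finite G] {p : ℕ} [Fact p.Prime] (hp : p ≠ 2)
    (hfree : ∀ Q : Subgroup G, IsPGroup p ↥Q → ¬ ∃ (H K : Subgroup G) (_ : (K.subgroupOf H).Normal),
      Subgroup.centralizer (Q : Set G) ≤ K ∧ K ≤ H ∧ H ≤ Subgroup.normalizer (Q : Set G) ∧
      Nonempty ((↥H ⧸ K.subgroupOf H) ≃* Matrix.SpecialLinearGroup (Fin 2) (ZMod p))) :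
    Cfsg.IsNormalizerPStable p G := by
  intro P hP g hg hq
  set N := normalizer (P : Set G) with hN
  haveI : (P.subgroupOf N).Normal := normal_in_normalizer
  have hC : centralizer ((P.subgroupOf N : Subgroup N) : Set N)
      = (centralizer (P : Set G)).subgroupOf N := by
    ext x
    rw [mem_centralizer_iff, mem_subgroupOf, mem_centralizer_iff]
    constructor
    · intro h y hy
      exact congrArg Subtype.val (h ⟨y, le_normalizer hy⟩ hy)
    · intro h y hy
      exact Subtype.ext (h y hy)
  have hno : NoSL p (N ⧸ centralizer ((P.subgroupOf N : Subgroup N) : Set N)) := by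
    intro hSL
    obtain ⟨X, π, -, hπ⟩ := exists_hom_of_hasSLTwo hSL
    set q := QuotientGroup.mk' (centralizer ((P.subgroupOf N : Subgroup N) : Set N)) with hqdef
    let f : X.comap q →* Matrix.SpecialLinearGroup (Fin 2) (ZMod p) := π.comp (q.subgroupComap X)
    have hf : Function.Surjective f :=
      hπ.comp (q.subgroupComap_surjective_of_surjective X (QuotientGroup.mk'_surjective _))
    let e := equivMapOfInjective (X.comap q) N.subtype N.subtype_injective
    let φ : ↥((X.comap q).map N.subtype) →* Matrix.SpecialLinearGroup (Fin 2) (ZMod p) :=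
      f.comp e.symm.toMonoidHom
    have hsub : (φ.ker.map ((X.comap q).map N.subtype).subtype).subgroupOf
        ((X.comap q).map N.subtype) = φ.ker :=
      comap_map_eq_self_of_injective (subtype_injective _) _
    have hn : ((φ.ker.map ((X.comap q).map N.subtype).subtype).subgroupOf
        ((X.comap q).map N.subtype)).Normal := by rw [hsub]; infer_instance
    refine hfree P hP ⟨_, _, hn, ?_, map_subtype_le _, map_subtype_le _,
      ⟨(QuotientGroup.quotientMulEquivOfEq hsub).trans
        (QuotientGroup.quotientKerEquivOfSurjective φ (hf.comp e.symm.surjective))⟩⟩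
    intro c hc
    have hcN : c ∈ N := centralizer_le_normalizer _ hc
    have hq1 : q ⟨c, hcN⟩ = 1 := (QuotientGroup.eq_one_iff _).2 (by rw [hC]; exact hc)
    have hcX : (⟨c, hcN⟩ : N) ∈ X.comap q := by
      rw [mem_comap, hq1]; exact one_mem _
    refine ⟨e ⟨⟨c, hcN⟩, hcX⟩, ?_, rfl⟩
    show f (e.symm (e ⟨⟨c, hcN⟩, hcX⟩)) = 1
    rw [e.symm_apply_apply]
    show π ⟨q ⟨c, hcN⟩, _⟩ = 1
    have : (q.subgroupComap X ⟨⟨c, hcN⟩, hcX⟩) = 1 := Subtype.ext hq1
    exact (congrArg π this).trans (map_one π)
  have hqa : ⁅⁅P.subgroupOf N, zpowers (⟨g, hg⟩ : N)⁆, zpowers (⟨g, hg⟩ : N)⁆ = ⊥ := by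
    refine map_injective N.subtype_injective ?_
    rw [map_commutator, map_commutator, subgroupOf_map_subtype, inf_eq_left.2 le_normalizer,
      MonoidHom.map_zpowers, Subgroup.map_bot]
    exact hq
  have hmem := mem_pCore_of_quotNoSL hp (P.subgroupOf N) hno
    (hP.of_equiv (subgroupOfEquivOfLe le_normalizer).symm) (a := ⟨g, hg⟩) hqa
  rw [← CfsgLib.Core.map_equiv_pCore (p := p) (QuotientGroup.quotientMulEquivOfEq hC)]
  exact ⟨_, hmem, rfl⟩

end CfsgLib.PLocal.SLTwo
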