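import Cfsg.Agent.Lib.PLocal.SLTwo.QdFree
import Cfsg.Agent.Lib.PLocal.PStable
import Cfsg.Agent.S3074

/-!
# `Qd(p)` itself
-/

set_option autoImplicit false

namespace CfsgLib.PLocal.SLTwo

open Subgroup
open scoped commutatorElement

variable {p : ℕ} [Fact p.Prime]

theorem affFun_mem (x : S2 (ZMod p)) (w : Fin 2 → ZMod p) : affFun x w ∈ Cfsg.qd p :=
  subset_closure ⟨rfl, rfl, rfl⟩

/-- an element of `Qd(p)` -/
def aff (x : S2 (ZMod p)) (w : Fin 2 → ZMod p) : ↥(Cfsg.qd p) := ⟨affFun x w, affFun_mem x w⟩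

theorem aff_mul (x y : S2 (ZMod p)) (v w : Fin 2 → ZMod p) :
    aff x v * aff y w = aff (x * y) (v + Matrix.mulVec x.1 w) :=
  Subtype.ext (affFun_mul x y v w).symm

theorem aff_one : aff (1 : S2 (ZMod p)) 0 = 1 := by
  refine Subtype.ext (Subtype.ext ?_)
  ext i j
  fin_cases i <;> fin_cases j <;> simp [aff, affFun]

theorem aff_inv (x : S2 (ZMod p)) (v : Fin 2 → ZMod p) :
    (aff x v)⁻¹ = aff x⁻¹ (-(Matrix.mulVec (x⁻¹).1 v)) := by
  refine inv_eq_of_mul_eq_one_right ?_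
  rw [aff_mul, mul_inv_cancel, Matrix.mulVec_neg, Matrix.mulVec_mulVec,
    ← Matrix.SpecialLinearGroup.coe_mul, mul_inv_cancel, Matrix.SpecialLinearGroup.coe_one,
    Matrix.one_mulVec, add_neg_cancel, aff_one]

theorem aff_injective {x y : S2 (ZMod p)} {v w : Fin 2 → ZMod p} (h : aff x v = aff y w) :
    x = y ∧ v = w := by
  have h' := congrArg (fun z : ↥(Cfsg.qd p) =>
    ((z : Matrix.SpecialLinearGroup (Fin 3) (ZMod p)) : Matrix (Fin 3) (Fin 3) (ZMod p))) h
  refine ⟨ext2 ?_ ?_ ?_ ?_, funext fun i => ?_⟩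
  · simpa [aff, affFun] using congrFun (congrFun h' 0) 0
  · simpa [aff, affFun] using congrFun (congrFun h' 0) 1
  · simpa [aff, affFun] using congrFun (congrFun h' 1) 0
  · simpa [aff, affFun] using congrFun (congrFun h' 1) 1
  · fin_cases i
    · simpa [aff, affFun] using congrFun (congrFun h' 0) 2
    · simpa [aff, affFun] using congrFun (congrFun h' 1) 2

theorem aff_surjective (z : ↥(Cfsg.qd p)) : ∃ x w, z = aff x w := by
  obtain ⟨M, hM⟩ := z
  induction hM using closure_induction with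
  | mem M hM =>
    obtain ⟨h20, h21, h22⟩ := hM
    have hdet : M.1 0 0 * M.1 1 1 - M.1 0 1 * M.1 1 0 = 1 := by
      have := M.2
      rw [Matrix.det_fin_three, h20, h21, h22] at this
      linear_combination this
    refine ⟨⟨!![M.1 0 0, M.1 0 1; M.1 1 0, M.1 1 1], by rw [Matrix.det_fin_two_of]; exact hdet⟩,
      ![M.1 0 2, M.1 1 2], Subtype.ext (Subtype.ext ?_)⟩
    ext i j
    fin_cases i <;> fin_cases j <;> simp [aff, affFun, h20, h21, h22]
  | one => exact ⟨1, 0, by rw [aff_one]; rfl⟩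
  | mul a b ha hb iha ihb =>
    obtain ⟨x, v, hx⟩ := iha
    obtain ⟨y, w, hy⟩ := ihb
    refine ⟨x * y, v + Matrix.mulVec x.1 w, ?_⟩
    rw [← aff_mul, ← hx, ← hy]
    rfl
  | inv a ha iha =>
    obtain ⟨x, v, hx⟩ := iha
    refine ⟨x⁻¹, -(Matrix.mulVec (x⁻¹).1 v), ?_⟩
    rw [← aff_inv, ← hx]
    rfl

/-- the translation subgroup -/
def translations (p : ℕ) [Fact p.Prime] : Subgroup ↥(Cfsg.qd p) where
  carrier := Set.range fun w => aff (1 : S2 (ZMod p)) w
  one_mem' := ⟨0, aff_one⟩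
  mul_mem' := by
    rintro _ _ ⟨v, rfl⟩ ⟨w, rfl⟩
    exact ⟨v + w, by rw [aff_mul]; simp⟩
  inv_mem' := by
    rintro _ ⟨v, rfl⟩
    exact ⟨-v, by simp [aff_inv]⟩

theorem conj_translation (x : S2 (ZMod p)) (v w : Fin 2 → ZMod p) :
    aff x v * aff 1 w * (aff x v)⁻¹ = aff 1 (Matrix.mulVec x.1 w) := by
  rw [mul_inv_eq_iff_eq_mul, aff_mul, aff_mul, mul_one, one_mul,
    Matrix.SpecialLinearGroup.coe_one, Matrix.one_mulVec, add_comm]

instance translations_normal : (translations p).Normal := by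
  refine ⟨?_⟩
  rintro _ ⟨w, rfl⟩ g
  obtain ⟨x, v, rfl⟩ := aff_surjective g
  exact ⟨_, (conj_translation x v w).symm⟩

theorem translations_isPGroup : IsPGroup p (translations p) := by
  rintro ⟨_, w, rfl⟩
  refine ⟨1, Subtype.ext ?_⟩
  show (aff (1 : S2 (ZMod p)) w) ^ p ^ 1 = 1
  have key : ∀ n : ℕ, (aff (1 : S2 (ZMod p)) w) ^ n = aff 1 (n • w) := by
    intro n
    induction n with
    | zero => simp [aff_one]
    | succ n ih => rw [pow_succ, ih, aff_mul, succ_nsmul]; simp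
  rw [key, pow_one]
  have : p • w = 0 := by funext i; simp
  rw [this, aff_one]

theorem card_translations : Nat.card (translations p) = p ^ 2 := by
  let f : (Fin 2 → ZMod p) → translations p := fun w => ⟨aff 1 w, w, rfl⟩
  have hf : Function.Bijective f :=
    ⟨fun v w h => (aff_injective (congrArg Subtype.val h)).2, fun ⟨_, w, hw⟩ => ⟨w, Subtype.ext hw⟩⟩
  rw [← Nat.card_congr (Equiv.ofBijective f hf), Nat.card_fun, Nat.card_zmod]
  simp

theorem SL_pCore_not_mem (hp : p ≠ 2) {N : Subgroup (S2 (ZMod p))} [N.Normal] (hN : IsPGroup p N) :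
    (U 1 : S2 (ZMod p)) ∉ N := by
  intro h
  obtain ⟨i, j, hi, -, -, -⟩ := exists_quaternion (p := p) hp
  let w : S2 (ZMod p) := ⟨!![0, 1; -1, 0], by simp [Matrix.det_fin_two_of]⟩
  have w00 : w.1 0 0 = 0 := rfl
  have w01 : w.1 0 1 = 1 := rfl
  have w10 : w.1 1 0 = -1 := rfl
  have w11 : w.1 1 1 = 0 := rfl
  have hLo : (Lo 1 : S2 (ZMod p)) ∈ N := by
    have := ‹N.Normal›.conj_mem _ (N.inv_mem h) w
    convert this using 1
    refine ext2 ?_ ?_ ?_ ?_ <;>
      simp [m00, m01, m10, m11, i00, i01, i10, i11, U_inv, w00, w01, w10, w11]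
  have htop : N = ⊤ := by
    refine eq_top_iff.2 (closure_U_Lo p ▸ (closure_le _).2 ?_)
    rintro y (rfl | rfl)
    exacts [h, hLo]
  obtain ⟨k, hk⟩ := hN ⟨i, htop ▸ mem_top i⟩
  have hk' : i ^ p ^ k = 1 := congrArg Subtype.val hk
  have h4 : i ^ 4 = 1 := by rw [show 4 = 2 * 2 from rfl, pow_mul, hi]; simp
  have hi1 : orderOf i = 1 := by
    refine Nat.eq_one_of_dvd_coprimes ?_ (orderOf_dvd_of_pow_eq_one hk') (orderOf_dvd_of_pow_eq_one h4)
    refine Nat.Coprime.pow_left k ?_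
    rw [show 4 = 2 ^ 2 from rfl]
    exact ((Nat.coprime_primes Fact.out Nat.prime_two).2 hp).pow_right 2
  rw [orderOf_eq_one_iff.1 hi1] at hi
  have := congrArg (fun z : S2 (ZMod p) => z.1 0 0) hi
  simp at this
  have h2 : (2 : ZMod p) = 0 := by linear_combination this
  exact hp ((Nat.prime_dvd_prime_iff_eq Fact.out Nat.prime_two).1
    ((ZMod.natCast_eq_zero_iff 2 p).1 (by simpa using h2)))

/-- `Qd(p)` is not stable -/
theorem not_isNormalizerPStable_of_equiv (hp : p ≠ 2) {X : Type*} [Group X]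
    (e : ↥(Cfsg.qd p) ≃* X) : ¬ Cfsg.IsNormalizerPStable p X := by
  intro hst
  set P := (translations p).map e.toMonoidHom with hP
  haveI : P.Normal := Subgroup.Normal.map translations_normal _ e.surjective
  set g := e (aff (U 1) 0) with hg
  have hgN : g ∈ normalizer (P : Set X) := by rw [normalizer_eq_top]; trivial
  have hq : ⁅⁅P, zpowers g⁆, zpowers g⁆ = ⊥ := by
    have h0 : ⁅⁅translations p, zpowers (aff (U 1 : S2 (ZMod p)) 0)⁆,
        zpowers (aff (U 1 : S2 (ZMod p)) 0)⁆ = ⊥ := by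
      rw [commutator_eq_bot_iff_le_centralizer]
      refine commutator_le.2 fun t ht y hy => ?_
      obtain ⟨w, rfl⟩ := ht
      rw [zpowers_eq_closure, centralizer_closure, mem_centralizer_singleton_iff]
      obtain ⟨k, rfl⟩ := mem_zpowers_iff.1 hy
      have hpow : ∀ n : ℕ, (aff (U 1 : S2 (ZMod p)) 0) ^ n = aff (U (n : ZMod p)) 0 := by
        intro n
        induction n with
        | zero => simp [aff_one, U_zero]
        | succ n ih => rw [pow_succ, ih, aff_mul, U_mul]; simp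
      obtain ⟨n, hn⟩ : ∃ n : ℕ, (aff (U 1 : S2 (ZMod p)) 0) ^ k = (aff (U 1 : S2 (ZMod p)) 0) ^ n :=
        ⟨(k % orderOf (aff (U 1 : S2 (ZMod p)) 0)).toNat, by
          rw [← zpow_natCast, Int.toNat_of_nonneg (Int.emod_nonneg _ (Int.natCast_ne_zero.2
            (orderOf_pos _).ne')), zpow_mod_orderOf]⟩
      rw [hn, hpow, commutatorElement_def, aff_inv, aff_inv, aff_mul, aff_mul, aff_mul, aff_mul,
        aff_mul]
      congr 1
      · simp [U_mul, U_inv, add_comm]
      · funext i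
        fin_cases i <;>
          simp [Matrix.mulVec, Matrix.vecHead, Matrix.vecTail, dotProduct, Fin.sum_univ_two, m00, m01, m10, m11, U_inv] <;> ring
    rw [hP, hg, ← MulEquiv.coe_toMonoidHom, ← MonoidHom.map_zpowers, ← map_commutator,
      ← map_commutator, h0, Subgroup.map_bot]
  have hmem := hst P (translations_isPGroup.map _) g hgN hq
  let l : ↥(Cfsg.qd p) → S2 (ZMod p) := fun z => (aff_surjective z).choose
  have hl : ∀ x w, l (aff x w) = x := fun x w => by
    obtain ⟨w', hw'⟩ := (aff_surjective (aff x w)).choose_spec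
    exact (aff_injective hw').1.symm
  let lin : ↥(normalizer (P : Set X)) →* S2 (ZMod p) :=
    MonoidHom.mk' (fun x => l (e.symm x.1)) fun x y => by
      obtain ⟨a, v, ha⟩ := aff_surjective (e.symm x.1)
      obtain ⟨b, w, hb⟩ := aff_surjective (e.symm y.1)
      rw [Subgroup.coe_mul, map_mul, ha, hb, aff_mul, hl, hl, hl]
  have hlin : Function.Surjective lin := fun x => ⟨⟨e (aff x 0), by rw [normalizer_eq_top]; trivial⟩,
    by show l (e.symm (e (aff x 0))) = x; rw [e.symm_apply_apply, hl]⟩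
  have hker : (centralizer (P : Set X)).subgroupOf (normalizer (P : Set X)) ≤ lin.ker := by
    intro x hx
    obtain ⟨a, v, ha⟩ := aff_surjective (e.symm x.1)
    have hx' : x.1 = e (aff a v) := by rw [← ha, e.apply_symm_apply]
    show l (e.symm x.1) = 1
    rw [ha, hl]
    have hfix : ∀ w, Matrix.mulVec a.1 w = w := fun w => by
      have h1 := mem_centralizer_iff.1 (mem_subgroupOf.1 hx) (e (aff 1 w)) ⟨_, ⟨w, rfl⟩, rfl⟩
      rw [hx', ← map_mul, ← map_mul] at h1
      have h2 := conj_translation a v w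
      rw [mul_inv_eq_of_eq_mul (e.injective h1).symm] at h2
      exact ((aff_injective h2).2).symm
    have h0 := hfix ![1, 0]
    have h1 := hfix ![0, 1]
    refine ext2 ?_ ?_ ?_ ?_
    · simpa [Matrix.mulVec, dotProduct, Fin.sum_univ_two] using congrFun h0 0
    · simpa [Matrix.mulVec, dotProduct, Fin.sum_univ_two] using congrFun h1 0
    · simpa [Matrix.mulVec, dotProduct, Fin.sum_univ_two] using congrFun h0 1
    · simpa [Matrix.mulVec, dotProduct, Fin.sum_univ_two] using congrFun h1 1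
  let lq := QuotientGroup.lift _ lin hker
  have hlq : Function.Surjective lq := fun x => by
    obtain ⟨y, rfl⟩ := hlin x
    exact ⟨QuotientGroup.mk y, rfl⟩
  have hmem' : lq (QuotientGroup.mk ⟨g, hgN⟩) ∈
      (Cfsg.pCore p _).map lq := mem_map_of_mem lq hmem
  haveI : ((Cfsg.pCore p _).map lq).Normal :=
    Subgroup.Normal.map inferInstance lq hlq
  refine SL_pCore_not_mem hp ((CfsgLib.Core.isPGroup_pCore p _).map lq) ?_
  convert hmem' using 1
  show (U 1 : S2 (ZMod p)) = l (e.symm g)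
  rw [hg, e.symm_apply_apply, hl]

/-- in `Qd(p)` the normalizer of `Z(J(T))` does not control fusion -/
theorem not_controls_of_equiv (hp : p ≠ 2) {X : Type*} [Group X] [Finite X]
    (e : ↥(Cfsg.qd p) ≃* X) :
    ∃ T : Sylow p X, ¬ Cfsg.ControlsStrongFusion p (Cfsg.centerThompsonAOf (T : Subgroup X)) := by
  classical
  set P := translations p with hP
  let Bc : Subgroup ↥(Cfsg.qd p) :=
    { carrier := Set.range fun sc : ZMod p × ZMod p => aff (U sc.1) ![sc.2, 0]
      one_mem' := ⟨(0, 0), by simp [U_zero]; rw [← aff_one]; congr 1; ext i; fin_cases i <;> simp⟩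
      mul_mem' := by
        rintro _ _ ⟨⟨s, c⟩, rfl⟩ ⟨⟨t, d⟩, rfl⟩
        refine ⟨(s + t, c + d), ?_⟩
        show aff (U (s + t)) ![c + d, 0] = aff (U s) ![c, 0] * aff (U t) ![d, 0]
        rw [aff_mul, U_mul]
        congr 1
        funext i
        fin_cases i <;> simp [Matrix.mulVec, dotProduct, Fin.sum_univ_two]
      inv_mem' := by
        rintro _ ⟨⟨s, c⟩, rfl⟩
        refine ⟨(-s, -c), (inv_eq_of_mul_eq_one_right ?_).symm⟩
        show aff (U s) ![c, 0] * aff (U (-s)) ![-c, 0] = 1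
        rw [aff_mul, U_mul, add_neg_cancel, U_zero, ← aff_one]
        congr 1
        funext i
        fin_cases i <;> simp [Matrix.mulVec, dotProduct, Fin.sum_univ_two] }
  have hBcard : Nat.card Bc = p ^ 2 := by
    let f : ZMod p × ZMod p → Bc := fun sc => ⟨aff (U sc.1) ![sc.2, 0], sc, rfl⟩
    have hf : Function.Bijective f := by
      refine ⟨fun x y h => ?_, fun ⟨_, w, hw⟩ => ⟨w, Subtype.ext hw⟩⟩
      obtain ⟨h1, h2⟩ := aff_injective (congrArg Subtype.val h)
      exact Prod.ext (U_injective h1) (by simpa using congrFun h2 0)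
    rw [← Nat.card_congr (Equiv.ofBijective f hf), Nat.card_prod, Nat.card_zmod, sq]
  have hBp : IsPGroup p Bc := IsPGroup.of_card hBcard
  obtain ⟨T0, hT0⟩ := (hBp.to_sup_of_normal_right (translations_isPGroup (p := p))).exists_le_sylow
  obtain ⟨hES, hTcard, -⟩ := Cfsg.Agent.S3074.result p hp T0
  haveI : Finite ↥(Cfsg.qd p) := Finite.of_equiv X e.symm.toEquiv
  have hTna : ¬ IsMulCommutative (T0 : Subgroup ↥(Cfsg.qd p)) := by
    intro hc
    have h1 := hc.is_comm.comm
      (⟨aff (U 1 : S2 (ZMod p)) 0, hT0 (mem_sup_left ⟨(1, 0), by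
        show aff (U 1 : S2 (ZMod p)) ![0, 0] = _
        congr 1; funext i; fin_cases i <;> simp⟩)⟩ : (T0 : Subgroup ↥(Cfsg.qd p)))
      ⟨aff 1 ![0, 1], hT0 (mem_sup_right ⟨_, rfl⟩)⟩
    have h2 : aff (U 1 : S2 (ZMod p)) 0 * aff 1 ![0, 1] = aff 1 ![0, 1] * aff (U 1) 0 :=
      congrArg Subtype.val h1
    rw [aff_mul, aff_mul] at h2
    have h3 := congrFun (aff_injective h2).2 0
    simp [Matrix.mulVec, dotProduct, Fin.sum_univ_two] at h3
  -- membership in the Thompson subgroup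
  have hmax : ∀ A : Subgroup ↥(Cfsg.qd p), A ≤ T0 → Nat.card A = p ^ 2 → IsMulCommutative A →
      A ≤ Cfsg.thompsonSubgroupAOf (T0 : Subgroup ↥(Cfsg.qd p)) := by
    intro A hA hAc hAcomm
    haveI := hAcomm
    have hmem : A.subgroupOf T0 ∈ Cfsg.maxAbelianSubgroups T0 := by
      refine ⟨⟨⟨fun a b => Subtype.ext (Subtype.ext (congrArg (fun z : A => (z : ↥(Cfsg.qd p)))
        (mul_comm' (⟨((a : T0) : ↥(Cfsg.qd p)), a.2⟩ : A) ⟨((b : T0) : ↥(Cfsg.qd p)), b.2⟩)))⟩⟩,
        fun B hB => ?_⟩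
      rw [Nat.card_congr (subgroupOfEquivOfLe hA).toEquiv, hAc]
      obtain ⟨k, hk, hBk⟩ := (Nat.dvd_prime_pow Fact.out).1 (hTcard ▸ B.card_subgroup_dvd_card)
      rw [hBk]
      refine Nat.pow_le_pow_right (Fact.out : p.Prime).pos ?_
      by_contra hlt
      have hBtop : B = ⊤ := eq_top_of_card_eq B (by rw [hBk, hTcard]; congr 1; omega)
      subst hBtop
      exact hTna ⟨⟨fun a b => congrArg Subtype.val
        (hB.is_comm.comm (⟨a, mem_top _⟩ : (⊤ : Subgroup T0)) ⟨b, mem_top _⟩)⟩⟩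
    intro a ha
    exact ⟨⟨a, hA ha⟩, le_sSup hmem (show (⟨a, hA ha⟩ : T0) ∈ A.subgroupOf T0 from ha), rfl⟩
  have hPcomm : IsMulCommutative P := ⟨⟨by
    rintro ⟨_, v, rfl⟩ ⟨_, w, rfl⟩
    refine Subtype.ext ?_
    show aff (1 : S2 (ZMod p)) v * aff 1 w = aff 1 w * aff 1 v
    rw [aff_mul, aff_mul]
    simp [add_comm]⟩⟩
  have hBcomm : IsMulCommutative Bc := ⟨⟨by
    rintro ⟨_, ⟨s, c⟩, rfl⟩ ⟨_, ⟨t, d⟩, rfl⟩
    refine Subtype.ext ?_
    show aff (U s) ![c, 0] * aff (U t) ![d, 0] = aff (U t) ![d, 0] * aff (U s) ![c, 0]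
    rw [aff_mul, aff_mul, U_mul, U_mul, add_comm s]
    congr 1
    funext i
    fin_cases i <;> simp [Matrix.mulVec, dotProduct, Fin.sum_univ_two, add_comm]⟩⟩
  set Z := Cfsg.centerThompsonAOf (T0 : Subgroup ↥(Cfsg.qd p)) with hZ
  have hPJ := hmax P (le_sup_right.trans hT0) card_translations hPcomm
  have hBJ := hmax Bc (le_sup_left.trans hT0) hBcard hBcomm
  have hZform : ∀ z ∈ Z, ∃ c : ZMod p, z = aff 1 ![c, 0] := by
    intro z hz
    obtain ⟨x, v, rfl⟩ := aff_surjective z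
    have hzc := mem_centralizer_iff.1 hz.2
    have hfix : ∀ w, Matrix.mulVec x.1 w = w := fun w => by
      have h1 := hzc _ (hPJ ⟨w, rfl⟩)
      have h2 := conj_translation x v w
      rw [mul_inv_eq_of_eq_mul h1.symm] at h2
      exact ((aff_injective h2).2).symm
    have hx : x = 1 := by
      have h0 := hfix ![1, 0]
      have h1 := hfix ![0, 1]
      refine ext2 ?_ ?_ ?_ ?_
      · simpa [Matrix.mulVec, dotProduct, Fin.sum_univ_two] using congrFun h0 0
      · simpa [Matrix.mulVec, dotProduct, Fin.sum_univ_two] using congrFun h1 0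
      · simpa [Matrix.mulVec, dotProduct, Fin.sum_univ_two] using congrFun h0 1
      · simpa [Matrix.mulVec, dotProduct, Fin.sum_univ_two] using congrFun h1 1
    subst hx
    have hu := hzc _ (hBJ ⟨(1, 0), rfl⟩)
    simp only [aff_mul] at hu
    have h0 := congrFun (aff_injective hu).2 0
    refine ⟨v 0, ?_⟩
    congr 1
    funext i
    fin_cases i
    · simp
    · simp [Matrix.mulVec, dotProduct, Fin.sum_univ_two] at h0
      simpa using h0
  have hTne : (T0 : Subgroup ↥(Cfsg.qd p)) ≠ ⊥ := fun h => by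
    rw [h, Subgroup.card_bot] at hTcard
    exact absurd hTcard.symm (Nat.one_lt_pow three_ne_zero (Fact.out : p.Prime).one_lt).ne'
  have hZne : Z ≠ ⊥ := centerThompsonA_ne_bot T0.isPGroup' hTne
  -- transport to `X`
  have hes : Function.Surjective e.toMonoidHom := e.surjective
  refine ⟨T0.mapSurjective hes, ?_⟩
  rintro ⟨T', -, hT'⟩
  rw [Sylow.coe_mapSurjective, ← centerThompsonA_map e.toMonoidHom _
    (by rw [(MonoidHom.ker_eq_bot_iff _).2 e.injective]; exact disjoint_bot_right)] at hT'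
  haveI : (P.map e.toMonoidHom).Normal := Subgroup.Normal.map translations_normal _ e.surjective
  have hPT' : P.map e.toMonoidHom ≤ (T' : Subgroup X) :=
    ((translations_isPGroup (p := p)).map _).le_sylow_of_normal T'
  obtain ⟨z, hz, hz1⟩ : ∃ z ∈ Z, z ≠ 1 := (bot_or_exists_ne_one Z).resolve_left hZne
  obtain ⟨c, rfl⟩ := hZform z hz
  have hc : c ≠ 0 := fun h => hz1 (by
    rw [h, ← aff_one]; congr 1; funext i; fin_cases i <;> simp)
  let w : S2 (ZMod p) := ⟨!![0, 1; -1, 0], by simp [Matrix.det_fin_two_of]⟩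
  obtain ⟨-, hctl⟩ := hT' {e (aff 1 ![c, 0])} (by
    rintro _ rfl; exact hPT' ⟨_, ⟨_, rfl⟩, rfl⟩)
  obtain ⟨x, hx, hxa⟩ := hctl (e (aff w 0)) (by
    rintro _ ⟨_, rfl, rfl⟩
    show e (aff w 0) * e (aff 1 ![c, 0]) * (e (aff w 0))⁻¹ ∈ (T' : Subgroup X)
    rw [← map_inv, ← map_mul, ← map_mul, conj_translation]
    exact hPT' ⟨_, ⟨_, rfl⟩, rfl⟩)
  have hxa' := hxa _ rfl
  rw [← map_inv, ← map_mul, ← map_mul, conj_translation] at hxa'
  have hin : e (aff 1 (Matrix.mulVec w.1 ![c, 0])) ∈ Z.map e.toMonoidHom := by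
    rw [hxa']
    exact (mem_normalizer_iff.1 hx _).1 ⟨_, hz, rfl⟩
  obtain ⟨z', hz', hze⟩ := hin
  obtain rfl := e.injective hze
  obtain ⟨d, hd⟩ := hZform _ hz'
  have h1 := congrFun (aff_injective hd).2 1
  simp [w, Matrix.mulVec, dotProduct, Fin.sum_univ_two] at h1
  exact hc h1

end CfsgLib.PLocal.SLTwo
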