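import Cfsg.Agent.Lib.PLocal.SLTwo.QdFree
import Cfsg.Agent.Lib.PLocal.PStable
import Cfsg.Agent.Lib.Techniques.SectionFusion

/-!
# `N(Z(J(P)))` (abelian `J`) controls fusion in stable groups
-/

set_option autoImplicit false

namespace CfsgLib.PLocal.SLTwo

open Subgroup Cfsg CfsgLib.Core CfsgLib.Techniques CfsgLib.PLocal

universe u

variable {p : ℕ}

/-- `Q ↦ Z(J(Q))` -/
noncomputable def zjAFunctor : ∀ (Q : Type u) [Group Q], Subgroup Q :=
  fun Q _ => centerThompsonAOf (⊤ : Subgroup Q)

theorem zjAFunctor_induced {G : Type u} [Group G] (P : Subgroup G) :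
    inducedFunctor zjAFunctor P = centerThompsonAOf P := by
  show (centerThompsonAOf (⊤ : Subgroup P)).map P.subtype = _
  rw [centerThompsonA_map P.subtype ⊤ (by rw [P.ker_subtype]; exact disjoint_bot_right),
    ← MonoidHom.range_eq_map, range_subtype]

theorem zjAFunctor_isCharPFunctor [Fact p.Prime] : IsCharPFunctor.{u} p zjAFunctor := by
  constructor
  · intro Q _ _ hQ _
    exact centerThompsonA_ne_bot (p := p) (hQ.to_subgroup _) top_ne_bot
  · intro Q R _ _ _ _ φ
    show (centerThompsonAOf (⊤ : Subgroup Q)).map φ.toMonoidHom = centerThompsonAOf ⊤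
    rw [centerThompsonA_map φ.toMonoidHom ⊤
        (by rw [(MonoidHom.ker_eq_bot_iff _).2 φ.injective]; exact disjoint_bot_right),
      Subgroup.map_top_of_surjective _ φ.surjective]

/-- stability of the constrained sections gives control of strong fusion -/
theorem zjA_controls {G : Type u} [Group G] [Finite G] [Fact p.Prime] (hp : p ≠ 2)
    (hst : ∀ (H : Type u) [Group H] [Finite H], IsSec G H →
      centralizer (pCore p H : Set H) ≤ pCore p H → ∀ S : Sylow p H,
        StableAt p (S : Subgroup H))
    (P : Sylow p G) (A : Set G) (hA : A ⊆ (P : Subgroup G)) :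
    ControlsStrongFusionOf (normalizer (centerThompsonAOf (P : Subgroup G) : Set G))
      (P : Subgroup G) A := by
  refine ⟨hA, fun g hAg => ?_⟩
  let 𝓦 : Set (∀ (Q : Type u) [Group Q], Subgroup Q) := {zjAFunctor}
  have h𝓦 : ∀ W ∈ 𝓦, IsCharPFunctor.{u} p W := fun W hW => by
    rw [show W = zjAFunctor from hW]; exact zjAFunctor_isCharPFunctor
  have hfam := familyFusion_of_sections (G := G) h𝓦 (fun H _ _ hH hc => by
    obtain ⟨S⟩ : Nonempty (Sylow p H) := inferInstance
    have hchar := zCore_characteristic hp (goodPred_abelian (G := H) p) hc S (hst H hH hc S)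
    rw [zCore_abelian_eq] at hchar
    haveI := hchar
    have hn : (centerThompsonAOf (S : Subgroup H)).Normal := inferInstance
    refine familyControls_of_spath S fun B y hB hy => SPath.single ?_ hB hy
    refine ⟨Cfsg.inducedFunctor zjAFunctor, ⟨zjAFunctor, rfl, rfl⟩, trivial, ?_⟩
    rw [zjAFunctor_induced, normalizer_eq_top_iff.2 hn]
    trivial) G (isSec_self G)
  have hpath := familyControlsFusion_at (inducedSet_conjugacy h𝓦 G) hfam (isSylowSub_sylow P)
    A g trivial hA hAg
  obtain ⟨x, hx, he⟩ := hpath.exists_mem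
    (N := normalizer (centerThompsonAOf (P : Subgroup G) : Set G)) (by
      rintro m ⟨_, ⟨W, hW, rfl⟩, hm⟩
      have h := (Subgroup.mem_inf.1 hm).2
      rw [show W = zjAFunctor from hW] at h
      simp only [zjAFunctor_induced] at h
      exact h)
  exact ⟨x, hx, fun a ha => he a ha⟩

theorem noQd_of_isSec {G H : Type u} [Group G] [Group H] (h : NoQd p G) (hH : IsSec G H) :
    NoQd p H := by
  obtain ⟨K, f, hf⟩ := hH
  exact noQd_of_surjective f hf (noQd_subgroup h K)

/-- `Qd(p)`-free groups: `Z(J)` controls strong fusion -/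
theorem zjA_controls_of_noQd {G : Type u} [Group G] [Finite G] [Fact p.Prime] (hp : p ≠ 2)
    (h : NoQd p G) (P : Sylow p G) :
    ControlsStrongFusion p (centerThompsonAOf (P : Subgroup G)) :=
  ⟨P, centerThompsonA_le _, fun A hA =>
    zjA_controls hp (fun H _ _ hH _ S => stableAt_of_noQd hp (noQd_of_isSec h hH) (S : Subgroup H))
      P A hA⟩

end CfsgLib.PLocal.SLTwo
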