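import Mathlib.LinearAlgebra.Matrix.SpecialLinearGroup
import Mathlib.Algebra.CharP.Basic
import Mathlib.Algebra.CharP.Lemmas
import Mathlib.Data.Matrix.Basic
import Mathlib.LinearAlgebra.Matrix.CharP
import Mathlib.Tactic

/-!
# Elementary facts about `SL(2, K)`
-/

set_option autoImplicit false

namespace CfsgLib.PLocal.SLTwo

open Matrix

variable {K : Type*} [Field K]

abbrev S2 (K : Type*) [Field K] := Matrix.SpecialLinearGroup (Fin 2) K

/-- upper unitriangular element -/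
def U (t : K) : S2 K := ⟨!![1, t; 0, 1], by simp [Matrix.det_fin_two_of]⟩

/-- lower unitriangular element -/
def Lo (t : K) : S2 K := ⟨!![1, 0; t, 1], by simp [Matrix.det_fin_two_of]⟩

theorem ext2 {x y : S2 K} (h1 : x.1 0 0 = y.1 0 0) (h2 : x.1 0 1 = y.1 0 1)
    (h3 : x.1 1 0 = y.1 1 0) (h4 : x.1 1 1 = y.1 1 1) : x = y := by
  refine Subtype.ext ?_
  ext i j
  fin_cases i <;> fin_cases j <;> assumption

theorem det2 (x : S2 K) : x.1 0 0 * x.1 1 1 - x.1 0 1 * x.1 1 0 = 1 := by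
  rw [← Matrix.det_fin_two]; exact x.2

theorem m00 (x y : S2 K) : (x * y).1 0 0 = x.1 0 0 * y.1 0 0 + x.1 0 1 * y.1 1 0 := by
  simp [Matrix.mul_apply, Fin.sum_univ_two]
theorem m01 (x y : S2 K) : (x * y).1 0 1 = x.1 0 0 * y.1 0 1 + x.1 0 1 * y.1 1 1 := by
  simp [Matrix.mul_apply, Fin.sum_univ_two]
theorem m10 (x y : S2 K) : (x * y).1 1 0 = x.1 1 0 * y.1 0 0 + x.1 1 1 * y.1 1 0 := by
  simp [Matrix.mul_apply, Fin.sum_univ_two]
theorem m11 (x y : S2 K) : (x * y).1 1 1 = x.1 1 0 * y.1 0 1 + x.1 1 1 * y.1 1 1 := by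
  simp [Matrix.mul_apply, Fin.sum_univ_two]

theorem i00 (x : S2 K) : x⁻¹.1 0 0 = x.1 1 1 := by
  simp [Matrix.SpecialLinearGroup.coe_inv, Matrix.adjugate_fin_two]
theorem i01 (x : S2 K) : x⁻¹.1 0 1 = -x.1 0 1 := by
  simp [Matrix.SpecialLinearGroup.coe_inv, Matrix.adjugate_fin_two]
theorem i10 (x : S2 K) : x⁻¹.1 1 0 = -x.1 1 0 := by
  simp [Matrix.SpecialLinearGroup.coe_inv, Matrix.adjugate_fin_two]
theorem i11 (x : S2 K) : x⁻¹.1 1 1 = x.1 0 0 := by
  simp [Matrix.SpecialLinearGroup.coe_inv, Matrix.adjugate_fin_two]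

@[simp] theorem U00 (t : K) : (U t).1 0 0 = 1 := rfl
@[simp] theorem U01 (t : K) : (U t).1 0 1 = t := rfl
@[simp] theorem U10 (t : K) : (U t).1 1 0 = 0 := rfl
@[simp] theorem U11 (t : K) : (U t).1 1 1 = 1 := rfl
@[simp] theorem Lo00 (t : K) : (Lo t).1 0 0 = 1 := rfl
@[simp] theorem Lo01 (t : K) : (Lo t).1 0 1 = 0 := rfl
@[simp] theorem Lo10 (t : K) : (Lo t).1 1 0 = t := rfl
@[simp] theorem Lo11 (t : K) : (Lo t).1 1 1 = 1 := rfl

@[simp] theorem neg_entry (x : S2 K) (i j : Fin 2) : (-x).1 i j = -(x.1 i j) := rfl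

@[simp] theorem one00 : (1 : S2 K).1 0 0 = 1 := rfl
@[simp] theorem one01 : (1 : S2 K).1 0 1 = 0 := rfl
@[simp] theorem one10 : (1 : S2 K).1 1 0 = 0 := rfl
@[simp] theorem one11 : (1 : S2 K).1 1 1 = 1 := rfl

theorem U_mul (s t : K) : U s * U t = U (s + t) := by
  refine ext2 ?_ ?_ ?_ ?_ <;> simp [m00, m01, m10, m11, add_comm]

theorem U_zero : (U 0 : S2 K) = 1 := by
  refine ext2 ?_ ?_ ?_ ?_ <;> simp

theorem U_inv (t : K) : (U t)⁻¹ = U (-t) := by
  refine inv_eq_of_mul_eq_one_right ?_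
  rw [U_mul, add_neg_cancel, U_zero]

theorem U_pow (t : K) (n : ℕ) : (U t) ^ n = U ((n : K) * t) := by
  induction n with
  | zero => simp [U_zero]
  | succ n ih => rw [pow_succ, ih, U_mul]; push_cast; ring_nf

theorem U_injective : Function.Injective (U : K → S2 K) := fun s t h => by
  simpa using congrArg (fun x : S2 K => x.1 0 1) h

theorem Lo_mul (s t : K) : Lo s * Lo t = Lo (s + t) := by
  refine ext2 ?_ ?_ ?_ ?_ <;> simp [m00, m01, m10, m11]

theorem Lo_zero : (Lo 0 : S2 K) = 1 := by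
  refine ext2 ?_ ?_ ?_ ?_ <;> simp

theorem Lo_pow (t : K) (n : ℕ) : (Lo t) ^ n = Lo ((n : K) * t) := by
  induction n with
  | zero => simp [Lo_zero]
  | succ n ih => rw [pow_succ, ih, Lo_mul]; push_cast; ring_nf

/-- not a scalar matrix -/
def NonScalar (x : S2 K) : Prop := ¬ (x.1 0 1 = 0 ∧ x.1 1 0 = 0 ∧ x.1 0 0 = x.1 1 1)

theorem scalar_cases {x : S2 K} (h : ¬ NonScalar x) : x = 1 ∨ x = -1 := by
  rw [NonScalar, not_not] at h
  obtain ⟨hb, hc, had⟩ := h
  have := det2 x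
  rw [hb, hc, ← had] at this
  have h1 : (x.1 0 0 - 1) * (x.1 0 0 + 1) = 0 := by linear_combination this
  rcases mul_eq_zero.1 h1 with h1 | h1
  · left
    refine ext2 (by simpa [sub_eq_zero] using h1) (by simpa using hb) (by simpa using hc) ?_
    rw [← had]; simpa [sub_eq_zero] using h1
  · right
    refine ext2 ?_ (by simpa using hb) (by simpa using hc) ?_
    · simp only [neg_entry, one00]; linear_combination h1
    · simp only [neg_entry, one11]; rw [← had]; linear_combination h1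

theorem not_nonScalar_one : ¬ NonScalar (1 : S2 K) := by simp [NonScalar]

theorem not_nonScalar_neg_one : ¬ NonScalar (-1 : S2 K) := by simp [NonScalar]

theorem commute_iff {x y : S2 K} :
    x * y = y * x ↔
      x.1 0 1 * y.1 1 0 = y.1 0 1 * x.1 1 0 ∧
      x.1 0 0 * y.1 0 1 + x.1 0 1 * y.1 1 1 = y.1 0 0 * x.1 0 1 + y.1 0 1 * x.1 1 1 ∧
      x.1 1 0 * y.1 0 0 + x.1 1 1 * y.1 1 0 = y.1 1 0 * x.1 0 0 + y.1 1 1 * x.1 1 0 := by
  constructor
  · intro h
    refine ⟨?_, ?_, ?_⟩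
    · have := congrArg (fun z : S2 K => z.1 0 0) h
      simp only [m00] at this
      linear_combination this
    · simpa only [m01] using congrArg (fun z : S2 K => z.1 0 1) h
    · simpa only [m10] using congrArg (fun z : S2 K => z.1 1 0) h
  · rintro ⟨h1, h2, h3⟩
    refine ext2 ?_ ?_ ?_ ?_ <;> simp only [m00, m01, m10, m11]
    · linear_combination h1
    · exact h2
    · exact h3
    · linear_combination (-1 : K) * h1

/-- the centraliser of a non-scalar matrix is `K[x]` -/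
theorem exists_affine {x y : S2 K} (hx : NonScalar x) (h : x * y = y * x) :
    ∃ α β : K, y.1 0 0 = α * x.1 0 0 + β ∧ y.1 0 1 = α * x.1 0 1 ∧
      y.1 1 0 = α * x.1 1 0 ∧ y.1 1 1 = α * x.1 1 1 + β := by
  obtain ⟨h1, h2, h3⟩ := commute_iff.1 h
  by_cases hb : x.1 0 1 = 0
  · by_cases hc : x.1 1 0 = 0
    · have had : x.1 0 0 - x.1 1 1 ≠ 0 := fun hd => hx ⟨hb, hc, sub_eq_zero.1 hd⟩
      refine ⟨(y.1 0 0 - y.1 1 1) / (x.1 0 0 - x.1 1 1),
        y.1 0 0 - (y.1 0 0 - y.1 1 1) / (x.1 0 0 - x.1 1 1) * x.1 0 0, by ring, ?_, ?_, ?_⟩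
      · rw [hb] at h2; rw [hb, mul_zero]
        refine (mul_eq_zero.1 (show (x.1 0 0 - x.1 1 1) * y.1 0 1 = 0 by linear_combination h2)).resolve_left had
      · rw [hc] at h3; rw [hc, mul_zero]
        refine (mul_eq_zero.1 (show (x.1 0 0 - x.1 1 1) * y.1 1 0 = 0 by linear_combination (-1 : K) * h3)).resolve_left had
      · field_simp
        ring
    · refine ⟨y.1 1 0 / x.1 1 0, y.1 0 0 - y.1 1 0 / x.1 1 0 * x.1 0 0, by ring, ?_, ?_, ?_⟩
      · rw [hb] at h1; rw [hb, mul_zero]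
        exact (mul_eq_zero.1 (show y.1 0 1 * x.1 1 0 = 0 by linear_combination (-1 : K) * h1)).resolve_right hc
      · field_simp
      · field_simp
        linear_combination (-1 : K) * h3
  · refine ⟨y.1 0 1 / x.1 0 1, y.1 0 0 - y.1 0 1 / x.1 0 1 * x.1 0 0, by ring, ?_, ?_, ?_⟩
    · field_simp
    · field_simp
      linear_combination h1
    · field_simp
      linear_combination h2

theorem commute_of_commute {x y z : S2 K} (hx : NonScalar x) (hy : x * y = y * x)
    (hz : x * z = z * x) : y * z = z * y := by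
  obtain ⟨α, β, a1, a2, a3, a4⟩ := exists_affine hx hy
  obtain ⟨γ, δ, b1, b2, b3, b4⟩ := exists_affine hx hz
  rw [commute_iff, a1, a2, a3, a4, b1, b2, b3, b4]
  refine ⟨?_, ?_, ?_⟩ <;> ring

/-- trace -/
def tr (x : S2 K) : K := x.1 0 0 + x.1 1 1

theorem tr_conj (x g : S2 K) : tr (g * x * g⁻¹) = tr x := by
  simp only [tr, m00, m11, m01, m10, i00, i01, i10, i11]
  linear_combination (x.1 0 0 + x.1 1 1) * det2 g

theorem eq_or_eq_inv {x z : S2 K} (h2 : (2 : K) ≠ 0) (hx : NonScalar x) (hd : tr x ^ 2 ≠ 4)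
    (hz : x * z = z * x) (ht : tr z = tr x) : z = x ∨ z = x⁻¹ := by
  obtain ⟨α, β, a1, a2, a3, a4⟩ := exists_affine hx hz
  have hdz := det2 z
  have hdx := det2 x
  rw [a1, a2, a3, a4] at hdz
  rw [tr, tr, a1, a4] at ht
  unfold tr at hd
  have key : (1 - α ^ 2) * (4 - (x.1 0 0 + x.1 1 1) ^ 2) = 0 := by
    linear_combination (-4 : K) * hdz + 4 * α ^ 2 * hdx
      + (α * (x.1 0 0 + x.1 1 1) + 2 * β + (x.1 0 0 + x.1 1 1)) * ht
  have hα : (1 - α) * (1 + α) = 0 := by
    have := (mul_eq_zero.1 key).resolve_right (fun h => hd (by linear_combination (-1 : K) * h))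
    linear_combination this
  rcases mul_eq_zero.1 hα with h | h
  · have hα1 : α = 1 := by linear_combination (-1 : K) * h
    subst hα1
    have hβ : β = 0 := (mul_eq_zero.1 (show (2 : K) * β = 0 by linear_combination ht)).resolve_left h2
    subst hβ
    left
    refine ext2 ?_ ?_ ?_ ?_ <;> simp [a1, a2, a3, a4]
  · have hα1 : α = -1 := by linear_combination h
    subst hα1
    have hβ : β = x.1 0 0 + x.1 1 1 :=
      mul_left_cancel₀ h2 (by linear_combination ht)
    subst hβ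
    right
    refine ext2 ?_ ?_ ?_ ?_ <;> simp [a1, a2, a3, a4, i00, i01, i10, i11]

theorem commute_U_one {x : S2 K} (h : x * U 1 = U 1 * x) :
    x.1 1 0 = 0 ∧ x.1 1 1 = x.1 0 0 := by
  obtain ⟨h1, h2, -⟩ := commute_iff.1 h
  simp only [U00, U01, U10, U11] at h1 h2
  constructor <;> [linear_combination (-1 : K) * h1; linear_combination (-1 : K) * h2]

theorem eq_U_of_upper {x : S2 K} (hc : x.1 1 0 = 0) (hd : x.1 1 1 = x.1 0 0) :
    x = U (x.1 0 1) ∨ x = -U (-(x.1 0 1)) := by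
  have := det2 x
  rw [hc, hd] at this
  have h1 : (x.1 0 0 - 1) * (x.1 0 0 + 1) = 0 := by linear_combination this
  rcases mul_eq_zero.1 h1 with h1 | h1
  · left
    refine ext2 ?_ rfl (by simpa using hc) ?_
    · simp only [U00]; linear_combination h1
    · simp only [U11]; linear_combination h1 + hd
  · right
    refine ext2 ?_ (by simp) (by simpa using hc) ?_
    · simp only [neg_entry, U00]; linear_combination h1
    · simp only [neg_entry, U11]; linear_combination h1 + hd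

theorem pow_p_of_trace_two {p : ℕ} [Fact p.Prime] [CharP K p] {x : S2 K} (h : tr x = 2) :
    x ^ p = 1 := by
  have hn : ((x : Matrix (Fin 2) (Fin 2) K) - 1) ^ 2 = 0 := by
    have hdet := det2 x
    unfold tr at h
    ext i j
    fin_cases i <;> fin_cases j <;>
      simp [pow_two, Matrix.mul_apply, Fin.sum_univ_two] <;>
      [linear_combination (x.1 0 0) * h + (-1 : K) * hdet;
       linear_combination (x.1 0 1) * h;
       linear_combination (x.1 1 0) * h;
       linear_combination (x.1 1 1) * h + (-1 : K) * hdet]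
  have hxp : ((x : Matrix (Fin 2) (Fin 2) K)) ^ p = 1 := by
    have := add_pow_char_of_commute p ((Commute.one_right ((x : Matrix (Fin 2) (Fin 2) K) - 1)))
    rw [sub_add_cancel, one_pow] at this
    rw [this]
    obtain ⟨k, hk⟩ := Nat.exists_eq_add_of_le (Fact.out : p.Prime).two_le
    rw [hk, pow_add, hn, zero_mul, zero_add]
  exact Subtype.ext (by simpa using hxp)

end CfsgLib.PLocal.SLTwo
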