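import Cfsg.Agent.Lib.PLocal.SLTwo.Faithful
import Cfsg.Prelude.Def_LocalEven
import Mathlib.LinearAlgebra.Finsupp.LinearCombination

/-!
# A quadratic element outside `O_p` gives a section `Qd(p)`
-/

set_option autoImplicit false

namespace CfsgLib.PLocal.SLTwo

open Subgroup
open scoped commutatorElement Pointwise IsMulCommutative

section natural

variable {H : Type*} [Group H] {p : ℕ} [Fact p.Prime]

theorem exists_rel_of_rep {K : Type*} [Field K] [IsAlgClosed K] [CharP K p] [Finite H]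
    {W : Type*} [AddCommGroup W] [Module K W] [FiniteDimensional K W] [Nontrivial W] (hp : p ≠ 2)
    {a b : H} (hgen : closure ({a, b} : Set H) = ⊤) (ρ : H →* Module.End K W)
    (ha : (ρ a - 1) * (ρ a - 1) = 0) (hb : (ρ b - 1) * (ρ b - 1) = 0) (hnA : ¬ ActP p ρ) :
    ∃ (K0 : Subgroup H) (π : K0 →* S2 (ZMod p)), Function.Surjective π ∧
      ∀ (s : Finset H) (c : H → ZMod p) (hs : ∀ h ∈ s, h ∈ K0),
        ∑ h ∈ s, (ZMod.castHom dvd_rfl K (c h)) • ρ h = 0 →
          ∑ h ∈ s.attach, c h.1 • ((π ⟨h.1, hs h.1 h.2⟩ : S2 (ZMod p)) :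
            Matrix (Fin 2) (Fin 2) (ZMod p)) = 0 := by
  classical
  obtain ⟨φ, ⟨hta, htb, hne⟩, -, hrel⟩ := exists_hom_two_rel hgen ρ ha hb
    (minpoly K (ρ (a * b))) (minpoly.ne_zero (Algebra.IsIntegral.isIntegral _))
    (IsAlgClosed.splits _) (minpoly.aeval _ _) hnA
  haveI : Finite φ.range := Finite.of_surjective φ.rangeRestrict φ.rangeRestrict_surjective
  obtain ⟨P, hP⟩ := exists_std_SLTwo hp φ.range ⟨_, rfl⟩ ⟨_, rfl⟩ hta htb hne
  set ψ : S2 (ZMod p) →* S2 K := (cj P).toMonoidHom.comp (ofZMod p) with hψdef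
  have hψ : Function.Injective ψ := (cj P).injective.comp ofZMod_injective
  refine ⟨ψ.range.comap φ,
    (MonoidHom.ofInjective hψ).symm.toMonoidHom.comp (φ.subgroupComap ψ.range), ?_, ?_⟩
  · refine (MonoidHom.ofInjective hψ).symm.surjective.comp ?_
    rintro ⟨x, hx⟩
    obtain ⟨x0, rfl⟩ := hx
    obtain ⟨y, hy⟩ := hP x0
    exact ⟨⟨y, ⟨x0, hy.symm⟩⟩, Subtype.ext hy⟩
  · intro s c hs hsum
    set π := (MonoidHom.ofInjective hψ).symm.toMonoidHom.comp (φ.subgroupComap ψ.range)
    have hπ : ∀ h (hh : h ∈ ψ.range.comap φ), φ h = cj P (ofZMod p (π ⟨h, hh⟩)) := fun h hh =>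
      (congrArg Subtype.val ((MonoidHom.ofInjective hψ).apply_symm_apply
        (φ.subgroupComap ψ.range ⟨h, hh⟩))).symm
    have h1 := hrel s (fun h => ZMod.castHom dvd_rfl K (c h)) hsum
    rw [← Finset.sum_attach] at h1
    have h2 : (∑ h ∈ s.attach, ZMod.castHom dvd_rfl K (c h.1) •
        ((π ⟨h.1, hs h.1 h.2⟩).1.map (ZMod.castHom dvd_rfl K))) = 0 := by
      have h3 := congrArg (fun M => (↑P⁻¹ : Matrix (Fin 2) (Fin 2) K) * M *
        (P : Matrix (Fin 2) (Fin 2) K)) h1
      simp only [Finset.mul_sum, Finset.sum_mul, mul_zero, zero_mul] at h3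
      rw [← h3]
      refine Finset.sum_congr rfl fun h _ => ?_
      rw [hπ h.1 (hs h.1 h.2), cj_coe, mul_smul_comm, smul_mul_assoc]
      congr 1
      simp only [mul_assoc, Units.inv_mul, mul_one, Units.inv_mul_cancel_left]
      rfl
    ext i j
    refine (ZMod.castHom dvd_rfl K).injective ?_
    have h3 := congrFun (congrFun h2 i) j
    simp only [Matrix.sum_apply, Matrix.smul_apply, Matrix.map_apply, Matrix.zero_apply,
      smul_eq_mul] at h3 ⊢
    rw [map_sum, map_zero, ← h3]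
    exact Finset.sum_congr rfl fun h _ => by rw [map_mul]

theorem exists_rel_of_pair' (K : Type*) [Field K] [IsAlgClosed K] [Algebra (ZMod p) K]
    [CharP K p] [Finite H] {M : Type*} [AddCommGroup M] [Module (ZMod p) M] [Finite M]
    (hp : p ≠ 2) {a b : H} (hgen : closure ({a, b} : Set H) = ⊤)
    (R : H →* Module.End (ZMod p) M) (hR : ∀ h, R h = 1 → h = 1)
    (ha : (R a - 1) * (R a - 1) = 0) (hb : (R b - 1) * (R b - 1) = 0) (hnp : ¬ IsPGroup p H) :
    ∃ (K0 : Subgroup H) (π : K0 →* S2 (ZMod p)), Function.Surjective π ∧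
      ∀ (s : Finset H) (c : H → ZMod p) (hs : ∀ h ∈ s, h ∈ K0),
        (∀ v : M, ∑ h ∈ s, c h • R h v = 0) →
          ∑ h ∈ s.attach, c h.1 • ((π ⟨h.1, hs h.1 h.2⟩ : S2 (ZMod p)) :
            Matrix (Fin 2) (Fin 2) (ZMod p)) = 0 := by
  classical
  let ρ : H →* Module.End K (TensorProduct (ZMod p) K M) :=
    (Module.End.baseChangeHom (ZMod p) K M).toMonoidHom.comp R
  have hρ1 : ∀ h : H, ρ h = 1 → R h = 1 := by
    intro h hh
    have hinj : Function.Injective (fun v : M => TensorProduct.tmul (ZMod p) (1 : K) v) := by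
      let B := Module.Free.chooseBasis (ZMod p) M
      intro v w hvw
      refine B.ext_elem fun i => (algebraMap (ZMod p) K).injective ?_
      have := congrArg (fun z => (Algebra.TensorProduct.basis K B).repr z i) hvw
      simpa [Algebra.TensorProduct.basis_repr_tmul, ← Algebra.algebraMap_eq_smul_one] using this
    refine LinearMap.ext fun v => hinj ?_
    have h' := LinearMap.congr_fun hh (TensorProduct.tmul (ZMod p) (1 : K) v)
    exact h'
  have hquad : ∀ c : H, (R c - 1) * (R c - 1) = 0 → (ρ c - 1) * (ρ c - 1) = 0 := by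
    intro c h0
    refine Eq.trans ?_ ((congrArg (Module.End.baseChangeHom (ZMod p) K M) h0).trans (map_zero _))
    refine Eq.symm ((map_mul _ _ _).trans ?_)
    congr 1 <;> refine (map_sub _ _ _).trans ?_ <;> congr 1 <;> exact map_one _
  haveI : Nontrivial (TensorProduct (ZMod p) K M) := by
    by_contra hcon
    rw [not_nontrivial_iff_subsingleton] at hcon
    refine hnp fun h => ⟨0, ?_⟩
    rw [pow_zero, pow_one]
    exact hR h (hρ1 h (LinearMap.ext fun x => Subsingleton.elim _ _))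
  have hnA : ¬ ActP p ρ := fun hA => hnp fun h => by
    obtain ⟨k, hk⟩ := hA h
    exact ⟨k, hR _ (hρ1 _ (by rw [map_pow, hk]))⟩
  obtain ⟨K0, π, hπ, hrel⟩ := exists_rel_of_rep (W := TensorProduct (ZMod p) K M) hp hgen ρ
    (hquad a ha) (hquad b hb) hnA
  refine ⟨K0, π, hπ, fun s c hs hsum => hrel s c hs ?_⟩
  have halg : ∀ z : ZMod p, ZMod.castHom dvd_rfl K z = algebraMap (ZMod p) K z := fun z =>
    RingHom.congr_fun (Subsingleton.elim (ZMod.castHom dvd_rfl K) (algebraMap (ZMod p) K)) z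
  refine LinearMap.ext fun w => ?_
  rw [LinearMap.sum_apply, LinearMap.zero_apply]
  induction w using TensorProduct.induction_on with
  | zero => simp
  | tmul k v =>
    have h1 : ∑ h ∈ s, TensorProduct.tmul (ZMod p) k (c h • R h v) = 0 := by
      rw [← TensorProduct.tmul_sum, hsum v, TensorProduct.tmul_zero]
    rw [← h1]
    refine Finset.sum_congr rfl fun h _ => ?_
    rw [LinearMap.smul_apply, halg, algebraMap_smul, TensorProduct.tmul_smul]
    rfl
  | add x y hx hy =>
    simp only [map_add, Finset.sum_add_distrib, hx, hy, add_zero]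

theorem exists_rel_of_pair [Finite H] {M : Type*} [AddCommGroup M] [Module (ZMod p) M] [Finite M]
    (hp : p ≠ 2) {a b : H} (hgen : closure ({a, b} : Set H) = ⊤) (f : H → M →+ M)
    (h1 : ∀ v, f 1 v = v) (h2 : ∀ x y v, f (x * y) v = f x (f y v))
    (hf : ∀ h, (∀ v, f h v = v) → h = 1) (ha : ∀ v, f a (f a v - v) = f a v - v)
    (hb : ∀ v, f b (f b v - v) = f b v - v) (hnp : ¬ IsPGroup p H) :
    ∃ (K0 : Subgroup H) (π : K0 →* S2 (ZMod p)), Function.Surjective π ∧
      ∀ (s : Finset H) (c : H → ZMod p) (hs : ∀ h ∈ s, h ∈ K0),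
        (∀ v : M, ∑ h ∈ s, c h • f h v = 0) →
          ∑ h ∈ s.attach, c h.1 • ((π ⟨h.1, hs h.1 h.2⟩ : S2 (ZMod p)) :
            Matrix (Fin 2) (Fin 2) (ZMod p)) = 0 := by
  haveI : CharP (AlgebraicClosure (ZMod p)) p :=
    charP_of_injective_algebraMap (algebraMap (ZMod p) (AlgebraicClosure (ZMod p))).injective p
  have hsq : ∀ c, (∀ v, f c (f c v - v) = f c v - v) →
      (zmodRep f h1 h2 c - 1) * (zmodRep (p := p) f h1 h2 c - 1) = 0 := by
    intro c hc
    refine LinearMap.ext fun v => ?_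
    rw [Module.End.mul_apply, LinearMap.sub_apply, LinearMap.sub_apply, Module.End.one_apply,
      Module.End.one_apply, LinearMap.zero_apply, zmodRep_apply, zmodRep_apply, hc, sub_self]
  exact exists_rel_of_pair' (AlgebraicClosure (ZMod p)) hp hgen (zmodRep f h1 h2)
    (fun h hh => hf h fun v => LinearMap.congr_fun hh v) (hsq a ha) (hsq b hb) hnp

/-- the natural module is a quotient of an invariant subspace -/
theorem exists_natural_of_rel [Finite H] {M : Type*} [AddCommGroup M] [Module (ZMod p) M] [Finite M]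
    (R : H →* Module.End (ZMod p) M) (π : H →* S2 (ZMod p)) (hπ : Function.Surjective π)
    (hrel : ∀ c : H →₀ ZMod p, Finsupp.linearCombination (ZMod p) (fun h => R h) c = 0 →
      Finsupp.linearCombination (ZMod p)
        (fun h => ((π h : S2 (ZMod p)) : Matrix (Fin 2) (Fin 2) (ZMod p))) c = 0) :
    ∃ (U : Submodule (ZMod p) M) (hU : ∀ h, ∀ u ∈ U, R h u ∈ U)
      (g : U →ₗ[ZMod p] (Fin 2 → ZMod p)), Function.Surjective g ∧
      ∀ (h : H) (u : U), g ⟨R h u, hU h u u.2⟩ = Matrix.mulVec (π h).1 (g u) := by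
  classical
  haveI := Fintype.ofFinite M
  let Φ := Finsupp.linearCombination (ZMod p) (fun h : H => R h)
  let Ψ := Finsupp.linearCombination (ZMod p)
    (fun h : H => ((π h : S2 (ZMod p)) : Matrix (Fin 2) (Fin 2) (ZMod p)))
  let e0 : Fin 2 → ZMod p := ![1, 0]
  let Pr : Finset M → Prop := fun s =>
    ∃ c : H →₀ ZMod p, (∀ v ∈ s, Φ c v = 0) ∧ Matrix.mulVec (Ψ c) e0 ≠ 0
  have hPr0 : Pr ∅ := by
    refine ⟨Finsupp.single 1 1, by simp, ?_⟩
    intro h
    have := congrFun h 0
    simp [Ψ, e0, Finsupp.linearCombination_single] at this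
  have hPr1 : ¬ Pr Finset.univ := by
    rintro ⟨c, hc, hne⟩
    refine hne ?_
    have h0 : Ψ c = 0 := hrel c (LinearMap.ext fun v => hc v (Finset.mem_univ v))
    rw [h0, Matrix.zero_mulVec]
  obtain ⟨s, hs, hmax⟩ : ∃ s : Finset M, Pr s ∧ ∀ v, v ∉ s → ¬ Pr (insert v s) := by
    obtain ⟨s, hs⟩ := (Set.toFinite {s : Finset M | Pr s}).exists_maximal ⟨∅, hPr0⟩
    refine ⟨s, hs.prop, fun v hv h => hv ?_⟩
    exact hs.le_of_ge h (Finset.subset_insert v s) (Finset.mem_insert_self v s)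
  obtain ⟨v, hv⟩ : ∃ v, v ∉ s := by
    by_contra h
    push Not at h
    exact hPr1 (Finset.eq_univ_iff_forall.2 h ▸ hs)
  let Ms : Submodule (ZMod p) (H →₀ ZMod p) :=
    { carrier := {c | ∀ w ∈ s, Φ c w = 0}
      zero_mem' := by simp
      add_mem' := fun {x y} hx hy w hw => by simp [hx w hw, hy w hw]
      smul_mem' := fun r x hx w hw => by simp [hx w hw] }
  let f : Ms →ₗ[ZMod p] M := ((LinearMap.applyₗ v).comp Φ).comp Ms.subtype
  let k : Ms →ₗ[ZMod p] (Fin 2 → ZMod p) :=
    { toFun := fun c => Matrix.mulVec (Ψ c.1) e0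
      map_add' := fun x y => by
        rw [Submodule.coe_add, map_add, Matrix.add_mulVec]
      map_smul' := fun r x => by
        rw [Submodule.coe_smul, map_smul, Matrix.smul_mulVec]; rfl }
  have hker : LinearMap.ker f ≤ LinearMap.ker k := by
    intro c hc
    by_contra hne
    refine hmax v hv ⟨c.1, ?_, hne⟩
    intro w hw
    rcases Finset.mem_insert.1 hw with rfl | hw
    · exact hc
    · exact c.2 w hw
  let sh : H → (H →₀ ZMod p) → (H →₀ ZMod p) := fun h c => c.mapDomain (h * ·)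
  have hshΦ : ∀ h c, Φ (sh h c) = R h * Φ c := by
    intro h c
    induction c using Finsupp.induction_linear with
    | zero => simp [sh]
    | add x y hx hy => simp only [sh, Finsupp.mapDomain_add, map_add] at *; rw [hx, hy, mul_add]
    | single x r => simp [Φ, sh, Finsupp.mapDomain_single, mul_smul_comm]
  have hshP : ∀ h c, Ψ (sh h c) = (π h).1 * Ψ c := by
    intro h c
    induction c using Finsupp.induction_linear with
    | zero => simp [sh]
    | add x y hx hy => simp only [sh, Finsupp.mapDomain_add, map_add] at *; rw [hx, hy, mul_add]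
    | single x r => simp [Ψ, sh, Finsupp.mapDomain_single, mul_smul_comm]
  have hshM : ∀ (h : H) (c : Ms), sh h c.1 ∈ Ms := fun h c w hw => by
    rw [hshΦ, Module.End.mul_apply, c.2 w hw, map_zero]
  let g : LinearMap.range f →ₗ[ZMod p] (Fin 2 → ZMod p) :=
    ((LinearMap.ker f).liftQ k hker).comp f.quotKerEquivRange.symm.toLinearMap
  have hg : ∀ c : Ms, g ⟨f c, c, rfl⟩ = k c := by
    intro c
    show (LinearMap.ker f).liftQ k hker (f.quotKerEquivRange.symm ⟨f c, _⟩) = k c
    rw [show f.quotKerEquivRange.symm ⟨f c, c, rfl⟩ = Submodule.Quotient.mk c from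
      f.quotKerEquivRange.injective (by rw [LinearEquiv.apply_symm_apply]; rfl)]
    rfl
  have hinv : ∀ h, ∀ u ∈ LinearMap.range f, R h u ∈ LinearMap.range f := by
    rintro h _ ⟨c, rfl⟩
    exact ⟨⟨sh h c.1, hshM h c⟩, LinearMap.congr_fun (hshΦ h c.1) v⟩
  have hequiv : ∀ (h : H) (u : LinearMap.range f),
      g ⟨R h u, hinv h u u.2⟩ = Matrix.mulVec (π h).1 (g u) := by
    rintro h ⟨_, c, rfl⟩
    rw [hg]
    have e : (⟨R h (f c), hinv h _ ⟨c, rfl⟩⟩ : LinearMap.range f)
        = ⟨f ⟨sh h c.1, hshM h c⟩, ⟨sh h c.1, hshM h c⟩, rfl⟩ :=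
      Subtype.ext (LinearMap.congr_fun (hshΦ h c.1) v).symm
    rw [e, hg]
    show Matrix.mulVec (Ψ (sh h c.1)) e0 = _
    rw [hshP, ← Matrix.mulVec_mulVec]
    rfl
  refine ⟨LinearMap.range f, hinv, g, ?_, hequiv⟩
  -- the image is invariant under `SL(2, p)` and nonzero
  obtain ⟨c, hc, hne⟩ := hs
  set S := LinearMap.range g with hS
  have hSinv : ∀ x : S2 (ZMod p), ∀ w ∈ S, Matrix.mulVec x.1 w ∈ S := by
    rintro x _ ⟨u, rfl⟩
    obtain ⟨h, rfl⟩ := hπ x
    exact ⟨_, hequiv h u⟩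
  have hw : Matrix.mulVec (Ψ c) e0 ∈ S := ⟨⟨f ⟨c, hc⟩, ⟨c, hc⟩, rfl⟩, hg ⟨c, hc⟩⟩
  set w := Matrix.mulVec (Ψ c) e0 with hwdef
  have hU : ∀ w ∈ S, (![w 1, 0] : Fin 2 → ZMod p) ∈ S := fun w hw => by
    have := S.sub_mem (hSinv (U 1) w hw) hw
    convert this using 1
    ext i; fin_cases i <;> simp [Matrix.mulVec, dotProduct, Fin.sum_univ_two]
  have hL : ∀ w ∈ S, (![0, w 0] : Fin 2 → ZMod p) ∈ S := fun w hw => by
    have := S.sub_mem (hSinv (Lo 1) w hw) hw
    convert this using 1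
    ext i; fin_cases i <;> simp [Matrix.mulVec, dotProduct, Fin.sum_univ_two]
  have h10 : (![1, 0] : Fin 2 → ZMod p) ∈ S := by
    by_cases h1 : w 1 = 0
    · have h0 : w 0 ≠ 0 := fun h0 => hne (by ext i; fin_cases i <;> assumption)
      have := S.smul_mem (w 0)⁻¹ (hU _ (hL w hw))
      convert this using 1
      ext i; fin_cases i <;> simp [h0]
    · have := S.smul_mem (w 1)⁻¹ (hU w hw)
      convert this using 1
      ext i; fin_cases i <;> simp [h1]
  intro t
  have ht : t = t 0 • (![1, 0] : Fin 2 → ZMod p) + t 1 • ![0, (![1, 0] : Fin 2 → ZMod p) 0] := by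
    ext i; fin_cases i <;> simp
  show t ∈ S
  rw [ht]
  exact S.add_mem (S.smul_mem _ h10) (S.smul_mem _ (hL _ h10))

/-- Baer–Suzuki version with the natural module -/
theorem exists_natural_of_quad [Finite H] (hp : p ≠ 2) {M : Type*} [AddCommGroup M]
    [Module (ZMod p) M] [Finite M] (f : H → M →+ M) (h1 : ∀ v, f 1 v = v)
    (h2 : ∀ x y v, f (x * y) v = f x (f y v)) (hf : ∀ h, (∀ v, f h v = v) → h = 1)
    {a : H} (ha : ∀ v, f a (f a v - v) = f a v - v) (hna : a ∉ Cfsg.pCore p H) :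
    ∃ (K0 : Subgroup H) (π : K0 →* S2 (ZMod p)), Function.Surjective π ∧
      ∃ (U : AddSubgroup M) (hU : ∀ h : K0, ∀ u ∈ U, f h u ∈ U) (g : U →+ (Fin 2 → ZMod p)),
        Function.Surjective g ∧
        ∀ (h : K0) (u : U), g ⟨f h u, hU h u u.2⟩ = Matrix.mulVec (π h).1 (g u) := by
  classical
  set A : Subgroup H := zpowers a with hA
  by_cases hall : ∀ g : H, IsPGroup p ↥(A ⊔ MulAut.conj g • A)
  · exfalso
    have hsn := (CfsgLib.Core.isSubnormal_of_nilpotent_join fun g => (hall g).isNilpotent).1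
    have hAp : IsPGroup p A := (hall 1).to_le le_sup_left
    exact hna (Components.subnormal_pGroup_le_pCore hsn hAp (mem_zpowers _))
  push Not at hall
  obtain ⟨g, hg⟩ := hall
  set b : H := g * a * g⁻¹ with hbdef
  set X : Subgroup H := closure {a, b} with hX
  have haX : a ∈ X := subset_closure (Set.mem_insert _ _)
  have hbX : b ∈ X := subset_closure (Set.mem_insert_of_mem _ (Set.mem_singleton _))
  have hgen : closure ({⟨a, haX⟩, ⟨b, hbX⟩} : Set X) = ⊤ := by
    refine map_injective X.subtype_injective ?_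
    rw [MonoidHom.map_closure, Set.image_pair, ← MonoidHom.range_eq_map, X.range_subtype]
    rfl
  have hb : ∀ v, f b (f b v - v) = f b v - v := by
    intro v
    set w := f g⁻¹ v with hw
    have hv : f g w = v := by rw [hw, ← h2, mul_inv_cancel, h1]
    have hbv : ∀ u, f b (f g u) = f g (f a u) := fun u => by
      rw [← h2, ← h2]
      simp [hbdef, mul_assoc]
    rw [← hv, hbv, ← map_sub, hbv, ha]
  obtain ⟨K1, π, hπ, hrel⟩ := exists_rel_of_pair (H := X) hp hgen (fun x => f x.1) h1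
    (fun x y v => h2 x.1 y.1 v) (fun x hx => Subtype.ext (hf x.1 hx)) ha hb (by
      intro hP
      refine hg ?_
      have h : A ⊔ MulAut.conj g • A = X := by
        rw [hX, Set.insert_eq, Subgroup.closure_union, ← zpowers_eq_closure,
          ← zpowers_eq_closure, hA]
        congr 1
        exact MonoidHom.map_zpowers (MulAut.conj g).toMonoidHom a
      rw [h]; exact hP)
  let R1 : K1 →* Module.End (ZMod p) M :=
    (zmodRep f h1 h2).comp (X.subtype.comp K1.subtype)
  obtain ⟨U, hU, g', hg', hequiv⟩ := exists_natural_of_rel R1 π hπ (fun c hc => by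
    let e : K1 ↪ X := ⟨Subtype.val, Subtype.val_injective⟩
    let c' : X → ZMod p := fun x => if h : x ∈ K1 then c ⟨x, h⟩ else 0
    have hc' : ∀ h : K1, c' h.1 = c h := fun h => by simp [c']
    have hs : ∀ x ∈ c.support.map e, x ∈ K1 := by
      intro x hx
      obtain ⟨h, -, rfl⟩ := Finset.mem_map.1 hx
      exact h.2
    have h0 := hrel (c.support.map e) c' hs (fun v => by
      rw [Finset.sum_map]
      have := LinearMap.congr_fun hc v
      rw [Finsupp.linearCombination_apply, Finsupp.sum, LinearMap.sum_apply] at this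
      refine Eq.trans ?_ this
      refine Finset.sum_congr rfl fun h _ => ?_
      show c' h.1 • f _ v = (c h • R1 h) v
      rw [hc']
      rfl)
    rw [Finsupp.linearCombination_apply, Finsupp.sum, ← Finset.sum_attach]
    refine Eq.trans ?_ h0
    refine Finset.sum_bij (fun h _ => ⟨e h.1, Finset.mem_map_of_mem e h.2⟩)
      (fun h _ => Finset.mem_attach _ _)
      (fun x _ y _ h => by exact Subtype.ext (e.injective (by simpa using h))) ?_ ?_
    · rintro ⟨x, hx⟩ -
      obtain ⟨h, hh, rfl⟩ := Finset.mem_map.1 hx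
      exact ⟨⟨h, hh⟩, Finset.mem_attach _ _, rfl⟩
    · intro h _
      show c h.1 • _ = c' h.1.1 • _
      rw [hc']
      rfl)
  let e : K1 ≃* ↥(K1.map X.subtype) := equivMapOfInjective _ _ X.subtype_injective
  have hval : ∀ h : ↥(K1.map X.subtype), ((e.symm h : X) : H) = (h : H) := fun h => by
    have := congrArg Subtype.val (e.apply_symm_apply h)
    exact this
  refine ⟨K1.map X.subtype, π.comp e.symm.toMonoidHom, hπ.comp e.symm.surjective, U.toAddSubgroup,
    fun h u hu => ?_, g'.toAddMonoidHom, hg', fun h u => ?_⟩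
  · have := hU (e.symm h) u hu
    rwa [show R1 (e.symm h) u = f (h : H) u by rw [← hval h]; rfl] at this
  · have := hequiv (e.symm h) u
    refine Eq.trans ?_ this
    exact congrArg g' (Subtype.ext (by show f (h : H) u = R1 (e.symm h) u; rw [← hval h]; rfl))

end natural

section qd

/-- the affine matrix -/
def affFun {p : ℕ} [Fact p.Prime] (x : S2 (ZMod p)) (w : Fin 2 → ZMod p) :
    Matrix.SpecialLinearGroup (Fin 3) (ZMod p) :=
  ⟨!![x.1 0 0, x.1 0 1, w 0; x.1 1 0, x.1 1 1, w 1; 0, 0, 1], by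
    have := x.2
    rw [Matrix.det_fin_two] at this
    rw [Matrix.det_fin_three]
    simp
    linear_combination this⟩

theorem affFun_mul {p : ℕ} [Fact p.Prime] (x y : S2 (ZMod p)) (v w : Fin 2 → ZMod p) :
    affFun (x * y) (v + Matrix.mulVec x.1 w) = affFun x v * affFun y w := by
  refine Subtype.ext ?_
  rw [Matrix.SpecialLinearGroup.coe_mul]
  ext i j
  fin_cases i <;> fin_cases j <;>
    simp [affFun, Matrix.mul_apply, Fin.sum_univ_two, Fin.sum_univ_three, Matrix.mulVec,
      dotProduct] <;> ring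

variable {G : Type*} [Group G] [Finite G] {p : ℕ} [Fact p.Prime]

/-- a quadratic element outside `O_p` on a normal elementary abelian `p`-subgroup gives `Qd(p)` -/
theorem involves_qd_of_quad (hp : p ≠ 2) (V : Subgroup G) [V.Normal]
    (hV : Cfsg.IsElementaryAbelian p V) {a : G} (hq : ⁅⁅V, zpowers a⁆, zpowers a⁆ = ⊥)
    (hna : (QuotientGroup.mk a : G ⧸ centralizer (V : Set G))
      ∉ Cfsg.pCore p (G ⧸ centralizer (V : Set G))) :
    Cfsg.Involves ↥(Cfsg.qd p) G := by
  classical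
  haveI := hV.1
  letI : Module (ZMod p) (Additive V) := AddCommGroup.zmodModule fun x => by
    refine Additive.toMul.injective ?_
    show (Additive.toMul x) ^ p = 1
    exact Subtype.ext (by simpa using hV.2 _ (Additive.toMul x).2)
  set C := centralizer (V : Set G) with hC
  let act : G → V →* V := fun g =>
    { toFun := fun v => ⟨g * v * g⁻¹, ‹V.Normal›.conj_mem v v.2 g⟩
      map_one' := Subtype.ext (by simp)
      map_mul' := fun v w => Subtype.ext (by simp [mul_assoc]) }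
  have hwd : ∀ x y : G, x⁻¹ * y ∈ C → act x = act y := by
    intro x y hxy
    refine MonoidHom.ext fun v => Subtype.ext ?_
    show x * v * x⁻¹ = y * v * y⁻¹
    have := mem_centralizer_iff.1 hxy (v : G) v.2
    calc x * v * x⁻¹ = x * (v * (x⁻¹ * y)) * y⁻¹ := by group
      _ = x * ((x⁻¹ * y) * v) * y⁻¹ := by rw [this]
      _ = y * v * y⁻¹ := by group
  let f : G ⧸ C → Additive V →+ Additive V := fun q =>
    Quotient.liftOn q (fun g => MonoidHom.toAdditive (act g))
      (fun x y hxy => by rw [hwd x y (QuotientGroup.leftRel_apply.1 hxy)])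
  obtain ⟨K0, π, hπ, U, hU, g, hg, hequiv⟩ := exists_natural_of_quad (M := Additive V) hp f
    (fun v => by
      refine Additive.toMul.injective (Subtype.ext ?_)
      show (1 : G) * (Additive.toMul v : V) * (1 : G)⁻¹ = _
      simp)
    (by
      rintro ⟨x⟩ ⟨y⟩ v
      refine Additive.toMul.injective (Subtype.ext ?_)
      show (x * y) * (Additive.toMul v : V) * (x * y)⁻¹
        = x * (y * (Additive.toMul v : V) * y⁻¹) * x⁻¹
      group)
    (by
      rintro ⟨x⟩ hx
      refine (QuotientGroup.eq_one_iff x).2 ?_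
      rw [hC, mem_centralizer_iff_conj]
      intro v hv
      exact congrArg (fun z : Additive V => ((Additive.toMul z : V) : G))
        (hx (Additive.ofMul ⟨v, hv⟩)))
    (a := QuotientGroup.mk a)
    (fun v => by
      refine Additive.toMul.injective (Subtype.ext ?_)
      show a * (a * (Additive.toMul v : V) * a⁻¹ / (Additive.toMul v : V)) * a⁻¹
        = a * (Additive.toMul v : V) * a⁻¹ / (Additive.toMul v : V)
      rw [div_eq_mul_inv]
      exact quad_fix hq (mem_zpowers a) (mem_zpowers a) (Additive.toMul v).2)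
    hna
  -- back to `G`
  set K1 : Subgroup G := K0.comap (QuotientGroup.mk' C) with hK1
  let πG : K1 →* S2 (ZMod p) := π.comp ((QuotientGroup.mk' C).subgroupComap K0)
  have hπG : Function.Surjective πG := hπ.comp (fun ⟨q, hq⟩ => by
    obtain ⟨x, rfl⟩ := QuotientGroup.mk'_surjective C q
    exact ⟨⟨x, hq⟩, rfl⟩)
  let UG : Subgroup K1 :=
    { carrier := {x | ∃ hx : (x : G) ∈ V, Additive.ofMul (⟨x, hx⟩ : V) ∈ U}
      one_mem' := ⟨V.one_mem, U.zero_mem⟩
      mul_mem' := by
        rintro x y ⟨hx, hxU⟩ ⟨hy, hyU⟩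
        exact ⟨V.mul_mem hx hy, U.add_mem hxU hyU⟩
      inv_mem' := by
        rintro x ⟨hx, hxU⟩
        exact ⟨V.inv_mem hx, U.neg_mem hxU⟩ }
  have hUval : ∀ u : U, ∃ x ∈ UG, ∃ hx : ((x : K1) : G) ∈ V,
      Additive.ofMul (⟨(x : G), hx⟩ : V) = u.1 := by
    intro u
    have hxV : ((Additive.toMul u.1 : V) : G) ∈ V := (Additive.toMul u.1).2
    have hxC : ((Additive.toMul u.1 : V) : G) ∈ C := le_centralizer V hxV
    have hx1 : ((Additive.toMul u.1 : V) : G) ∈ K1 := by
      rw [hK1, mem_comap, QuotientGroup.mk'_apply, (QuotientGroup.eq_one_iff _).2 hxC]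
      exact K0.one_mem
    exact ⟨⟨_, hx1⟩, ⟨hxV, u.2⟩, hxV, rfl⟩
  let gG : UG → (Fin 2 → ZMod p) := fun x => g ⟨Additive.ofMul ⟨x.1.1, x.2.1⟩, x.2.2⟩
  have hgG1 : ∀ x y : UG, gG (x * y) = gG x + gG y := fun x y => by
    rw [← map_add]; rfl
  have hnorm : ∀ (k : K1), ∀ x ∈ UG, k * x * k⁻¹ ∈ UG := by
    rintro k x ⟨hx, hxU⟩
    exact ⟨‹V.Normal›.conj_mem _ hx _, hU ⟨QuotientGroup.mk (k : G), k.2⟩ _ hxU⟩
  haveI hUGn : UG.Normal := ⟨fun x hx k => hnorm k x hx⟩
  have hgG2 : ∀ (k : K1) (x : UG),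
      gG ⟨k * x * k⁻¹, hnorm k x x.2⟩ = Matrix.mulVec (πG k).1 (gG x) := fun k x =>
    hequiv ⟨QuotientGroup.mk (k : G), k.2⟩ ⟨Additive.ofMul ⟨x.1.1, x.2.1⟩, x.2.2⟩
  have hπU : ∀ x ∈ UG, πG x = 1 := by
    rintro x ⟨hx, -⟩
    show π ⟨QuotientGroup.mk (x : G), _⟩ = 1
    convert map_one π using 2
    exact Subtype.ext ((QuotientGroup.eq_one_iff _).2 (le_centralizer V hx))
  -- a `2`-element over `-1`
  haveI : Fact (Nat.Prime 2) := ⟨Nat.prime_two⟩
  set E : Subgroup (S2 (ZMod p)) := zpowers (-1) with hE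
  haveI : E.Normal := ⟨fun z hz x => by
    obtain ⟨k, rfl⟩ := mem_zpowers_iff.1 hz
    have hc : Commute x ((-1 : S2 (ZMod p)) ^ k) :=
      (Commute.zpow_right (Commute.neg_one_right x) k)
    rw [hc.eq, mul_inv_cancel_right]
    exact zpow_mem (mem_zpowers _) k⟩
  set Z : Subgroup K1 := E.comap πG with hZ
  let R : Sylow 2 Z := default
  have hfr := R.normalizer_sup_eq_top (N := Z)
  set N := normalizer (((R : Subgroup Z).map Z.subtype : Subgroup K1) : Set K1) with hN
  have hEsurj : Function.Surjective (πG.subgroupComap E) := by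
    rintro ⟨z, hz⟩
    obtain ⟨k, rfl⟩ := hπG z
    exact ⟨⟨k, hz⟩, rfl⟩
  have hEp : IsPGroup 2 E := by
    refine IsPGroup.iff_card.2 ?_
    rw [hE, Nat.card_zpowers]
    obtain ⟨k, -, hk⟩ := (Nat.dvd_prime_pow Nat.prime_two).1
      (orderOf_dvd_of_pow_eq_one (show (-1 : S2 (ZMod p)) ^ 2 ^ 1 = 1 by simp))
    exact ⟨k, hk⟩
  obtain ⟨r, hr, hr1⟩ : ∃ r ∈ (R : Subgroup Z).map Z.subtype, πG r = -1 := by
    have htop : (Sylow.mapSurjective hEsurj R : Subgroup E) = ⊤ :=
      ((Sylow.mapSurjective hEsurj R).is_maximal'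
        (hEp.of_equiv Subgroup.topEquiv.symm) le_top).symm
    have hmem : (⟨-1, mem_zpowers _⟩ : E) ∈ (Sylow.mapSurjective hEsurj R : Subgroup E) :=
      htop ▸ mem_top _
    obtain ⟨z, hz, hz1⟩ := hmem
    exact ⟨z.1, mem_map_of_mem _ hz, congrArg Subtype.val hz1⟩
  have hrN : r ∈ N := le_normalizer hr
  have hπN : ∀ x, ∃ n ∈ N, πG n = x := by
    intro x
    obtain ⟨k, rfl⟩ := hπG x
    have hk : k ∈ N ⊔ Z := hfr ▸ mem_top k
    rw [← SetLike.mem_coe, mul_normal] at hk
    obtain ⟨n, hn, z, hz, rfl⟩ := hk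
    obtain ⟨j, hj⟩ := mem_zpowers_iff.1 (mem_comap.1 hz)
    refine ⟨n * r ^ j, N.mul_mem hn (zpow_mem hrN j), ?_⟩
    rw [map_mul, map_mul, map_zpow, hr1, hj]
  have hUN : ∀ x : UG, (x : K1) ∈ N → gG x = 0 := by
    intro x hxN
    have hc : (x : K1) * r * (x : K1)⁻¹ * r⁻¹ = 1 := by
      have h1 : (x : K1) * r * (x : K1)⁻¹ * r⁻¹ ∈ (R : Subgroup Z).map Z.subtype :=
        mul_mem ((mem_normalizer_iff.1 hxN r).1 hr) (inv_mem hr)
      have h2 : (x : K1) * r * (x : K1)⁻¹ * r⁻¹ ∈ UG := by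
        rw [show (x : K1) * r * (x : K1)⁻¹ * r⁻¹ = x * (r * (x : K1)⁻¹ * r⁻¹) by group]
        exact UG.mul_mem x.2 (hnorm r _ (UG.inv_mem x.2))
      have hUp : ∀ y ∈ UG, y ^ p = 1 := fun y hy =>
        Subtype.ext (by simpa using hV.2 _ hy.1)
      obtain ⟨k, hk⟩ := (R.isPGroup'.map Z.subtype) ⟨_, h1⟩
      rw [← orderOf_eq_one_iff]
      refine Nat.eq_one_of_dvd_coprimes ?_ (orderOf_dvd_of_pow_eq_one (hUp _ h2))
        (orderOf_dvd_of_pow_eq_one (congrArg Subtype.val hk))
      exact Nat.Coprime.pow_right k ((Nat.coprime_primes Fact.out Nat.prime_two).2 hp)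
    have hcomm : r * (x : K1) * r⁻¹ = x := by
      have := congrArg (fun z => z⁻¹ * (x : K1)) hc
      simp only [inv_one, one_mul, mul_inv_rev, inv_inv] at this
      simpa [mul_assoc] using this
    have h1 := hgG2 r x
    rw [show (⟨r * x * r⁻¹, hnorm r x x.2⟩ : UG) = x from Subtype.ext hcomm, hr1] at h1
    funext i
    have h2 := congrFun h1 i
    have h2' : gG x i = -(gG x i) := by
      refine h2.trans ?_
      fin_cases i <;> simp [Matrix.mulVec, dotProduct, Fin.sum_univ_two]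
    have hh2 : (2 : ZMod p) ≠ 0 := fun h0 =>
      hp ((Nat.prime_dvd_prime_iff_eq Fact.out Nat.prime_two).1
        ((ZMod.natCast_eq_zero_iff 2 p).1 (by simpa using h0)))
    exact (mul_eq_zero.1 (show (2 : ZMod p) * gG x i = 0 by linear_combination h2')).resolve_left hh2
  -- the homomorphism onto `Qd(p)`
  set Y : Subgroup K1 := UG ⊔ N with hY
  have hYmem : ∀ y : Y, ∃ (u : UG) (n : K1), n ∈ N ∧ (y : K1) = u * n := by
    rintro ⟨y, hy⟩
    rw [hY, ← SetLike.mem_coe, normal_mul] at hy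
    obtain ⟨u, hu, n, hn, rfl⟩ := hy
    exact ⟨⟨u, hu⟩, n, hn, rfl⟩
  choose uf nf hnf hyf using hYmem
  have hwell : ∀ (u u' : UG) (n n' : K1), n ∈ N → n' ∈ N → (u : K1) * n = u' * n' →
      affFun (πG n) (gG u) = affFun (πG n') (gG u') := by
    intro u u' n n' hn hn' h
    have hπ' : πG n = πG n' := by
      have := congrArg πG h
      rwa [map_mul, map_mul, hπU _ u.2, hπU _ u'.2, one_mul, one_mul] at this
    set d : UG := u'⁻¹ * u with hd
    have hdN : (d : K1) ∈ N := by
      have : (d : K1) = n' * n⁻¹ := by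
        simp only [hd, Subgroup.coe_mul, Subgroup.coe_inv]
        rw [eq_mul_inv_iff_mul_eq, mul_assoc, h, inv_mul_cancel_left]
      rw [this]
      exact N.mul_mem hn' (N.inv_mem hn)
    have h0 := hgG1 u' d
    rw [hd, mul_inv_cancel_left, hUN _ hdN, add_zero] at h0
    rw [h0, hπ']
  let F : Y →* Matrix.SpecialLinearGroup (Fin 3) (ZMod p) :=
    MonoidHom.mk' (fun y => affFun (πG (nf y)) (gG (uf y))) fun y y' => by
      rw [← affFun_mul, ← map_mul,
        ← hgG2 (nf y) (uf y'), ← hgG1]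
      refine hwell _ _ _ _ (hnf _) (N.mul_mem (hnf y) (hnf y')) ?_
      rw [← hyf, Subgroup.coe_mul, hyf y, hyf y', Subgroup.coe_mul]
      group
  have hF : ∀ (u : UG) (n : K1) (hn : n ∈ N) (h : (u : K1) * n ∈ Y),
      F ⟨u * n, h⟩ = affFun (πG n) (gG u) := fun u n hn h =>
    hwell _ _ _ _ (hnf _) hn (hyf ⟨u * n, h⟩).symm
  have hrange : (F.range : Set _) = {M : Matrix.SpecialLinearGroup (Fin 3) (ZMod p) |
      M.1 2 0 = 0 ∧ M.1 2 1 = 0 ∧ M.1 2 2 = 1} := by
    ext M
    constructor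
    · rintro ⟨y, rfl⟩
      exact ⟨rfl, rfl, rfl⟩
    · rintro ⟨h20, h21, h22⟩
      have hdet : M.1 0 0 * M.1 1 1 - M.1 0 1 * M.1 1 0 = 1 := by
        have := M.2
        rw [Matrix.det_fin_three, h20, h21, h22] at this
        linear_combination this
      let x : S2 (ZMod p) := ⟨!![M.1 0 0, M.1 0 1; M.1 1 0, M.1 1 1], by
        rw [Matrix.det_fin_two_of]; exact hdet⟩
      obtain ⟨n, hn, hnx⟩ := hπN x
      obtain ⟨u0, hu0⟩ := hg ![M.1 0 2, M.1 1 2]
      obtain ⟨u, hu, hxV, hval⟩ := hUval u0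
      have hgu : gG ⟨u, hu⟩ = ![M.1 0 2, M.1 1 2] := by
        rw [← hu0]
        exact congrArg g (Subtype.ext hval)
      refine ⟨⟨u * n, mul_mem_sup hu hn⟩, ?_⟩
      rw [hF ⟨u, hu⟩ n hn, hnx, hgu]
      refine Subtype.ext ?_
      ext i j
      fin_cases i <;> fin_cases j <;> simp [affFun, x, h20, h21, h22]
  have hqd : F.range = Cfsg.qd p := by
    rw [Cfsg.qd, ← hrange, Subgroup.closure_eq]
  set Y' : Subgroup G := Y.map K1.subtype with hY'
  let e : Y ≃* Y' := equivMapOfInjective _ _ K1.subtype_injective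
  let F' : Y' →* Cfsg.qd p :=
    ((MulEquiv.subgroupCongr hqd).toMonoidHom.comp F.rangeRestrict).comp e.symm.toMonoidHom
  have hF' : Function.Surjective F' :=
    ((MulEquiv.subgroupCongr hqd).surjective.comp F.rangeRestrict_surjective).comp e.symm.surjective
  have he : (F'.ker.map Y'.subtype).subgroupOf Y' = F'.ker :=
    comap_map_eq_self_of_injective (Subgroup.subtype_injective _) _
  haveI hn : ((F'.ker.map Y'.subtype).subgroupOf Y').Normal := by rw [he]; infer_instance
  exact ⟨Y', F'.ker.map Y'.subtype, hn, ⟨(QuotientGroup.quotientMulEquivOfEq he).trans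
    (QuotientGroup.quotientKerEquivOfSurjective F' hF')⟩⟩

end qd

end CfsgLib.PLocal.SLTwo
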