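import Cfsg.Agent.Lib.PLocal.SLTwo.Rep
import Cfsg.Agent.Lib.PLocal.Quadratic
import Cfsg.Agent.Lib.PLocal.PSolvable
import Cfsg.Agent.Lib.Core.Zipper
import Cfsg.Agent.Lib.Components.Radicals
import Mathlib.RingTheory.TensorProduct.Free
import Mathlib.FieldTheory.IsAlgClosed.AlgebraicClosure
import Mathlib.GroupTheory.Commutator.Finite
import Mathlib.LinearAlgebra.Matrix.SpecialLinearGroup

/-!
# A quadratic pair generating a non-`p`-group has a section `SL(2, p)`
-/

set_option autoImplicit false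

namespace CfsgLib.PLocal.SLTwo

open Subgroup TensorProduct
open scoped Pointwise IsMulCommutative
open scoped commutatorElement

section
variable {G : Type*} [Group G]

/-- `H` has a section isomorphic to `SL(2, p)`, recorded inside the ambient group -/
def HasSLTwo (p : ℕ) (H : Subgroup G) : Prop :=
  ∃ (K L : Subgroup G) (hL : (L.subgroupOf K).Normal), K ≤ H ∧
    Nonempty ((K ⧸ L.subgroupOf K) ≃* Matrix.SpecialLinearGroup (Fin 2) (ZMod p))

theorem HasSLTwo.mono {p : ℕ} {H H' : Subgroup G} (h : HasSLTwo p H) (hle : H ≤ H') :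
    HasSLTwo p H' := by
  obtain ⟨K, L, hL, hK, e⟩ := h
  exact ⟨K, L, hL, hK.trans hle, e⟩

theorem hasSLTwo_of_hom {p : ℕ} {H : Subgroup G} {K0 : Subgroup H}
    (π : K0 →* Matrix.SpecialLinearGroup (Fin 2) (ZMod p)) (hπ : Function.Surjective π) :
    HasSLTwo p H := by
  let e : K0 ≃* ↥(K0.map H.subtype) := equivMapOfInjective _ _ H.subtype_injective
  let π' : ↥(K0.map H.subtype) →* Matrix.SpecialLinearGroup (Fin 2) (ZMod p) :=
    π.comp e.symm.toMonoidHom
  have hπ' : Function.Surjective π' := hπ.comp e.symm.surjective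
  have he : (π'.ker.map (K0.map H.subtype).subtype).subgroupOf (K0.map H.subtype) = π'.ker :=
    comap_map_eq_self_of_injective (Subgroup.subtype_injective _) _
  refine ⟨K0.map H.subtype, π'.ker.map (K0.map H.subtype).subtype, ?_, map_subtype_le K0, ?_⟩
  · rw [he]; infer_instance
  · haveI : ((π'.ker.map (K0.map H.subtype).subtype).subgroupOf (K0.map H.subtype)).Normal := by
      rw [he]; infer_instance
    exact ⟨(QuotientGroup.quotientMulEquivOfEq he).trans
      (QuotientGroup.quotientKerEquivOfSurjective π' hπ')⟩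

theorem exists_hom_of_hasSLTwo {p : ℕ} {H : Subgroup G} (h : HasSLTwo p H) :
    ∃ (K : Subgroup G) (π : K →* Matrix.SpecialLinearGroup (Fin 2) (ZMod p)),
      K ≤ H ∧ Function.Surjective π := by
  obtain ⟨K, L, hL, hK, ⟨e⟩⟩ := h
  exact ⟨K, e.toMonoidHom.comp (QuotientGroup.mk' (L.subgroupOf K)), hK,
    e.surjective.comp (QuotientGroup.mk'_surjective _)⟩

/-- a finite group with a section `SL(2, p)`, `p` odd, has non-abelian Sylow `2`-subgroups -/
theorem HasSLTwo.not_comm_sylow [Finite G] {p : ℕ} [Fact p.Prime] (hp : p ≠ 2) {H : Subgroup G}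
    (h : HasSLTwo p H) (T : Sylow 2 H) : ¬ IsMulCommutative T := by
  intro hT
  obtain ⟨K, π, hK, hπ⟩ := exists_hom_of_hasSLTwo h
  obtain ⟨i, j, hi, hj, hij, hne⟩ := exists_quaternion (p := p) hp
  haveI : Fact (Nat.Prime 2) := ⟨Nat.prime_two⟩
  haveI : Finite (Matrix.SpecialLinearGroup (Fin 2) (ZMod p)) :=
    Finite.of_surjective π hπ
  have hpow : ∀ x : S2 (ZMod p), x ^ 2 = -1 → IsPGroup 2 (zpowers x) := by
    intro x hx
    refine IsPGroup.iff_card.2 ?_
    rw [Nat.card_zpowers]
    have h4 : x ^ (2 ^ 2) = 1 := by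
      rw [show (2 : ℕ) ^ 2 = 2 * 2 from rfl, pow_mul, hx]; simp
    obtain ⟨k, -, hk⟩ := (Nat.dvd_prime_pow Nat.prime_two).1 (orderOf_dvd_of_pow_eq_one h4)
    exact ⟨k, hk⟩
  have hji : i * j * i⁻¹ = j⁻¹ := by
    have h1 : j⁻¹ = -j := inv_eq_of_mul_eq_one_right (by rw [mul_neg, ← pow_two, hj, neg_neg])
    rw [h1, hij, neg_mul, mul_inv_cancel_right]
  have hn : zpowers i ≤ normalizer (zpowers j : Set (S2 (ZMod p))) := by
    rw [zpowers_le]
    refine mem_normalizer_iff_map_conj_eq.2 ?_
    show (zpowers j).map (MulAut.conj i).toMonoidHom = zpowers j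
    rw [MonoidHom.map_zpowers]
    show zpowers (i * j * i⁻¹) = zpowers j
    rw [hji, zpowers_inv]
  have hP : IsPGroup 2 ↥(zpowers i ⊔ zpowers j) :=
    (hpow i hi).to_sup_of_normal_right' (hpow j hj) hn
  obtain ⟨P, hPle⟩ := hP.exists_le_sylow
  obtain ⟨Q, hQ⟩ := Sylow.mapSurjective_surjective hπ 2 P
  have hQP : (P : Subgroup (S2 (ZMod p))) = (Q : Subgroup K).map π := by
    rw [← hQ]; rfl
  obtain ⟨x, hx, hxi⟩ := (hQP.le (hPle (mem_sup_left (mem_zpowers i))) : i ∈ (Q : Subgroup K).map π)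
  obtain ⟨y, hy, hyj⟩ := (hQP.le (hPle (mem_sup_right (mem_zpowers j))) : j ∈ (Q : Subgroup K).map π)
  have hQ2 : IsPGroup 2 ↥((Q : Subgroup K).map (Subgroup.inclusion hK)) := Q.isPGroup'.map _
  obtain ⟨R, hR⟩ := hQ2.exists_le_sylow
  haveI := hT
  have hRc : IsMulCommutative (R : Subgroup H) := by
    obtain ⟨g, rfl⟩ := MulAction.exists_smul_eq H T R
    exact ⟨⟨fun a b => (T.equivSMul g).symm.injective (by
      rw [map_mul, map_mul]; exact mul_comm' _ _)⟩⟩
  have hcomm := congrArg Subtype.val (hRc.is_comm.comm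
    ⟨_, hR (mem_map_of_mem _ hx)⟩ ⟨_, hR (mem_map_of_mem _ hy)⟩)
  have hxy : x * y = y * x := inclusion_injective hK (by simpa using hcomm)
  refine hne ?_
  rw [← hxi, ← hyj, ← map_mul, ← map_mul, hxy]

/-- `SL(2, p)` is not `p`-soluble for `p ≥ 5` -/
theorem eq_three_of_hasSLTwo [Finite G] {p : ℕ} [Fact p.Prime] (hp : p ≠ 2) {H : Subgroup G}
    (hsep : Cfsg.IsPSolvable p H) (h : HasSLTwo p H) : p = 3 := by
  classical
  have hpp : p.Prime := Fact.out
  obtain ⟨K, π, hK, hπ⟩ := exists_hom_of_hasSLTwo h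
  have hK' : Cfsg.IsPSolvable p K :=
    isPSolvable_congr (subgroupOfEquivOfLe hK) (isPSolvable_subgroup hsep (K.subgroupOf H))
  obtain ⟨n, S, h0, hlast, hmono, hnorm, hstep⟩ := isPSolvable_of_surjective π hπ hK'
  by_contra h3
  have h5 : 5 ≤ p := by
    have h2 := hpp.two_le
    have h4 : p ≠ 4 := by rintro rfl; norm_num at hpp
    omega
  haveI : Fact (5 ≤ p) := ⟨h5⟩
  have hperf : commutator (S2 (ZMod p)) = ⊤ := by
    have h3' : ¬ p ∣ 3 := fun h => by have := Nat.le_of_dvd (by norm_num) h; omega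
    have h2' : ¬ p ∣ 2 := fun h => by have := Nat.le_of_dvd (by norm_num) h; omega
    refine Matrix.SL2.commutator_eq_top (a := (2 : ZMod p)) ?_ ?_
    · exact fun h0 => h2' ((ZMod.natCast_eq_zero_iff 2 p).1 (by simpa using h0))
    · intro h0
      refine h3' ((ZMod.natCast_eq_zero_iff 3 p).1 ?_)
      push_cast
      linear_combination h0
  have key : ∀ i, S i = ⊤ := by
    intro i
    induction i using Fin.reverseInduction with
    | last => exact hlast
    | cast i ih =>
      haveI := hnorm i.castSucc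
      rcases hstep i with ⟨m, hm⟩ | hm
      · rw [ih, relIndex_top_right] at hm
        have hPq : IsPGroup p (S2 (ZMod p) ⧸ S i.castSucc) := IsPGroup.iff_card.2 ⟨m, hm⟩
        haveI := hPq.isNilpotent
        by_contra hne
        haveI : Nontrivial (S2 (ZMod p) ⧸ S i.castSucc) :=
          QuotientGroup.nontrivial_iff.2 hne
        have hlt := IsSolvable.commutator_lt_top_of_nontrivial (S2 (ZMod p) ⧸ S i.castSucc)
        have hcm : commutator (S2 (ZMod p) ⧸ S i.castSucc) = ⊤ := by
          rw [commutator_def, ← map_top_of_surjective _ (QuotientGroup.mk'_surjective (S i.castSucc)),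
            ← map_commutator, ← commutator_def, hperf,
            map_top_of_surjective _ (QuotientGroup.mk'_surjective _)]
        exact hlt.ne hcm
      · rw [ih, relIndex_top_right] at hm
        refine eq_top_iff.2 ?_
        rw [← closure_U_Lo p, closure_le]
        have hmem : ∀ x : S2 (ZMod p), x ^ p = 1 → x ∈ S i.castSucc := by
          intro x hx
          rw [← QuotientGroup.eq_one_iff, ← orderOf_eq_one_iff]
          refine Nat.eq_one_of_dvd_coprimes hm (orderOf_dvd_natCard _) ?_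
          refine (orderOf_map_dvd (QuotientGroup.mk' (S i.castSucc)) x).trans ?_
          exact orderOf_dvd_of_pow_eq_one hx
        rintro x (hx | hx)
        · subst hx
          exact hmem _ (by rw [U_pow, mul_one, ZMod.natCast_self, U_zero])
        · rw [Set.mem_singleton_iff] at hx
          subst hx
          exact hmem _ (by rw [Lo_pow, mul_one, ZMod.natCast_self, Lo_zero])
  have h1 : (U 1 : S2 (ZMod p)) ∈ S 0 := key 0 ▸ mem_top _
  rw [h0, mem_bot] at h1
  simpa using congrArg (fun z : S2 (ZMod p) => z.1 0 1) h1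

end

section
variable {H : Type*} [Group H] {p : ℕ} [Fact p.Prime] {M : Type*} [AddCommGroup M]
  [Module (ZMod p) M]

/-- a representation over `ZMod p` from additive maps -/
def zmodRep (f : H → M →+ M) (h1 : ∀ v, f 1 v = v) (h2 : ∀ x y v, f (x * y) v = f x (f y v)) :
    H →* Module.End (ZMod p) M where
  toFun h := AddMonoidHom.toZModLinearMap p (f h)
  map_one' := LinearMap.ext fun v => h1 v
  map_mul' x y := LinearMap.ext fun v => h2 x y v

theorem zmodRep_apply {f : H → M →+ M} (h1 : ∀ v, f 1 v = v)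
    (h2 : ∀ x y v, f (x * y) v = f x (f y v)) (h : H) (v : M) :
    zmodRep (p := p) f h1 h2 h v = f h v := rfl

/-- over an algebraically closed field -/
theorem exists_surjective_of_rep {K : Type*} [Field K] [IsAlgClosed K] [CharP K p] [Finite H]
    {W : Type*} [AddCommGroup W] [Module K W] [FiniteDimensional K W] [Nontrivial W] (hp : p ≠ 2)
    {a b : H} (hgen : closure ({a, b} : Set H) = ⊤) (ρ : H →* Module.End K W)
    (ha : (ρ a - 1) * (ρ a - 1) = 0) (hb : (ρ b - 1) * (ρ b - 1) = 0) (hnA : ¬ ActP p ρ) :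
    ∃ (K0 : Subgroup H) (π : K0 →* S2 (ZMod p)), Function.Surjective π := by
  obtain ⟨φ, ⟨hta, htb, hne⟩, -⟩ := exists_hom_two hgen ρ ha hb
    (minpoly K (ρ (a * b))) (minpoly.ne_zero (Algebra.IsIntegral.isIntegral _))
    (IsAlgClosed.splits _) (minpoly.aeval _ _) hnA
  haveI : Finite φ.range := Finite.of_surjective φ.rangeRestrict φ.rangeRestrict_surjective
  obtain ⟨ψ, hψ, hψL⟩ := exists_hom_SLTwo hp φ.range ⟨_, rfl⟩ ⟨_, rfl⟩ hta htb hne
  refine ⟨ψ.range.comap φ,
    (MonoidHom.ofInjective hψ).symm.toMonoidHom.comp (φ.subgroupComap ψ.range), ?_⟩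
  refine (MonoidHom.ofInjective hψ).symm.surjective.comp ?_
  rintro ⟨x, hx⟩
  obtain ⟨y, rfl⟩ := hψL hx
  exact ⟨⟨y, hx⟩, rfl⟩


/-- the linear version: a faithful quadratic pair generating a non-`p`-group maps onto `SL(2, p)`
on a subgroup -/
theorem exists_surjective_of_pair' (K : Type*) [Field K] [IsAlgClosed K] [Algebra (ZMod p) K]
    [CharP K p] [Finite H] [Finite M] (hp : p ≠ 2) {a b : H}
    (hgen : closure ({a, b} : Set H) = ⊤) (R : H →* Module.End (ZMod p) M)
    (hR : ∀ h, R h = 1 → h = 1) (ha : (R a - 1) * (R a - 1) = 0) (hb : (R b - 1) * (R b - 1) = 0)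
    (hnp : ¬ IsPGroup p H) :
    ∃ (K0 : Subgroup H) (π : K0 →* S2 (ZMod p)), Function.Surjective π := by
  classical
  let ρ : H →* Module.End K (K ⊗[ZMod p] M) :=
    (Module.End.baseChangeHom (ZMod p) K M).toMonoidHom.comp R
  have hρ1 : ∀ h : H, ρ h = 1 → R h = 1 := by
    intro h hh
    have hinj : Function.Injective (fun v : M => (1 : K) ⊗ₜ[ZMod p] v) := by
      let B := Module.Free.chooseBasis (ZMod p) M
      intro v w hvw
      refine B.ext_elem fun i => (algebraMap (ZMod p) K).injective ?_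
      have := congrArg (fun z => (Algebra.TensorProduct.basis K B).repr z i) hvw
      simpa [Algebra.TensorProduct.basis_repr_tmul, ← Algebra.algebraMap_eq_smul_one] using this
    refine LinearMap.ext fun v => hinj ?_
    have h' := LinearMap.congr_fun hh ((1 : K) ⊗ₜ[ZMod p] v)
    exact h'
  have hquad : ∀ c : H, (R c - 1) * (R c - 1) = 0 → (ρ c - 1) * (ρ c - 1) = 0 := by
    intro c h0
    refine Eq.trans ?_ ((congrArg (Module.End.baseChangeHom (ZMod p) K M) h0).trans (map_zero _))
    refine Eq.symm ((map_mul _ _ _).trans ?_)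
    congr 1 <;> refine (map_sub _ _ _).trans ?_ <;> congr 1 <;> exact map_one _
  haveI : Nontrivial (K ⊗[ZMod p] M) := by
    by_contra hcon
    rw [not_nontrivial_iff_subsingleton] at hcon
    refine hnp fun h => ⟨0, ?_⟩
    rw [pow_zero, pow_one]
    exact hR h (hρ1 h (LinearMap.ext fun x => Subsingleton.elim _ _))
  have hnA : ¬ ActP p ρ := fun hA => hnp fun h => by
    obtain ⟨k, hk⟩ := hA h
    exact ⟨k, hR _ (hρ1 _ (by rw [map_pow, hk]))⟩
  exact exists_surjective_of_rep (W := K ⊗[ZMod p] M) hp hgen ρ (hquad a ha) (hquad b hb) hnA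

/-- `exists_surjective_of_pair'` in terms of additive maps -/
theorem exists_surjective_of_pair [Finite H] [Finite M] (hp : p ≠ 2) {a b : H}
    (hgen : closure ({a, b} : Set H) = ⊤) (f : H → M →+ M) (h1 : ∀ v, f 1 v = v)
    (h2 : ∀ x y v, f (x * y) v = f x (f y v)) (hf : ∀ h, (∀ v, f h v = v) → h = 1)
    (ha : ∀ v, f a (f a v - v) = f a v - v) (hb : ∀ v, f b (f b v - v) = f b v - v)
    (hnp : ¬ IsPGroup p H) :
    ∃ (K0 : Subgroup H) (π : K0 →* S2 (ZMod p)), Function.Surjective π := by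
  haveI : CharP (AlgebraicClosure (ZMod p)) p :=
    charP_of_injective_algebraMap (algebraMap (ZMod p) (AlgebraicClosure (ZMod p))).injective p
  have hsq : ∀ c, (∀ v, f c (f c v - v) = f c v - v) →
      (zmodRep f h1 h2 c - 1) * (zmodRep (p := p) f h1 h2 c - 1) = 0 := by
    intro c hc
    refine LinearMap.ext fun v => ?_
    rw [Module.End.mul_apply, LinearMap.sub_apply, LinearMap.sub_apply, Module.End.one_apply,
      Module.End.one_apply, LinearMap.zero_apply, zmodRep_apply, zmodRep_apply, hc, sub_self]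
  exact exists_surjective_of_pair' (AlgebraicClosure (ZMod p)) hp hgen (zmodRep f h1 h2)
    (fun h hh => hf h fun v => LinearMap.congr_fun hh v) (hsq a ha) (hsq b hb) hnp

end

variable {G : Type*} [Group G] [Finite G]

theorem pow_p_eq_one_of_quad {p : ℕ} {V H : Subgroup G} (hV : Cfsg.IsElementaryAbelian p V)
    (hHV : H ≤ normalizer (V : Set G)) (hf : H ⊓ centralizer (V : Set G) = ⊥) {a : G}
    (haH : a ∈ H) (hq : ⁅⁅V, zpowers a⁆, zpowers a⁆ = ⊥) : a ^ p = 1 := by
  have h := quad_pow_mem hV ((zpowers_le.2 haH).trans hHV) hq (mem_zpowers a)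
  exact mem_bot.1 (hf ▸ ⟨H.pow_mem haH p, h⟩)

/-- **Glauberman's lemma**: a quadratic pair generating a non-`p`-group -/
theorem hasSLTwo_of_pair {p : ℕ} [Fact p.Prime] (hp : p ≠ 2) (V H : Subgroup G)
    (hV : Cfsg.IsElementaryAbelian p V) (hHV : H ≤ normalizer (V : Set G))
    (hf : H ⊓ centralizer (V : Set G) = ⊥) {a b : G} (hab : H = closure {a, b})
    (ha : ⁅⁅V, zpowers a⁆, zpowers a⁆ = ⊥) (hb : ⁅⁅V, zpowers b⁆, zpowers b⁆ = ⊥)
    (hnp : ¬ IsPGroup p H) : HasSLTwo p H := by
  classical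
  haveI := hV.1
  letI : Module (ZMod p) (Additive V) := AddCommGroup.zmodModule fun x => by
    refine Additive.toMul.injective ?_
    show (Additive.toMul x) ^ p = 1
    exact Subtype.ext (by simpa using hV.2 _ (Additive.toMul x).2)
  let mk : ∀ h : H, V →* V := fun h =>
    { toFun := fun v => ⟨h * v * (h : G)⁻¹, conj_mem hHV h.2 v.2⟩
      map_one' := Subtype.ext (by simp)
      map_mul' := fun v w => Subtype.ext (by simp [mul_assoc]) }
  have haH : a ∈ H := hab ▸ subset_closure (Set.mem_insert _ _)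
  have hbH : b ∈ H := hab ▸ subset_closure (Set.mem_insert_of_mem _ (Set.mem_singleton _))
  have hquad : ∀ (c : G) (hc : c ∈ H), ⁅⁅V, zpowers c⁆, zpowers c⁆ = ⊥ →
      ∀ v : Additive V, MonoidHom.toAdditive (mk ⟨c, hc⟩) (MonoidHom.toAdditive (mk ⟨c, hc⟩) v - v)
        = MonoidHom.toAdditive (mk ⟨c, hc⟩) v - v := by
    intro c hc hq v
    refine Additive.toMul.injective (Subtype.ext ?_)
    show c * (c * (Additive.toMul v : V) * c⁻¹ / (Additive.toMul v : V)) * c⁻¹
      = c * (Additive.toMul v : V) * c⁻¹ / (Additive.toMul v : V)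
    rw [div_eq_mul_inv]
    exact quad_fix hq (mem_zpowers c) (mem_zpowers c) (Additive.toMul v).2
  have hgen : closure ({⟨a, haH⟩, ⟨b, hbH⟩} : Set H) = ⊤ := by
    refine map_injective H.subtype_injective ?_
    rw [MonoidHom.map_closure, Set.image_pair, ← MonoidHom.range_eq_map, H.range_subtype]
    exact hab.symm
  obtain ⟨K0, π, hπ⟩ := exists_surjective_of_pair (M := Additive V) hp hgen
    (fun h => MonoidHom.toAdditive (mk h))
    (fun v => Additive.toMul.injective (Subtype.ext (by simp [mk])))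
    (fun x y v => Additive.toMul.injective (Subtype.ext (by simp [mk, mul_assoc])))
    (fun h hh => by
      refine Subtype.ext (mem_bot.1 (hf ▸ ⟨h.2, ?_⟩))
      show (h : G) ∈ centralizer (V : Set G)
      rw [mem_centralizer_iff_conj]
      intro v hv
      exact congrArg (fun z : Additive V => ((Additive.toMul z : V) : G))
        (hh (Additive.ofMul ⟨v, hv⟩)))
    (hquad a haH ha) (hquad b hbH hb) hnp
  exact hasSLTwo_of_hom π hπ

/-- Baer–Suzuki: a quadratic element outside `O_p` is half of a quadratic pair -/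
theorem hasSLTwo_of_not_mem {p : ℕ} [Fact p.Prime] (hp : p ≠ 2) (V H : Subgroup G)
    (hV : Cfsg.IsElementaryAbelian p V) (hHV : H ≤ normalizer (V : Set G))
    (hf : H ⊓ centralizer (V : Set G) = ⊥) {a : G} (haH : a ∈ H)
    (hq : ⁅⁅V, zpowers a⁆, zpowers a⁆ = ⊥) (hna : a ∉ (Cfsg.pCore p H).map H.subtype) :
    HasSLTwo p H := by
  classical
  have hap : a ^ p = 1 := pow_p_eq_one_of_quad hV hHV hf haH hq
  set A : Subgroup H := zpowers ⟨a, haH⟩ with hA
  by_cases hall : ∀ g : H, IsPGroup p ↥(A ⊔ MulAut.conj g • A)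
  · exfalso
    have hsn := (CfsgLib.Core.isSubnormal_of_nilpotent_join fun g => (hall g).isNilpotent).1
    have hAp : IsPGroup p A := (hall 1).to_le le_sup_left
    exact hna ⟨_, Components.subnormal_pGroup_le_pCore hsn hAp (mem_zpowers _), rfl⟩
  · push_neg at hall
    obtain ⟨g, hg⟩ := hall
    set b : G := (g : G) * a * (g : G)⁻¹ with hb
    have hgH : MulAut.conj g • A = zpowers (g * ⟨a, haH⟩ * g⁻¹) := by
      rw [hA]
      exact MonoidHom.map_zpowers (MulAut.conj g).toMonoidHom _
    have hbH : b ∈ H := H.mul_mem (H.mul_mem g.2 haH) (H.inv_mem g.2)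
    have hle : closure {a, b} ≤ H := (closure_le _).2 (by
      rintro x (rfl | rfl)
      exacts [haH, hbH])
    have hqb : ⁅⁅V, zpowers b⁆, zpowers b⁆ = ⊥ := by
      have h1 : zpowers b = (zpowers a).map (MulAut.conj (g : G)).toMonoidHom :=
        (MonoidHom.map_zpowers (MulAut.conj (g : G)).toMonoidHom a).symm
      have h2 : V.map (MulAut.conj (g : G)).toMonoidHom = V :=
        mem_normalizer_iff_map_conj_eq.1 (hHV g.2)
      rw [h1]
      conv_lhs => rw [← h2]
      rw [← map_commutator, ← map_commutator, hq, Subgroup.map_bot]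
    refine (hasSLTwo_of_pair hp V _ hV (hle.trans hHV)
      (le_bot_iff.1 ((inf_le_inf_right _ hle).trans hf.le)) rfl hq hqb ?_).mono hle
    intro hP
    refine hg ?_
    have h1 : (A ⊔ MulAut.conj g • A).map H.subtype = closure {a, b} := by
      rw [Subgroup.map_sup, hgH, hA, MonoidHom.map_zpowers, MonoidHom.map_zpowers,
        zpowers_eq_closure, zpowers_eq_closure, ← Subgroup.closure_union, Set.singleton_union]
      rfl
    exact (h1 ▸ hP).of_equiv
      (equivMapOfInjective (A ⊔ MulAut.conj g • A) H.subtype H.subtype_injective).symm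

end CfsgLib.PLocal.SLTwo
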