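import Cfsg.Agent.Lib.PLocal.SLTwo.Generation
import Mathlib.LinearAlgebra.Eigenspace.Minpoly
import Mathlib.LinearAlgebra.FiniteDimensional.Basic
import Mathlib.LinearAlgebra.Matrix.ToLin

/-!
# A non-`p` group generated by two quadratic elements maps to `SL(2, K)`
-/

set_option autoImplicit false

namespace CfsgLib.PLocal.SLTwo

open Polynomial

variable {K : Type*} [Field K] {p : ℕ} [Fact p.Prime] [CharP K p]
variable {H : Type*} [Group H]

/-- every element acts as a `p`-element -/
def ActP (p : ℕ) {W : Type*} [AddCommGroup W] [Module K W] (ρ : H →* Module.End K W) : Prop :=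
  ∀ h : H, ∃ k : ℕ, ρ h ^ p ^ k = 1

section

variable {W : Type*} [AddCommGroup W] [Module K W]

theorem invariant_of_generators [FiniteDimensional K W] {ρ : H →* Module.End K W} {a b : H}
    (hgen : Subgroup.closure {a, b} = ⊤) {U : Submodule K W}
    (ha : ∀ w ∈ U, ρ a w ∈ U) (hb : ∀ w ∈ U, ρ b w ∈ U) (h : H) : ∀ w ∈ U, ρ h w ∈ U := by
  have hh : h ∈ Subgroup.closure {a, b} := hgen ▸ Subgroup.mem_top h
  induction hh using Subgroup.closure_induction with
  | mem x hx => rcases hx with rfl | rfl; exacts [ha, hb]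
  | one => simp
  | mul x y _ _ hx hy => intro w hw; rw [map_mul]; exact hx _ (hy _ hw)
  | inv x _ hx =>
    intro w hw
    let f : U →ₗ[K] U := (ρ x).restrict hx
    have hinj : Function.Injective f := by
      intro u v huv
      refine Subtype.ext ?_
      have h1 : ρ x (u : W) = ρ x (v : W) := congrArg Subtype.val huv
      have h2 := congrArg (ρ x⁻¹) h1
      rwa [← Module.End.mul_apply, ← Module.End.mul_apply, ← map_mul, inv_mul_cancel, map_one] at h2
    obtain ⟨u, hu⟩ := (LinearMap.injective_iff_surjective.1 hinj) ⟨w, hw⟩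
    have h1 : ρ x (u : W) = w := congrArg Subtype.val hu
    rw [← h1, ← Module.End.mul_apply, ← map_mul, inv_mul_cancel, map_one]
    exact u.2

/-- the restriction to an invariant subspace -/
noncomputable def subRep (ρ : H →* Module.End K W) (U : Submodule K W)
    (hU : ∀ h, ∀ w ∈ U, ρ h w ∈ U) : H →* Module.End K U where
  toFun h := (ρ h).restrict (hU h)
  map_one' := by ext x; simp [LinearMap.restrict_apply]
  map_mul' x y := by ext z; simp [LinearMap.restrict_apply]

theorem subRep_apply {ρ : H →* Module.End K W} {U : Submodule K W}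
    (hU : ∀ h, ∀ w ∈ U, ρ h w ∈ U) (h : H) (x : U) : (subRep ρ U hU h x : W) = ρ h (x : W) := rfl

/-- the action on the quotient by an invariant subspace -/
noncomputable def quotRep (ρ : H →* Module.End K W) (U : Submodule K W)
    (hU : ∀ h, ∀ w ∈ U, ρ h w ∈ U) : H →* Module.End K (W ⧸ U) where
  toFun h := U.mapQ U (ρ h) (hU h)
  map_one' := by
    refine Submodule.linearMap_qext _ ?_
    ext x; simp
  map_mul' x y := by
    refine Submodule.linearMap_qext _ ?_
    ext z; simp

theorem quotRep_mk {ρ : H →* Module.End K W} {U : Submodule K W}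
    (hU : ∀ h, ∀ w ∈ U, ρ h w ∈ U) (h : H) (x : W) :
    quotRep ρ U hU h (Submodule.Quotient.mk x) = Submodule.Quotient.mk (ρ h x) := rfl

theorem pow_p_of_sq_eq_zero [Nontrivial W] {x : Module.End K W} (h : (x - 1) * (x - 1) = 0) :
    x ^ p = 1 := by
  haveI : CharP (Module.End K W) p :=
    charP_of_injective_algebraMap (algebraMap K (Module.End K W)).injective p
  have := add_pow_char_of_commute p (Commute.one_right (x - 1))
  rw [sub_add_cancel, one_pow] at this
  rw [this]
  obtain ⟨k, hk⟩ := Nat.exists_eq_add_of_le (Fact.out : p.Prime).two_le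
  rw [hk, pow_add, pow_two, h, zero_mul, zero_add]

theorem actP_of_sub_quot [Nontrivial W] {ρ : H →* Module.End K W} {U : Submodule K W}
    (hU : ∀ h, ∀ w ∈ U, ρ h w ∈ U) (h1 : ActP p (subRep ρ U hU))
    (h2 : ActP p (quotRep ρ U hU)) : ActP p ρ := by
  intro h
  obtain ⟨i, hi⟩ := h1 h
  obtain ⟨j, hj⟩ := h2 h
  set g := h ^ p ^ (i + j) with hg
  have hs : subRep ρ U hU g = 1 := by
    rw [hg, map_pow, pow_add, pow_mul, hi, one_pow]
  have hq : quotRep ρ U hU g = 1 := by
    rw [hg, map_pow, pow_add, mul_comm, pow_mul, hj, one_pow]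
  have hsq : (ρ g - 1) * (ρ g - 1) = 0 := by
    ext w
    have hmem : ρ g w - w ∈ U := by
      rw [← Submodule.Quotient.eq, ← quotRep_mk hU, hq]
      rfl
    have := congrArg Subtype.val (LinearMap.congr_fun hs ⟨ρ g w - w, hmem⟩)
    rw [subRep_apply] at this
    simp only [Module.End.one_apply] at this
    simp only [Module.End.mul_apply, LinearMap.sub_apply, Module.End.one_apply,
      LinearMap.zero_apply]
    rw [this, sub_self]
  refine ⟨i + j + 1, ?_⟩
  rw [pow_succ, pow_mul, ← map_pow, ← hg, pow_p_of_sq_eq_zero hsq]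

end

/-- `φ` has the wanted properties -/
def Good (a b : H) (φ : H →* S2 K) : Prop :=
  tr (φ a) = 2 ∧ tr (φ b) = 2 ∧ φ a * φ b ≠ φ b * φ a

theorem good_of_not_pGroup {a b : H} (hgen : Subgroup.closure {a, b} = ⊤) {φ : H →* S2 K}
    (ha : tr (φ a) = 2) (hb : tr (φ b) = 2) (hnp : ¬ IsPGroup p φ.range) : Good a b φ := by
  refine ⟨ha, hb, fun hc => hnp ?_⟩
  have hap : φ a ^ p = 1 := pow_p_of_trace_two ha
  have hbp : φ b ^ p = 1 := pow_p_of_trace_two hb
  rintro ⟨_, h, rfl⟩
  refine ⟨1, Subtype.ext ?_⟩
  show φ h ^ p ^ 1 = 1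
  rw [pow_one]
  have hcomm : ∀ x : H, φ x * φ a = φ a * φ x ∧ φ x * φ b = φ b * φ x := by
    intro x
    have hx : x ∈ Subgroup.closure {a, b} := hgen ▸ Subgroup.mem_top x
    induction hx using Subgroup.closure_induction with
    | mem y hy => rcases hy with rfl | rfl; exacts [⟨rfl, hc⟩, ⟨hc.symm, rfl⟩]
    | one => simp
    | mul y z _ _ hy hz =>
      rw [map_mul]
      exact ⟨by rw [mul_assoc, hz.1, ← mul_assoc, hy.1, mul_assoc],
        by rw [mul_assoc, hz.2, ← mul_assoc, hy.2, mul_assoc]⟩
    | inv y _ hy =>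
      rw [map_inv]
      exact ⟨(Commute.inv_left hy.1 : Commute _ _), (Commute.inv_left hy.2 : Commute _ _)⟩
  have hh : h ∈ Subgroup.closure {a, b} := hgen ▸ Subgroup.mem_top h
  induction hh using Subgroup.closure_induction with
  | mem y hy => rcases hy with rfl | rfl; exacts [hap, hbp]
  | one => simp
  | mul y z hy hz ihy ihz =>
    have : Commute (φ y) (φ z) := by
      clear ihy ihz
      induction hz using Subgroup.closure_induction with
      | mem w hw => rcases hw with rfl | rfl; exacts [(hcomm y).1, (hcomm y).2]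
      | one => rw [map_one]; exact Commute.one_right _
      | mul u v _ _ hu hv => rw [map_mul]; exact Commute.mul_right hu hv
      | inv u _ hu => rw [map_inv]; exact Commute.inv_right hu
    rw [map_mul, this.mul_pow, ihy, ihz, mul_one]
  | inv y _ ihy => rw [map_inv, inv_pow, ihy, inv_one]

/-- every linear relation of `ρ` holds for `φ` -/
def RelLe {W : Type*} [AddCommGroup W] [Module K W] (ρ : H →* Module.End K W) (φ : H →* S2 K) :
    Prop :=
  ∀ (s : Finset H) (c : H → K), ∑ h ∈ s, c h • ρ h = 0 →
    ∑ h ∈ s, c h • ((φ h : S2 K) : Matrix (Fin 2) (Fin 2) K) = 0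

universe u

variable {W : Type u} [AddCommGroup W] [Module K W] [FiniteDimensional K W] [Nontrivial W]

/-- **two quadratic elements** -/
theorem exists_hom_two_rel {a b : H} (hgen : Subgroup.closure {a, b} = ⊤)
    (ρ : H →* Module.End K W) (ha : (ρ a - 1) * (ρ a - 1) = 0) (hb : (ρ b - 1) * (ρ b - 1) = 0)
    (f : K[X]) (hf0 : f ≠ 0) (hf : f.Splits) (hfe : aeval (ρ (a * b)) f = 0)
    (hnp : ¬ ActP p ρ) :
    ∃ φ : H →* S2 K, Good a b φ ∧ ¬ IsPGroup p φ.range ∧ RelLe ρ φ := by
  induction hn : Module.finrank K W using Nat.strong_induction_on generalizing W with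
  | _ n IH =>
  classical
  subst hn
  -- an eigenvector
  obtain ⟨lam, v, hv0, hv⟩ : ∃ (lam : K) (v : W), v ≠ 0 ∧ ρ (a * b) v = lam • v := by
    set c := ρ (a * b) with hc
    have hmd : minpoly K c ∣ f := minpoly.dvd K c hfe
    have hsp : (minpoly K c).Splits := Polynomial.Splits.of_dvd hf hf0 hmd
    have hdeg : (minpoly K c).degree ≠ 0 :=
      (minpoly.degree_pos (Algebra.IsIntegral.isIntegral c)).ne'
    obtain ⟨lam, hlam⟩ := hsp.exists_eval_eq_zero hdeg
    have hev : c.HasEigenvalue lam := Module.End.hasEigenvalue_of_isRoot hlam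
    obtain ⟨v, hv⟩ := hev.exists_hasEigenvector
    exact ⟨lam, v, hv.2, Module.End.mem_eigenspace_iff.1 hv.1⟩
  set u := ρ b v with hu
  have h_au : ρ a u = lam • v := by rw [hu, ← Module.End.mul_apply, ← map_mul, hv]
  have hquad : ∀ {x : Module.End K W}, (x - 1) * (x - 1) = 0 → ∀ w, x (x w) = (2 : K) • x w - w := by
    intro x hx w
    have := LinearMap.congr_fun hx w
    simp only [Module.End.mul_apply, LinearMap.sub_apply, Module.End.one_apply,
      LinearMap.zero_apply, map_sub] at this
    rw [two_smul, ← sub_eq_zero]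
    rw [← this]; abel
  have h_bu : ρ b u = (2 : K) • u - v := by rw [hu, hquad hb]
  have hab0 : lam ≠ 0 := by
    intro h0
    refine hv0 ?_
    rw [h0, zero_smul] at hv
    have := congrArg (ρ (a * b)⁻¹) hv
    rwa [← Module.End.mul_apply, ← map_mul, inv_mul_cancel, map_one, map_zero] at this
  have h_av : ρ a v = lam⁻¹ • ((2 : K) • (lam • v) - u) := by
    rw [← h_au, ← hquad ha, h_au, map_smul, smul_smul, inv_mul_cancel₀ hab0, one_smul]
  let U : Submodule K W := Submodule.span K {v, u}
  have hvU : v ∈ U := Submodule.subset_span (Set.mem_insert _ _)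
  have huU : u ∈ U := Submodule.subset_span (Set.mem_insert_of_mem _ rfl)
  have hinv : ∀ h, ∀ w ∈ U, ρ h w ∈ U := by
    refine invariant_of_generators hgen ?_ ?_
    · intro w hw
      obtain ⟨x, y, rfl⟩ := Submodule.mem_span_pair.1 hw
      rw [map_add, map_smul, map_smul, h_au, h_av]
      exact U.add_mem (U.smul_mem _ (U.smul_mem _ (U.sub_mem (U.smul_mem _ (U.smul_mem _ hvU)) huU)))
        (U.smul_mem _ (U.smul_mem _ hvU))
    · intro w hw
      obtain ⟨x, y, rfl⟩ := Submodule.mem_span_pair.1 hw
      rw [map_add, map_smul, map_smul, h_bu, ← hu]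
      exact U.add_mem (U.smul_mem _ huU) (U.smul_mem _ (U.sub_mem (U.smul_mem _ huU) hvU))
  by_cases hU : U = ⊤
  swap
  · -- reduction to a smaller space
    have hUne : U ≠ ⊥ := fun h0 => hv0 (by simpa [h0] using hvU)
    by_cases hsub : ActP p (subRep ρ U hinv)
    · have hq : ¬ ActP p (quotRep ρ U hinv) := fun h => hnp (actP_of_sub_quot hinv hsub h)
      haveI : Nontrivial (W ⧸ U) := Submodule.Quotient.nontrivial_iff.2 hU
      have hlt : Module.finrank K (W ⧸ U) < Module.finrank K W := by
        have h1 := U.finrank_quotient_add_finrank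
        have h2 : 0 < Module.finrank K U := Module.finrank_pos_iff.2 (Submodule.nontrivial_iff_ne_bot.2 hUne)
        omega
      have hproj : ∀ x : H, ∀ g : K[X], ∀ w : W, aeval (quotRep ρ U hinv x) g (Submodule.Quotient.mk w)
          = Submodule.Quotient.mk (aeval (ρ x) g w) := by
        intro x g
        induction g using Polynomial.induction_on' with
        | add g1 g2 h1 h2 => intro w; simp [h1, h2]
        | monomial m r =>
          induction m with
          | zero => intro w; simp [Algebra.algebraMap_eq_smul_one]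
          | succ m ihm =>
            intro w
            rw [← Polynomial.monomial_mul_X, map_mul, map_mul, Module.End.mul_apply,
              Module.End.mul_apply, aeval_X, aeval_X, quotRep_mk, ihm]
      suffices h : ∃ φ : H →* S2 K, Good a b φ ∧ ¬ IsPGroup p φ.range ∧
          RelLe (quotRep ρ U hinv) φ by
        obtain ⟨φ, h1, h2, h3⟩ := h
        refine ⟨φ, h1, h2, fun s c hc => h3 s c ?_⟩
        refine Submodule.linearMap_qext _ (LinearMap.ext fun w => ?_)
        have h4 := congrArg U.mkQ (LinearMap.congr_fun hc w)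
        simp only [LinearMap.comp_apply, LinearMap.sum_apply, LinearMap.smul_apply,
          LinearMap.zero_apply, map_sum, map_smul, map_zero] at h4 ⊢
        exact h4
      refine IH _ hlt (W := W ⧸ U) (quotRep ρ U hinv) ?_ ?_ ?_ hq rfl
      · refine Submodule.linearMap_qext _ ?_
        ext w
        have := congrArg (Submodule.Quotient.mk (p := U)) (LinearMap.congr_fun ha w)
        simpa [quotRep_mk] using this
      · refine Submodule.linearMap_qext _ ?_
        ext w
        have := congrArg (Submodule.Quotient.mk (p := U)) (LinearMap.congr_fun hb w)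
        simpa [quotRep_mk] using this
      · refine Submodule.linearMap_qext _ ?_
        ext w
        simp only [LinearMap.comp_apply, Submodule.mkQ_apply, LinearMap.zero_apply]
        rw [hproj (a * b) f w, hfe]
        simp
    · haveI : Nontrivial U := Submodule.nontrivial_iff_ne_bot.2 hUne
      have hlt : Module.finrank K U < Module.finrank K W := Submodule.finrank_lt hU
      have hproj : ∀ x : H, ∀ g : K[X], ∀ w : U, (aeval (subRep ρ U hinv x) g w : W)
          = aeval (ρ x) g (w : W) := by
        intro x g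
        induction g using Polynomial.induction_on' with
        | add g1 g2 h1 h2 => intro w; simp [h1, h2]
        | monomial m r =>
          induction m with
          | zero => intro w; simp [Algebra.algebraMap_eq_smul_one]
          | succ m ihm =>
            intro w
            rw [← Polynomial.monomial_mul_X, map_mul, map_mul, Module.End.mul_apply,
              Module.End.mul_apply, aeval_X, aeval_X, ihm, subRep_apply]
      suffices h : ∃ φ : H →* S2 K, Good a b φ ∧ ¬ IsPGroup p φ.range ∧
          RelLe (subRep ρ U hinv) φ by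
        obtain ⟨φ, h1, h2, h3⟩ := h
        refine ⟨φ, h1, h2, fun s c hc => h3 s c (LinearMap.ext fun w => Subtype.ext ?_)⟩
        have h4 := LinearMap.congr_fun hc (w : W)
        simpa [subRep_apply, LinearMap.sum_apply] using h4
      refine IH _ hlt (W := U) (subRep ρ U hinv) ?_ ?_ ?_ hsub rfl
      · ext w
        have := LinearMap.congr_fun ha (w : W)
        simpa [subRep_apply] using this
      · ext w
        have := LinearMap.congr_fun hb (w : W)
        simpa [subRep_apply] using this
      · ext w
        rw [hproj (a * b) f w, hfe]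
        simp
  -- `W` is spanned by `v, u`
  have hfr : Module.finrank K W ≤ 2 := by
    rw [← finrank_top K W, ← hU]
    refine (finrank_span_le_card (R := K) ({v, u} : Set W)).trans ?_
    rw [Set.toFinset_insert, Set.toFinset_singleton]
    exact Finset.card_le_two
  have hpos : 0 < Module.finrank K W := Module.finrank_pos
  rcases (show Module.finrank K W = 1 ∨ Module.finrank K W = 2 by omega) with h1 | h2
  · -- one dimension: trivial action
    exfalso
    refine hnp fun h => ⟨0, ?_⟩
    rw [pow_zero, pow_one]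
    have hone : ∀ x : H, (ρ x - 1) * (ρ x - 1) = 0 → ρ x = 1 := by
      intro x hx
      obtain ⟨e, he0, he⟩ := finrank_eq_one_iff'.1 h1
      obtain ⟨t, ht⟩ := he (ρ x e)
      have h' := LinearMap.congr_fun hx e
      simp only [Module.End.mul_apply, LinearMap.sub_apply, Module.End.one_apply,
        LinearMap.zero_apply, ← ht, map_sub, map_smul] at h'
      have h'' : ((t - 1) ^ 2) • e = 0 := by
        rw [← h']
        module
      have ht1 : t = 1 := sub_eq_zero.1 (pow_eq_zero_iff two_ne_zero |>.1
        ((smul_eq_zero.1 h'').resolve_right he0))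
      ext w
      obtain ⟨s, rfl⟩ := he w
      rw [map_smul, ← ht, ht1, one_smul, Module.End.one_apply]
    have hh : h ∈ Subgroup.closure {a, b} := hgen ▸ Subgroup.mem_top h
    induction hh using Subgroup.closure_induction with
    | mem y hy => rcases hy with rfl | rfl; exacts [hone _ ha, hone _ hb]
    | one => simp
    | mul y z _ _ ihy ihz => rw [map_mul, ihy, ihz, one_mul]
    | inv y _ ihy =>
      have := congrArg (fun x => ρ y⁻¹ * x) ihy
      simp only [← map_mul, inv_mul_cancel, map_one, mul_one] at this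
      exact this.symm
  -- two dimensions
  let B := Module.finBasisOfFinrankEq K W h2
  let M : H →* Matrix (Fin 2) (Fin 2) K :=
    (LinearMap.toMatrixAlgEquiv B).toMonoidHom.comp ρ
  have hMsq : ∀ x : H, (ρ x - 1) * (ρ x - 1) = 0 → (M x).det = 1 ∧ (M x).trace = 2 := by
    intro x hx
    have hN : (M x - 1) * (M x - 1) = 0 := by
      show (LinearMap.toMatrixAlgEquiv B (ρ x) - 1) * (LinearMap.toMatrixAlgEquiv B (ρ x) - 1) = 0
      rw [← map_one (LinearMap.toMatrixAlgEquiv B), ← map_sub, ← map_mul, hx, map_zero]
    have hnil : IsNilpotent (M x - 1) := ⟨2, by rw [pow_two, hN]⟩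
    have htr := (Matrix.isNilpotent_trace_of_isNilpotent hnil).eq_zero
    have hdet : (M x - 1).det = 0 := by
      have := congrArg Matrix.det hN
      rw [Matrix.det_mul, Matrix.det_zero] at this
      exact mul_self_eq_zero.1 this
    rw [Matrix.trace_sub, Matrix.trace_one, Matrix.trace_fin_two] at htr
    rw [Matrix.det_fin_two] at hdet
    simp only [Fintype.card_fin, Nat.cast_ofNat] at htr
    simp only [Matrix.sub_apply, Matrix.one_apply_eq, ne_eq, zero_ne_one, one_ne_zero,
      not_false_eq_true, Matrix.one_apply_ne, sub_zero] at hdet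
    constructor
    · rw [Matrix.det_fin_two]; linear_combination hdet + htr
    · rw [Matrix.trace_fin_two]; linear_combination htr
  have hdet1 : ∀ x, (M x).det = 1 := by
    intro x
    have hx : x ∈ Subgroup.closure {a, b} := hgen ▸ Subgroup.mem_top x
    induction hx using Subgroup.closure_induction with
    | mem y hy => rcases hy with rfl | rfl; exacts [(hMsq _ ha).1, (hMsq _ hb).1]
    | one => simp
    | mul y z _ _ ihy ihz => rw [map_mul, Matrix.det_mul, ihy, ihz, one_mul]
    | inv y _ ihy =>
      have h := congrArg Matrix.det (show M y⁻¹ * M y = 1 by rw [← map_mul, inv_mul_cancel, map_one])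
      rwa [Matrix.det_mul, ihy, mul_one, Matrix.det_one] at h
  let φ : H →* S2 K :=
    { toFun := fun x => ⟨M x, hdet1 x⟩
      map_one' := Subtype.ext (map_one M)
      map_mul' := fun x y => Subtype.ext (map_mul M x y) }
  have hta : tr (φ a) = 2 := by
    have := (hMsq a ha).2
    rwa [Matrix.trace_fin_two] at this
  have htb : tr (φ b) = 2 := by
    have := (hMsq b hb).2
    rwa [Matrix.trace_fin_two] at this
  have hnr : ¬ IsPGroup p φ.range := by
    refine fun hP => hnp fun h => ?_
    obtain ⟨k, hk⟩ := hP ⟨φ h, h, rfl⟩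
    refine ⟨k, ?_⟩
    have h' : M h ^ p ^ k = 1 := by
      have h1 : φ (h ^ p ^ k) = 1 := by
        rw [map_pow]; exact congrArg Subtype.val hk
      have h2' : M (h ^ p ^ k) = 1 := congrArg Subtype.val h1
      rwa [map_pow] at h2'
    refine (LinearMap.toMatrixAlgEquiv B).injective ?_
    rw [map_pow, map_one]
    exact h'
  refine ⟨φ, good_of_not_pGroup hgen hta htb hnr, hnr, fun s c hc => ?_⟩
  have h4 := congrArg (LinearMap.toMatrixAlgEquiv B) hc
  rw [map_sum, map_zero] at h4
  simp only [map_smul] at h4
  exact h4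

/-- **two quadratic elements** -/
theorem exists_hom_two {a b : H} (hgen : Subgroup.closure {a, b} = ⊤)
    (ρ : H →* Module.End K W) (ha : (ρ a - 1) * (ρ a - 1) = 0) (hb : (ρ b - 1) * (ρ b - 1) = 0)
    (f : K[X]) (hf0 : f ≠ 0) (hf : f.Splits) (hfe : aeval (ρ (a * b)) f = 0)
    (hnp : ¬ ActP p ρ) :
    ∃ φ : H →* S2 K, Good a b φ ∧ ¬ IsPGroup p φ.range := by
  obtain ⟨φ, h1, h2, -⟩ := exists_hom_two_rel hgen ρ ha hb f hf0 hf hfe hnp
  exact ⟨φ, h1, h2⟩

end CfsgLib.PLocal.SLTwo
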