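import Cfsg.Agent.Lib.PLocal.SLTwo.StableFusion
import Cfsg.Agent.Lib.Fusion.GroupFusion
import Cfsg.Agent.Lib.Fusion.Series
import Cfsg.Agent.Lib.Fusion.CentricNormal

/-!
# Stable fusion systems of groups are constrained
-/

set_option autoImplicit false

namespace CfsgLib.PLocal.SLTwo

open Subgroup Cfsg Cfsg.FusionSystem CfsgLib.Fusion CfsgLib.PLocal
open scoped commutatorElement Pointwise

universe u

variable {Ω : Type u} [Group Ω] {p : ℕ}

theorem opMod_conj {P : Subgroup Ω} {g : Ω} (t : Ω)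
    (h : OpMod p (conjOf t P) (t * g * t⁻¹)) : OpMod p P g := by
  obtain ⟨D, hDN, hND, hpow, hgD⟩ := h
  have hP : conjOf t⁻¹ (conjOf t P) = P := by
    ext x
    simp only [mem_conjOf, inv_inv]
    simp [mul_assoc]
  refine ⟨conjOf t⁻¹ D, ?_, ?_, ?_, mem_conjOf.2 (by simpa using hgD)⟩
  · rw [← hP, ← conjOf_normalizer]; exact Subgroup.map_mono hDN
  · have h1 := Subgroup.map_mono (f := (MulAut.conj t⁻¹).toMonoidHom) hND
    calc normalizer (P : Set Ω) = normalizer ((conjOf t⁻¹ (conjOf t P) : Subgroup Ω) : Set Ω) := by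
          rw [hP]
      _ = conjOf t⁻¹ (normalizer (conjOf t P : Set Ω)) := (conjOf_normalizer t⁻¹ _).symm
      _ ≤ conjOf t⁻¹ (normalizer (D : Set Ω)) := h1
      _ = normalizer (conjOf t⁻¹ D : Set Ω) := conjOf_normalizer t⁻¹ D
  · rintro _ ⟨d, hd, rfl⟩
    obtain ⟨k, hk⟩ := hpow d hd
    refine ⟨k, ?_⟩
    rw [← hP, ← conjOf_centralizer, ← map_pow]
    exact mem_map_of_mem _ hk

theorem normalizerMonoidHom_coe (P : Subgroup Ω) (g : normalizer (P : Set Ω)) (x : P) :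
    ((P.normalizerMonoidHom g x : P) : Ω) = (g : Ω) * x * (g : Ω)⁻¹ := rfl

theorem le_normalizer_map_subtype (N : Subgroup Ω) (D : Subgroup N) [D.Normal] :
    N ≤ normalizer ((D.map N.subtype : Subgroup Ω) : Set Ω) := by
  have h := le_normalizer_map (H := D) N.subtype
  rwa [normalizer_eq_top_iff.2 inferInstance, ← MonoidHom.range_eq_map, range_subtype] at h

variable [Finite Ω] [Fact p.Prime]

/-- a stable fusion system gives stability of the group -/
theorem nStable_of_fusion (S : Sylow p Ω)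
    (hst : ∀ Q : Subgroup Ω, (groupFusionSystem (S : Subgroup Ω)).IsFullyNormalized Q →
      ∀ χ : MulAut ↥Q, χ ∈ (groupFusionSystem (S : Subgroup Ω)).autGroup Q →
      (∀ a : ↥Q, (χ a⁻¹) * a * (χ a⁻¹) * (χ (χ a)) = 1) →
      χ ∈ ((pCore p ↥((groupFusionSystem (S : Subgroup Ω)).autGroup Q)).map
        ((groupFusionSystem (S : Subgroup Ω)).autGroup Q).subtype : Subgroup (MulAut ↥Q))) :
    Cfsg.IsNormalizerPStable p Ω := by
  refine isNormalizerPStable_iff.2 fun P hP g hg hq => ?_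
  obtain ⟨U, hU⟩ := hP.exists_le_sylow
  obtain ⟨t0, ht0⟩ := MulAction.exists_smul_eq Ω U S
  have hle : conjOf t0 P ≤ (S : Subgroup Ω) := by
    rw [← ht0]
    rintro _ ⟨x, hx, rfl⟩
    exact ⟨x, hU hx, rfl⟩
  obtain ⟨t1, hle1, hN1⟩ := exists_sylow_normalizer_conj S hle
  refine opMod_conj t0 (opMod_conj t1 ?_)
  set Q := conjOf t1 (conjOf t0 P) with hQ
  set h := t1 * (t0 * g * t0⁻¹) * t1⁻¹ with hh
  have hhN : h ∈ normalizer (Q : Set Ω) := by
    rw [hQ, ← conjOf_normalizer, ← conjOf_normalizer]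
    exact conj_mem_conjOf (conj_mem_conjOf hg)
  have hqQ : ⁅⁅Q, zpowers h⁆, zpowers h⁆ = ⊥ := by
    have e : zpowers h = conjOf t1 (conjOf t0 (zpowers g)) := by
      show _ = map _ (map _ (zpowers g))
      rw [MonoidHom.map_zpowers, MonoidHom.map_zpowers]; rfl
    rw [e, hQ]
    show ⁅⁅map _ (map _ P), map _ (map _ (zpowers g))⁆, map _ (map _ (zpowers g))⁆ = ⊥
    rw [← map_commutator, ← map_commutator, ← map_commutator, ← map_commutator, hq,
      Subgroup.map_bot, Subgroup.map_bot]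
  have hfull := (groupFusion_fullyNormalized_iff S hle1).2 hN1
  set F := groupFusionSystem (S : Subgroup Ω) with hF
  set A := F.autGroup Q with hA
  have hmemA : ∀ x : normalizer (Q : Set Ω), Q.normalizerMonoidHom x ∈ A := fun x =>
    (mem_autGroup_iff hle1).2 ⟨hle1, fun a => hle1 (Q.normalizerMonoidHom x a).2, x.1, fun a => rfl⟩
  set e := Q.normalizerMonoidHom.codRestrict A hmemA with he
  have hquad : ∀ a : ↥Q, Q.normalizerMonoidHom ⟨h, hhN⟩ a⁻¹ * a *
      Q.normalizerMonoidHom ⟨h, hhN⟩ a⁻¹ *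
      Q.normalizerMonoidHom ⟨h, hhN⟩ (Q.normalizerMonoidHom ⟨h, hhN⟩ a) = 1 := by
    intro a
    refine Subtype.ext ?_
    simp only [Subgroup.coe_mul, normalizerMonoidHom_coe, Subgroup.coe_inv, Subgroup.coe_one]
    set c := (a : Ω)⁻¹ * h * a * h⁻¹ with hc
    have hcm : c ∈ ⁅Q, zpowers h⁆ := by
      have := commutator_mem_commutator (Q.inv_mem a.2) (mem_zpowers h)
      simpa [commutatorElement_def] using this
    have hcomm : Commute h c := mem_centralizer_iff.1
      ((commutator_eq_bot_iff_le_centralizer.1 hqQ) hcm) h (mem_zpowers h)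
    have h1 : (a : Ω)⁻¹ * h⁻¹ * a = h⁻¹ * c⁻¹ := by rw [hc]; group
    calc h * (a : Ω)⁻¹ * h⁻¹ * a * (h * (a : Ω)⁻¹ * h⁻¹) * (h * (h * a * h⁻¹) * h⁻¹)
        = h * ((a : Ω)⁻¹ * h⁻¹ * a) * h * c * h⁻¹ := by rw [hc]; group
      _ = h * (h⁻¹ * c⁻¹) * (c * h) * h⁻¹ := by rw [h1, ← hcomm.eq]; simp only [mul_assoc]
      _ = 1 := by group
  obtain ⟨b, hb, hbe⟩ := hst Q hfull _ (hmemA ⟨h, hhN⟩) hquad
  haveI := CfsgLib.Core.normal_pCore p A
  haveI : ((pCore p A).comap e).Normal := inferInstance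
  refine ⟨((pCore p A).comap e).map (normalizer (Q : Set Ω)).subtype, map_subtype_le _, ?_, ?_,
    ⟨⟨h, hhN⟩, ?_, rfl⟩⟩
  · exact le_normalizer_map_subtype _ _
  · rintro _ ⟨d, hd, rfl⟩
    obtain ⟨k, hk⟩ := CfsgLib.Core.isPGroup_pCore p A ⟨e d, hd⟩
    have hk1 : e (d ^ p ^ k) = 1 := by rw [map_pow]; exact congrArg Subtype.val hk
    have hk2 : d ^ p ^ k ∈ Q.normalizerMonoidHom.ker := congrArg Subtype.val hk1
    rw [normalizerMonoidHom_ker] at hk2
    exact ⟨k, hk2⟩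
  · show e ⟨h, hhN⟩ ∈ pCore p A
    rwa [show e ⟨h, hhN⟩ = b from Subtype.ext hbe.symm]

theorem centerThompsonA_comm {G : Type*} [Group G] (P : Subgroup G) :
    IsMulCommutative ↥(centerThompsonAOf P) := by
  refine le_centralizer_iff_isMulCommutative.1 fun x hx => ?_
  rw [mem_centralizer_iff]
  intro y hy
  exact mem_centralizer_iff.1 hx.2 y hy.1

/-- `Z(J)` is normal in the fusion system of a stable group -/
theorem isNormal_zjA (hp : p ≠ 2) (hst : Cfsg.IsNormalizerPStable p Ω) (S : Sylow p Ω) :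
    (groupFusionSystem (S : Subgroup Ω)).IsNormal (centerThompsonAOf (S : Subgroup Ω)) := by
  set Z := centerThompsonAOf (S : Subgroup Ω) with hZ
  have hZS : Z ≤ (S : Subgroup Ω) := centerThompsonA_le _
  refine ⟨hZS, fun P φ hφ => ?_⟩
  obtain ⟨hP, hφS, g, hg⟩ := hφ
  obtain ⟨-, hx⟩ := zjA_controls_of_nStable hp hst S (P : Set Ω) hP
  obtain ⟨x, hxN, hxg⟩ := hx g (by
    rintro _ ⟨a, ha, rfl⟩
    have := hφS ⟨a, ha⟩
    rwa [hg] at this)
  refine ⟨conjHom (P ⊔ Z) x, ⟨sup_le hP hZS, fun y => ?_, x, fun y => rfl⟩, fun y => ?_,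
    normalizerIn_conj_map hxN⟩
  · have hle : conjOf x (P ⊔ Z) ≤ (S : Subgroup Ω) := by
      show map _ (P ⊔ Z) ≤ _
      rw [Subgroup.map_sup]
      refine sup_le ?_ ?_
      · rintro _ ⟨a, ha, rfl⟩
        have := hφS ⟨a, ha⟩
        rw [hg, hxg a ha] at this
        exact this
      · rintro _ ⟨a, ha, rfl⟩
        exact hZS ((mem_normalizer_iff.1 hxN a).1 ha)
    exact hle (conj_mem_conjOf y.2)
  · rw [hg]
    exact (hxg _ y.2).symm

/-- the fusion system of a stable group has a centric normal subgroup -/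
theorem isConstrained_of_nStable (hp : p ≠ 2) (hst : Cfsg.IsNormalizerPStable p Ω)
    (S : Sylow p Ω) : (groupFusionSystem (S : Subgroup Ω)).IsConstrained p := by
  classical
  set F := groupFusionSystem (S : Subgroup Ω) with hFdef
  have hsat : F.IsSaturated p := groupFusion_saturated S
  have hS : IsPGroup p (S : Subgroup Ω) := S.isPGroup'
  set Q := F.core with hQ
  have hQn : F.IsNormal Q := core_isNormal
  have hQS : Q ≤ (S : Subgroup Ω) := hQn.1
  have hsc : F.StronglyClosed Q := IsNormal.stronglyClosed hQn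
  refine ⟨hsat, Q, hQn, hQS, fun R hR => ?_⟩
  obtain ⟨ψ, hψ, rfl⟩ := hR
  rw [(StronglyClosed.weaklyClosed hsc).2 ψ hψ]
  -- `C_S(Q) ≤ Q`
  set C := centralizer (Q : Set Ω) with hC
  set T := centralizerIn (S : Subgroup Ω) Q with hT
  have hTC : T ≤ C := inf_le_right
  have hTsyl : IsSylowIn p T C :=
    (sylow_parts S ((groupFusion_fullyNormalized_iff S hQS).1 (IsNormal.fullyNormalized hQn))).1
  obtain ⟨T', hT'⟩ := hTsyl
  set Zq := (Q ⊓ T).subgroupOf C with hZq
  have hZqc : ∀ z ∈ Zq, ∀ c : C, c * z = z * c := fun z hz c => Subtype.ext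
    ((mem_centralizer_iff.1 c.2 (z : Ω) (mem_inf.1 (mem_subgroupOf.1 hz)).1).symm)
  haveI : Zq.Normal := ⟨fun z hz c => by rw [hZqc z hz c, mul_inv_cancel_right]; exact hz⟩
  set π := QuotientGroup.mk' Zq with hπ
  have hker : π.ker ≤ T.subgroupOf C := by
    rw [hπ, QuotientGroup.ker_mk', hZq]
    exact Subgroup.comap_mono inf_le_right
  have hX : Cfsg.IsNormalizerPStable p (C ⧸ Zq) := by
    refine nStable_of_central_kernel hp π (QuotientGroup.mk'_surjective _) (nStable_subgroup hst C)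
      ((isPGroup_subgroupOf hTC (hS.to_le inf_le_left)).to_le hker) fun c _ => ?_
    rw [mem_centralizer_iff]
    intro z hz
    refine (hZqc z ?_ c).symm
    rwa [hπ, QuotientGroup.ker_mk'] at hz
  set Tb := T'.mapSurjective (QuotientGroup.mk'_surjective Zq) with hTb
  have hTbe : (Tb : Subgroup (C ⧸ Zq)) = (T.subgroupOf C).map π := by
    rw [hTb, Sylow.coe_mapSurjective, hT']
  set Zb := centerThompsonAOf (Tb : Subgroup (C ⧸ Zq)) with hZb
  set W := (Zb.comap π).map C.subtype with hW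
  have hWT : W ≤ T := by
    rintro _ ⟨x, hx, rfl⟩
    have h := centerThompsonA_le _ (hx : π x ∈ Zb)
    rw [hTbe] at h
    obtain ⟨y, hy, hxy⟩ := h
    have h2 : y⁻¹ * x ∈ π.ker := by rw [MonoidHom.mem_ker, map_mul, map_inv, hxy, inv_mul_cancel]
    have h3 := mul_mem (show y ∈ T.subgroupOf C from hy) (hker h2)
    rw [mul_inv_cancel_left] at h3
    exact h3
  have hWS : W ≤ (S : Subgroup Ω) := hWT.trans inf_le_left
  have hWC : W ≤ C := hWT.trans hTC
  have hext : ∀ {R : Subgroup Ω} (φ : R →* Ω), φ ∈ F.Hom R →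
      ∃ g ∈ normalizer (Q : Set Ω), ∀ x : R, φ x = g * x * g⁻¹ := by
    intro R φ hφ
    obtain ⟨χ, hχ, hχφ, hχQ⟩ := hQn.2 R φ hφ
    obtain ⟨-, -, g, hg⟩ := hχ
    refine ⟨g, mem_normalizer_iff.2 fun y => ?_, fun x => by rw [← hχφ x, hg]; rfl⟩
    constructor
    · intro hy
      rw [← hχQ]
      exact ⟨⟨y, le_sup_right (a := R) hy⟩, hy, hg _⟩
    · intro hy
      rw [← hχQ] at hy
      obtain ⟨z, hz, hze⟩ := hy
      rw [hg] at hze
      have : (z : Ω) = y := mul_left_cancel (mul_right_cancel hze)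
      rw [← this]; exact hz
  have hgC : ∀ g ∈ normalizer (Q : Set Ω), g ∈ normalizer (C : Set Ω) := fun g hg =>
    CfsgLib.Techniques.normalizer_le_normalizer_centralizer hg
  have hZqsc : F.StronglyClosed (Q ⊓ T) := by
    refine ⟨inf_le_left.trans hQS, fun R hR φ hφ x => ?_⟩
    obtain ⟨g, hgQ, hg⟩ := hext φ hφ
    obtain ⟨hxQ, -, hxC⟩ := hR x.2
    refine ⟨?_, (F.le_of_mem hφ).2 x, ?_⟩
    · rw [hg]; exact (mem_normalizer_iff.1 hgQ _).1 hxQ
    · rw [hg]; exact (mem_normalizer_iff.1 (hgC g hgQ) _).1 hxC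
  -- `W` is strongly closed
  have hWsc : F.StronglyClosed W := by
    refine ⟨hWS, fun R hR φ hφ x => ?_⟩
    obtain ⟨g, hgQ, hg⟩ := hext φ hφ
    obtain ⟨w, hw, hwx⟩ := hR x.2
    have hyT : φ x ∈ T := ⟨(F.le_of_mem hφ).2 x, by
      rw [hg]; exact (mem_normalizer_iff.1 (hgC g hgQ) _).1 (hwx ▸ w.2)⟩
    have hTg : conjOf g T ≤ C := by
      rintro _ ⟨a, ha, rfl⟩
      exact (mem_normalizer_iff.1 (hgC g hgQ) _).1 ha.2
    obtain ⟨c, hc, hcT⟩ := (show IsSylowIn p T C from ⟨T', hT'⟩).exists_conj_mem hTg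
      ((hS.to_le inf_le_left).map _)
    set n := c * g with hn
    have hnT : conjOf n T = T := by
      refine Subgroup.eq_of_le_of_card_ge ?_ (card_conjOf n T).ge
      rintro _ ⟨a, ha, rfl⟩
      have := hcT _ (conj_mem_conjOf (g := g) ha)
      show n * a * n⁻¹ ∈ T
      rw [hn]
      simpa [mul_assoc] using this
    have hcQ : c ∈ normalizer (Q : Set Ω) := centralizer_le_normalizer _ hc
    have hnQ : n ∈ normalizer (Q : Set Ω) := mul_mem hcQ hgQ
    let nn : normalizer (C : Set Ω) := ⟨n, hgC n hnQ⟩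
    set a := C.normalizerMonoidHom nn with ha
    have haZ : Zq.map a.toMonoidHom = Zq := by
      ext y
      constructor
      · rintro ⟨z, hz, rfl⟩
        obtain ⟨hzQ, hzT⟩ := mem_inf.1 (mem_subgroupOf.1 hz)
        exact mem_subgroupOf.2 ⟨(mem_normalizer_iff.1 hnQ _).1 hzQ, hnT.le (conj_mem_conjOf hzT)⟩
      · intro hy
        obtain ⟨hyQ, hyT'⟩ := mem_inf.1 (mem_subgroupOf.1 hy)
        have hy' : (y : Ω) = n * (a.symm y : C) * n⁻¹ := by
          conv_lhs => rw [← a.apply_symm_apply y]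
          rfl
        refine ⟨a.symm y, mem_subgroupOf.2 ⟨?_, ?_⟩, a.apply_symm_apply y⟩
        · exact (mem_normalizer_iff.1 hnQ _).2 (hy' ▸ hyQ)
        · rw [← hnT, mem_conjOf] at hyT'
          rw [hy'] at hyT'
          simpa [mul_assoc] using hyT'
    let b : C ⧸ Zq ≃* C ⧸ Zq := QuotientGroup.congr Zq Zq a haZ
    have hTb' : (Tb : Subgroup (C ⧸ Zq)).map b.toMonoidHom = Tb := by
      refine Subgroup.eq_of_le_of_card_ge ?_
        (Subgroup.card_map_of_injective b.injective).ge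
      rw [hTbe]
      rintro _ ⟨_, ⟨y, hy, rfl⟩, rfl⟩
      exact ⟨a y, hnT.le (conj_mem_conjOf (show (y : Ω) ∈ T from hy)), rfl⟩
    have hinj : Function.Injective b.toMonoidHom := b.injective
    have hZb' : Zb.map b.toMonoidHom = Zb := by
      rw [hZb, centerThompsonA_map b.toMonoidHom _
        (by rw [(MonoidHom.ker_eq_bot_iff _).2 hinj]; exact disjoint_bot_right), hTb']
    set w' := a w with hw'
    have hw'Z : π w' ∈ Zb := by
      rw [← hZb']
      exact ⟨π w, hw, rfl⟩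
    let c' : C := ⟨c, hc⟩
    have hval : ((c'⁻¹ * w' * c' : C) : Ω) = φ x := by
      show c⁻¹ * (n * (w : Ω) * n⁻¹) * c = φ x
      rw [hn, hg, show (w : Ω) = (x : Ω) from hwx]
      group
    have hyb : π (c'⁻¹ * w' * c') ∈ (Tb : Subgroup (C ⧸ Zq)) := by
      rw [hTbe]
      refine mem_map_of_mem _ ?_
      rw [mem_subgroupOf, hval]
      exact hyT
    obtain ⟨-, hctrl⟩ := zjA_controls_of_nStable hp hX Tb {π w'}
      (by rintro _ rfl; exact centerThompsonA_le _ hw'Z)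
    obtain ⟨m, hm, hme⟩ := hctrl (π c'⁻¹) (by
      rintro _ ⟨_, rfl, rfl⟩
      show π c'⁻¹ * π w' * (π c'⁻¹)⁻¹ ∈ _
      rw [map_inv, inv_inv, ← map_inv, ← map_mul, ← map_mul]
      exact hyb)
    refine ⟨c'⁻¹ * w' * c', ?_, hval⟩
    show π (c'⁻¹ * w' * c') ∈ Zb
    have := hme (π w') rfl
    simp only [map_inv, inv_inv] at this
    rw [map_mul, map_mul, map_inv, this]
    exact (mem_normalizer_iff.1 hm _).1 hw'Z
  have hWn : F.IsNormal W := by
    refine isNormal_of_series hS hsat hWsc (n := 2) ![⊥, Q ⊓ T, W] rfl rfl ?_ ?_ ?_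
    · have h1 : Q ⊓ T ≤ W := fun z hz => by
        refine ⟨⟨z, hTC hz.2⟩, ?_, rfl⟩
        show π ⟨z, hTC hz.2⟩ ∈ Zb
        rw [show π ⟨z, hTC hz.2⟩ = 1 from (QuotientGroup.eq_one_iff _).2 hz]
        exact one_mem _
      intro i j hij
      fin_cases i <;> fin_cases j <;> simp_all
    · intro i
      fin_cases i
      · show ⁅Q ⊓ T, W⁆ ≤ ⊥
        rw [Subgroup.commutator_le]
        intro z hz y hy
        rw [Subgroup.mem_bot, commutatorElement_eq_one_iff_mul_comm]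
        exact mem_centralizer_iff.1 (hWC hy) z hz.1
      · show ⁅W, W⁆ ≤ Q ⊓ T
        rw [Subgroup.commutator_le]
        rintro _ ⟨y, hy, rfl⟩ _ ⟨z, hz, rfl⟩
        have h1 : π ⁅y, z⁆ = 1 := by
          rw [map_commutatorElement, commutatorElement_eq_one_iff_mul_comm]
          exact congrArg Subtype.val ((centerThompsonA_comm (Tb : Subgroup (C ⧸ Zq))).is_comm.comm
            (⟨π y, hy⟩ : Zb) ⟨π z, hz⟩)
        exact (QuotientGroup.eq_one_iff (⁅y, z⁆ : C)).1 h1
    · intro i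
      fin_cases i
      · exact StronglyClosed.weaklyClosed stronglyClosed_bot
      · exact StronglyClosed.weaklyClosed hZqsc
  have hWQ : W ≤ Q := le_core hWn
  have hZb0 : Zb = ⊥ := by
    refine (Subgroup.eq_bot_iff_forall _).2 fun z hz => ?_
    obtain ⟨y, rfl⟩ := QuotientGroup.mk'_surjective Zq z
    have hyW : (y : Ω) ∈ W := ⟨y, hz, rfl⟩
    exact (QuotientGroup.eq_one_iff _).2 (show (y : Ω) ∈ Q ⊓ T from ⟨hWQ hyW, hWT hyW⟩)
  have hTb0 : (Tb : Subgroup (C ⧸ Zq)) = ⊥ := by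
    by_contra hne
    exact centerThompsonA_ne_bot Tb.isPGroup' hne hZb0
  intro x hx
  have : π ⟨x, hTC hx⟩ ∈ (Tb : Subgroup (C ⧸ Zq)) := by
    rw [hTbe]; exact mem_map_of_mem _ hx
  rw [hTb0, mem_bot] at this
  exact ((QuotientGroup.eq_one_iff (⟨x, hTC hx⟩ : C)).1 this : x ∈ Q ⊓ T).1

end CfsgLib.PLocal.SLTwo
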